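import Cfsg.Agent.H41.UDec.Elems
import Cfsg.Agent.H51.StabMaxU

/-! Centres of full transvection groups inside a subgroup of `SUGL n F q`. -/

set_option autoImplicit false
set_option linter.unusedSectionVars false

namespace H41.UDec

open Matrix Cfsg Cfsg.Geo H45 H50

variable {F : Type*} [Field F] [Fintype F] {n q : ℕ}

/-- All transvections with centre `v` lie in `M`. -/
def Ctr (q : ℕ) (M : Subgroup (GL (Fin n) F)) (v : Fin n → F) : Prop :=
  ∃ hv : hermForm n F q v v = 0, ∀ c, c + c ^ q = 0 → utv v hv c ∈ M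

theorem Ctr.iso {M : Subgroup (GL (Fin n) F)} {v : Fin n → F} (h : Ctr q M v) :
    hermForm n F q v v = 0 := h.1

theorem ctr_zero (M : Subgroup (GL (Fin n) F)) : Ctr q M (0 : Fin n → F) := by
  refine ⟨h_zero_left _, fun c _ => ?_⟩
  have : utv (q := q) (0 : Fin n → F) (h_zero_left _) c = 1 := gl_ext fun x => by
    rw [act_utv, act_one, smul_zero, add_zero]
  rw [this]; exact M.one_mem

variable (hF : Fintype.card F = q ^ 2) {M : Subgroup (GL (Fin n) F)}
include hF

theorem conj_utv {g : GL (Fin n) F} (hg : g ∈ GU n F q) (v : Fin n → F)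
    (hv : hermForm n F q v v = 0) (c : F) :
    g * utv v hv c * g⁻¹ = utv (act g v) (by rw [mem_GU.mp hg v v]; exact hv) c := by
  refine gl_ext fun x => ?_
  have e1 : hermForm n F q x (act g v) = hermForm n F q (act g⁻¹ x) v := by
    rw [← mem_GU.mp hg (act g⁻¹ x) v]
    change _ = hermForm n F q (act g (act g⁻¹ x)) (act g v)
    rw [act_act_inv]
  rw [act_mul, act_mul, act_utv, act_utv, act_add, act_smul, act_act_inv, e1]

theorem ctr_act (hM : M ≤ SUGL n F q) {g : GL (Fin n) F} (hg : g ∈ M) {v : Fin n → F}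
    (hv : Ctr q M v) : Ctr q M (act g v) := by
  obtain ⟨h, hm⟩ := hv
  refine ⟨by rw [(mem_SUGL.mp (hM hg)).1]; exact h, fun c hc => ?_⟩
  have := mul_mem (mul_mem hg (hm c hc)) (inv_mem hg)
  rwa [conj_utv hF (hM hg).1] at this

theorem ctr_of_act (hM : M ≤ SUGL n F q) {g : GL (Fin n) F} (hg : g ∈ M) {v : Fin n → F}
    (hv : Ctr q M (act g v)) : Ctr q M v := by
  have := ctr_act hF hM (inv_mem hg) hv
  rwa [act_inv_act] at this

theorem ctr_smul {v : Fin n → F} (hv : Ctr q M v) (a : F) : Ctr q M (a • v) := by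
  obtain ⟨h, hm⟩ := hv
  refine ⟨by rw [h_smul_left, h_smul_right hF, h, mul_zero, mul_zero], fun c hc => ?_⟩
  have e : utv (a • v) (by rw [h_smul_left, h_smul_right hF, h, mul_zero, mul_zero]) c =
      utv v h (c * (a * a ^ q)) := gl_ext fun x => by
    rw [act_utv, act_utv, h_smul_right hF, smul_smul]
    congr 2
    ring
  rw [e]
  refine hm _ ?_
  rw [mul_pow, mul_pow, pow_q_pow_q hF]
  linear_combination (a * a ^ q) * hc

theorem ctr_step (hM : M ≤ SUGL n F q) {v w : Fin n → F} (hw : Ctr q M w) (hv : Ctr q M v) {c : F}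
    (hc : c + c ^ q = 0) : Ctr q M (v + (c * hermForm n F q v w) • w) := by
  obtain ⟨h, hm⟩ := hw
  have := ctr_act hF hM (hm c hc) hv
  rwa [act_utv] at this

theorem ctr_back (hM : M ≤ SUGL n F q) {v w : Fin n → F} (hw : Ctr q M w) {c : F}
    (hc : c + c ^ q = 0) (hv : Ctr q M (v + (c * hermForm n F q v w) • w)) : Ctr q M v := by
  obtain ⟨h, hm⟩ := hw
  refine ctr_of_act hF hM (hm c hc) ?_
  rwa [act_utv]

/-- All isotropic vectors are centres: `M` is everything. -/
theorem eq_of_ctr (hn : 4 ≤ n) (hM : M ≤ SUGL n F q)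
    (h : ∀ v, hermForm n F q v v = 0 → Ctr q M v) : M = SUGL n F q := by
  refine le_antisymm hM fun g hg => ?_
  obtain ⟨s, rfl⟩ := H51.StabMax.exists_suHom_eq hg
  have : M.comap (H51.StabMax.suHom n F q) = ⊤ := by
    refine H51.StabMax.eq_top_of_ctr hF hn _ fun v hv => ⟨hv, fun A c hc hA => ?_⟩
    obtain ⟨h', hm⟩ := h v hv
    rw [Subgroup.mem_comap]
    convert hm c hc
    exact Units.ext hA
  have h' : s ∈ M.comap (H51.StabMax.suHom n F q) := by rw [this]; trivial
  exact h'

theorem rf_transvection {v : Fin n → F} (hv : hermForm n F q v v = 0) {c : F}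
    (hc : c + c ^ q = 0) :
    rf hF v c (by rw [hv, mul_zero, add_zero]; exact hc) = utv v hv c := rfl

/-- `M` contains an element acting as `N ∈ SU_k` on the coordinates `p`, when it contains the
transvections there. -/
theorem emb_su_mem {k : ℕ} (hk : 1 ≤ k) (h32 : ¬ (k = 3 ∧ q = 2)) {p : Fin k → Fin n}
    (hp : Function.Injective p)
    (h : ∀ v : Fin k → F, hermForm k F q v v = 0 → Ctr q M (inj p v))
    (N : Matrix (Fin k) (Fin k) F) (hN : IsIso q N) (hd : N.det = 1) :
    gl hF (embMat p N) (embMat_iso hF hp hN) ∈ M := by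
  let T : Subgroup (SU k F q) :=
    { carrier := {s | gl hF (embMat p (suMat s)) (embMat_iso hF hp (SU_isIso s)) ∈ M}
      mul_mem' := fun {a b} ha hb => by
        have : gl hF (embMat p (suMat (a * b))) (embMat_iso hF hp (SU_isIso (a * b))) =
            gl hF (embMat p (suMat a)) (embMat_iso hF hp (SU_isIso a)) *
              gl hF (embMat p (suMat b)) (embMat_iso hF hp (SU_isIso b)) :=
          Units.ext (by
            change embMat p (suMat (a * b)) = embMat p (suMat a) * embMat p (suMat b)
            rw [suMat_mul, embMat_mul hp])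
        change _ ∈ M
        rw [this]; exact mul_mem ha hb
      one_mem' := by
        have : gl hF (embMat p (suMat (1 : SU k F q))) (embMat_iso hF hp (SU_isIso _)) =
            (1 : GL (Fin n) F) := Units.ext (by
          change embMat p (suMat (1 : SU k F q)) = 1
          rw [suMat_one, embMat_one])
        change _ ∈ M
        rw [this]; exact one_mem M
      inv_mem' := fun {a} ha => by
        have : gl hF (embMat p (suMat a⁻¹)) (embMat_iso hF hp (SU_isIso a⁻¹)) =
            (gl hF (embMat p (suMat a)) (embMat_iso hF hp (SU_isIso a)))⁻¹ :=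
          eq_inv_of_mul_eq_one_left (Units.ext (by
            change embMat p (suMat a⁻¹) * embMat p (suMat a) = 1
            rw [← embMat_mul hp, ← suMat_mul, inv_mul_cancel, suMat_one, embMat_one]))
        change _ ∈ M
        rw [this]; exact inv_mem ha }
  have hT : T = ⊤ := by
    rw [eq_top_iff, ← transSub_eq_top hF k hk h32, transSub, Subgroup.closure_le]
    rintro A ⟨v, c, hv, hA⟩
    change _ ∈ M
    rcases eq_or_ne v 0 with rfl | hv0
    · convert M.one_mem
      refine gl_ext fun x => ?_
      rw [act_gl, act_one, embMat_mulVec, hA, ut_mulVec, smul_zero, add_zero, sub_self, inj,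
        mulVec_zero, add_zero]
    · have hc := (ut_isIso_iff hF hv0 (c := c)).1 (hA ▸ SU_isIso A)
      rw [hv, mul_zero, add_zero] at hc
      obtain ⟨h', hm⟩ := h v hv
      convert hm c hc
      refine Units.ext ?_
      change embMat p (suMat A) = unitaryTransvection n q (inj p v) c
      rw [hA]
      exact embMat_ut v c fun x => h_inj_right hF p x v
  have : mkSU N hN hd ∈ T := by rw [hT]; trivial
  exact this

end H41.UDec
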