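import Cfsg.Agent.H41.UDec.Centres
import Cfsg.Agent.H50.Hyperbolic

/-! Vectors inside one member. -/

set_option autoImplicit false
set_option linter.unusedSectionVars false

namespace H41.UDec

open Matrix Cfsg Cfsg.Geo H45 H50

variable {F : Type*} [Field F] [Fintype F] {k q : ℕ} (hF : Fintype.card F = q ^ 2)
include hF

theorem gramND_vec {p : Fin k → F} (hp : hermForm k F q p p ≠ 0) :
    GramND q (fun _ : Unit => p) := fun c hc => funext fun u => by
  have := hc u
  simp only [Fintype.univ_punit, Finset.sum_singleton, h_smul_left, mul_eq_zero] at this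
  exact this.resolve_right hp

/-- A vector with given norm and inner product. -/
theorem exists_vec (hk : 2 ≤ k) {p : Fin k → F} (hp : p ≠ 0) {b : F} (hb : b ^ q = b) (r : F)
    (h : hermForm k F q p p ≠ 0 ∨ r ≠ 0) :
    ∃ x, hermForm k F q x x = b ∧ hermForm k F q p x = r := by
  by_cases ha : hermForm k F q p p = 0
  · have hr : r ≠ 0 := h.resolve_left (fun h' => h' ha)
    obtain ⟨f, -, hff, hpf⟩ := exists_hyp_partner hF hp ha
    have hfp : hermForm k F q f p = 1 := by rw [h_symm hF p f, hpf, one_pow]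
    obtain ⟨z, hz⟩ := exists_trace_eq hF hb
    refine ⟨(z / r) • p + (r ^ q) • f, ?_, ?_⟩
    · simp only [h_add_left, h_add_right hF, h_smul_left, h_smul_right hF, ha, hff, hpf, hfp,
        pow_q_pow_q hF, div_pow]
      have := pow_ne_zero q hr
      field_simp
      linear_combination (r ^ q * r) * hz
    · simp only [h_add_right hF, h_smul_right hF, ha, hpf, pow_q_pow_q hF, mul_zero, zero_add,
        mul_one]
  · obtain ⟨d, hd, hdp⟩ := exists_completion hF (gramND_vec hF ha)
    set a := hermForm k F q p p with hadef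
    have haq : a ^ q = a := by rw [hadef, h_self_fixed hF]
    let i₀ : Fin (k - Fintype.card Unit) := ⟨0, by simp; omega⟩
    let d₀ := d i₀
    have hd0 : hermForm k F q d₀ d₀ = 1 := by
      have := hd i₀ i₀
      rwa [if_pos rfl] at this
    have hdp0 : hermForm k F q d₀ p = 0 := hdp _ ()
    have hpd0 : hermForm k F q p d₀ = 0 := (h_eq_zero_comm hF).1 hdp0
    obtain ⟨l, hl⟩ := H50.exists_norm_eq hF (c := b - r * r ^ q / a) (by
      rw [H50.sub_pow_q hF, hb, div_pow, haq, mul_pow, pow_q_pow_q hF, mul_comm r])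
    refine ⟨(r ^ q / a) • p + l • d₀, ?_, ?_⟩
    · simp only [h_add_left, h_add_right hF, h_smul_left, h_smul_right hF, ← hadef, hd0, hdp0, hpd0,
        div_pow, haq, pow_q_pow_q hF]
      rw [pow_succ] at hl
      field_simp at hl ⊢
      linear_combination hl
    · simp only [h_add_right hF, h_smul_right hF, ← hadef, hpd0, div_pow, haq, pow_q_pow_q hF,
        mul_zero, add_zero, div_mul_cancel₀ _ ha]

/-- An isotropic vector orthogonal to a given one. -/
theorem exists_iso_perp (hk : 3 ≤ k) {p : Fin k → F} (ha : hermForm k F q p p ≠ 0) :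
    ∃ d, d ≠ 0 ∧ hermForm k F q d d = 0 ∧ hermForm k F q p d = 0 := by
  obtain ⟨d, hd, hdp⟩ := exists_completion hF (gramND_vec hF ha)
  let i : Fin (k - Fintype.card Unit) := ⟨0, by simp; omega⟩
  let j : Fin (k - Fintype.card Unit) := ⟨1, by simp; omega⟩
  have hij : i ≠ j := by simp [i, j, Fin.ext_iff]
  obtain ⟨ξ, hξ⟩ := H50.exists_norm_eq hF (c := -1) (by rw [H50.neg_pow_q hF, one_pow])
  rw [pow_succ] at hξ
  refine ⟨d i + ξ • d j, fun h => ?_, ?_, ?_⟩
  · have := congrArg (fun v => hermForm k F q v (d i)) h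
    simp only [h_add_left, h_smul_left, h_zero_left, hd i i, hd j i, if_pos, if_neg hij.symm,
      mul_zero, add_zero] at this
    exact one_ne_zero this
  · simp only [h_add_left, h_add_right hF, h_smul_left, h_smul_right hF, hd i i, hd i j, hd j i,
      hd j j, if_neg hij, if_neg hij.symm, if_pos]
    linear_combination hξ
  · simp only [h_add_right hF, h_smul_right hF, (h_eq_zero_comm hF).1 (hdp i ()),
      (h_eq_zero_comm hF).1 (hdp j ()), mul_zero, add_zero]

/-- Non-zero vectors of the same norm are related by an isometry. -/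
theorem exists_move_vec (hk : 2 ≤ k) {p p' : Fin k → F} (hp : p ≠ 0) (hp' : p' ≠ 0)
    (h : hermForm k F q p p = hermForm k F q p' p') :
    ∃ N : Matrix (Fin k) (Fin k) F, IsIso q N ∧ N *ᵥ p = p' ∧ (3 ≤ k → N.det = 1) := by
  by_cases ha : hermForm k F q p p = 0
  · obtain ⟨f, hf⟩ := exists_hyp_partner hF hp ha
    obtain ⟨f', hf'⟩ := exists_hyp_partner hF hp' (h ▸ ha)
    by_cases hk3 : 3 ≤ k
    · obtain ⟨g, hg⟩ := exists_SU_of_sameGram hF (hf.gramND hF) (IsHyp.sameGram hF hf hf')
        (by simp; omega)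
      exact ⟨suMat g, SU_isIso g, hg 0, fun _ => g.1.2⟩
    · obtain ⟨N, hN, hNb⟩ := exists_iso_of_sameGram hF (hf.gramND hF) (IsHyp.sameGram hF hf hf')
      exact ⟨N, hN, hNb 0, fun hh => absurd hh hk3⟩
  · obtain ⟨g, hg⟩ := exists_SU_of_sameGram hF (gramND_vec hF ha) (b' := fun _ => p')
      (fun _ _ => h) (by simp; omega)
    exact ⟨suMat g, SU_isIso g, hg (), fun _ => g.1.2⟩

end H41.UDec
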