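import Cfsg.Agent.H41.UDec.BlockVec

/-! Coordinates split into blocks: elements of the stabiliser. -/

set_option autoImplicit false
set_option linter.unusedSectionVars false

namespace H41.UDec

open Matrix Cfsg Cfsg.Geo H45 H50

variable {F : Type*} [Field F] [Fintype F] {n q t k : ℕ}

/-- The coordinates of block `i`. -/
def blk (β : Fin t × Fin k ≃ Fin n) (i : Fin t) : Fin k → Fin n := fun a => β (i, a)

theorem blk_injective (β : Fin t × Fin k ≃ Fin n) (i : Fin t) : Function.Injective (blk β i) :=
  fun a b h => (Prod.ext_iff.mp (β.injective h)).2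

theorem blk_ne (β : Fin t × Fin k ≃ Fin n) {i j : Fin t} (h : i ≠ j) (a b : Fin k) :
    blk β i a ≠ blk β j b := fun e' => h (Prod.ext_iff.mp (β.injective e')).1

theorem res_inj_self (β : Fin t × Fin k ≃ Fin n) (i : Fin t) (x : Fin k → F) :
    res (blk β i) (inj (blk β i) x) = x := funext fun a => inj_apply_self (blk_injective β i) x a

theorem res_inj_ne (β : Fin t × Fin k ≃ Fin n) {i j : Fin t} (h : i ≠ j) (x : Fin k → F) :
    res (blk β i) (inj (blk β j) x) = 0 :=
  funext fun a => inj_apply_off x fun b => blk_ne β h.symm b a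

theorem res_add {m : ℕ} (p : Fin m → Fin n) (v w : Fin n → F) :
    res p (v + w) = res p v + res p w := rfl

theorem res_smul {m : ℕ} (p : Fin m → Fin n) (c : F) (v : Fin n → F) :
    res p (c • v) = c • res p v := rfl

theorem res_sub {m : ℕ} (p : Fin m → Fin n) (v w : Fin n → F) :
    res p (v - w) = res p v - res p w := rfl

theorem res_zero {m : ℕ} (p : Fin m → Fin n) : res p (0 : Fin n → F) = 0 := rfl

theorem inj_add {m : ℕ} (p : Fin m → Fin n) (x y : Fin m → F) :
    inj p (x + y) = inj p x + inj p y := mulVec_add _ _ _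

theorem inj_smul {m : ℕ} (p : Fin m → Fin n) (c : F) (x : Fin m → F) :
    inj p (c • x) = c • inj p x := mulVec_smul _ _ _

theorem inj_zero {m : ℕ} (p : Fin m → Fin n) : inj p (0 : Fin m → F) = 0 := mulVec_zero _

theorem ext_blk (β : Fin t × Fin k ≃ Fin n) {v w : Fin n → F}
    (h : ∀ i, res (blk β i) v = res (blk β i) w) : v = w := funext fun r => by
  have := congrFun (h (β.symm r).1) (β.symm r).2
  simpa [res, blk] using this

/-- A vector on two blocks. -/
def pv (β : Fin t × Fin k ≃ Fin n) (i j : Fin t) (x y : Fin k → F) : Fin n → F :=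
  inj (blk β i) x + inj (blk β j) y

theorem res_pv_left (β : Fin t × Fin k ≃ Fin n) {i j : Fin t} (h : i ≠ j) (x y : Fin k → F) :
    res (blk β i) (pv β i j x y) = x := by
  rw [pv, res_add, res_inj_self, res_inj_ne β h, add_zero]

theorem res_pv_right (β : Fin t × Fin k ≃ Fin n) {i j : Fin t} (h : i ≠ j) (x y : Fin k → F) :
    res (blk β j) (pv β i j x y) = y := by
  rw [pv, res_add, res_inj_self, res_inj_ne β h.symm, zero_add]

theorem res_pv_other (β : Fin t × Fin k ≃ Fin n) {i j l : Fin t} (hi : l ≠ i) (hj : l ≠ j)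
    (x y : Fin k → F) : res (blk β l) (pv β i j x y) = 0 := by
  rw [pv, res_add, res_inj_ne β hi, res_inj_ne β hj, add_zero]

/-- The blocks in which a vector lives. -/
noncomputable def bsupp (β : Fin t × Fin k ≃ Fin n) (v : Fin n → F) : Finset (Fin t) :=
  haveI := Classical.decPred fun i => res (blk β i) v ≠ 0
  Finset.univ.filter fun i => res (blk β i) v ≠ 0

theorem mem_bsupp {β : Fin t × Fin k ≃ Fin n} {v : Fin n → F} {i : Fin t} :
    i ∈ bsupp β v ↔ res (blk β i) v ≠ 0 := by simp [bsupp]

theorem notMem_bsupp {β : Fin t × Fin k ≃ Fin n} {v : Fin n → F} {i : Fin t} :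
    i ∉ bsupp β v ↔ res (blk β i) v = 0 := by simp [bsupp]

/-- Preserving the partition into blocks. -/
def Pres (β : Fin t × Fin k ≃ Fin n) (g : GL (Fin n) F) : Prop :=
  ∃ σ : Equiv.Perm (Fin t), ∀ i a l, l ≠ σ i → res (blk β l) (act g (e (blk β i a))) = 0

/-- Fixing every block. -/
theorem pres_of_maps (β : Fin t × Fin k ≃ Fin n) {g : GL (Fin n) F}
    (h : ∀ v l, res (blk β l) v = 0 → res (blk β l) (act g v) = 0) : Pres β g :=
  ⟨1, fun i a l hl => h _ l (funext fun b => by
    show e (blk β i a) (blk β l b) = 0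
    rw [e_apply, if_neg (blk_ne β (show l ≠ i from hl) b a)])⟩

variable (hF : Fintype.card F = q ^ 2)
include hF

theorem h_blocks (β : Fin t × Fin k ≃ Fin n) (u v : Fin n → F) :
    hermForm n F q u v = ∑ i, hermForm k F q (res (blk β i) u) (res (blk β i) v) := by
  simp only [hermForm, res, blk]
  rw [← Equiv.sum_comp β (fun r => u r * v r ^ q), Fintype.sum_prod_type]

theorem h_inj_left {m : ℕ} (p : Fin m → Fin n) (x : Fin m → F) (v : Fin n → F) :
    hermForm n F q (inj p x) v = hermForm m F q x (res p v) := by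
  rw [h_symm hF v, h_inj_right hF, ← h_symm hF]

theorem h_pv (β : Fin t × Fin k ≃ Fin n) {i j : Fin t} (hij : i ≠ j) (x y x' y' : Fin k → F) :
    hermForm n F q (pv β i j x y) (pv β i j x' y') =
      hermForm k F q x x' + hermForm k F q y y' := by
  conv_lhs => rw [pv, h_add_left, h_inj_left hF, h_inj_left hF, res_pv_left β hij,
    res_pv_right β hij]

/-- Two vectors and the first block: a two-block decomposition. -/
theorem eq_pv (β : Fin t × Fin k ≃ Fin n) {v : Fin n → F} {i j : Fin t} (hij : i ≠ j)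
    (h : ∀ l, l ≠ i → l ≠ j → res (blk β l) v = 0) :
    v = pv β i j (res (blk β i) v) (res (blk β j) v) := by
  refine ext_blk β fun l => ?_
  by_cases hli : l = i
  · subst hli; rw [res_pv_left β hij]
  by_cases hlj : l = j
  · subst hlj; rw [res_pv_right β hij]
  rw [res_pv_other β hli hlj, h l hli hlj]

end H41.UDec
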