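import Cfsg.Agent.H41.UDec.BlockPair

/-! All isotropic vectors are centres. -/

set_option autoImplicit false
set_option linter.unusedSectionVars false

namespace H41.UDec

open Matrix Cfsg Cfsg.Geo H45 H50

variable {F : Type*} [Field F] [Fintype F] {n q t k : ℕ}

/-- All two-block vectors with component norms `a` and `-a` are centres. -/
def Good (q : ℕ) (β : Fin t × Fin k ≃ Fin n) (M : Subgroup (GL (Fin n) F)) (a : F) : Prop :=
  ∀ i j, i ≠ j → ∀ x y : Fin k → F, x ≠ 0 → y ≠ 0 → hermForm k F q x x = a →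
    hermForm k F q y y = -a → Ctr q M (pv β i j x y)

variable {β : Fin t × Fin k ≃ Fin n} {M : Subgroup (GL (Fin n) F)} (O : BOver q β M)
include O

theorem BOver.free (i j : Fin t) : 3 ≤ k ∨ ∃ l, l ≠ i ∧ l ≠ j := by
  rcases Nat.lt_or_ge k 3 with h | h
  · right
    have := O.mul_eq
    have := O.dim
    have ht : 3 ≤ t := by nlinarith
    obtain ⟨l, -, hl⟩ := Finset.exists_mem_notMem_of_card_lt_card (s := ({i, j} : Finset (Fin t)))
      (t := Finset.univ) (lt_of_le_of_lt Finset.card_le_two (by simp; omega))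
    simp only [Finset.mem_insert, Finset.mem_singleton, not_or] at hl
    exact ⟨l, hl⟩
  · exact Or.inl h

theorem BOver.good_of_ctr {i₀ j₀ : Fin t} (h₀ : i₀ ≠ j₀) {x₀ y₀ : Fin k → F} (hx₀ : x₀ ≠ 0)
    (hy₀ : y₀ ≠ 0) (hc : Ctr q M (pv β i₀ j₀ x₀ y₀)) : Good q β M (hermForm k F q x₀ x₀) := by
  classical
  intro i j hij x y hx hy hxa hya
  have hF := O.card
  have hy₀a : hermForm k F q y₀ y₀ = -hermForm k F q x₀ x₀ := by
    have := hc.iso
    rw [h_pv hF β h₀] at this
    exact eq_neg_of_add_eq_zero_right this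
  obtain ⟨x', y', hx', hy', hxn, hyn, hc'⟩ := O.perm_pair h₀ hij hx₀ hy₀ hc
  obtain ⟨g, hg, hgv⟩ := O.move i (v := pv β i j x' y') (x' := x)
    (by rw [res_pv_left β hij]; exact hx') hx
    (by rw [res_pv_left β hij, hxn, hxa])
    ((O.free i j).imp_right fun ⟨l, hl⟩ => ⟨l, hl.1, res_pv_other β hl.1 hl.2 _ _⟩)
  rw [res_pv_left β hij] at hgv
  have e1 : pv β i j x' y' + UDec.inj (blk β i) (x - x') = pv β i j x y' := by
    rw [pv, pv, add_right_comm, ← inj_add, add_sub_cancel]
  rw [e1] at hgv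
  obtain ⟨g', hg', hgv'⟩ := O.move j (v := pv β i j x y') (x' := y)
    (by rw [res_pv_right β hij]; exact hy') hy
    (by rw [res_pv_right β hij, hyn, hy₀a, hya])
    ((O.free i j).imp_right fun ⟨l, hl⟩ => ⟨l, hl.2, res_pv_other β hl.1 hl.2 _ _⟩)
  rw [res_pv_right β hij] at hgv'
  have e2 : pv β i j x y' + UDec.inj (blk β j) (y - y') = pv β i j x y := by
    rw [pv, pv, add_assoc, ← inj_add, add_sub_cancel]
  rw [e2] at hgv'
  have := ctr_act hF O.le hg hc'
  rw [hgv] at this
  have := ctr_act hF O.le hg' this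
  rwa [hgv'] at this

theorem BOver.exists_norm_vec (a : F) (ha : a ^ q = a) :
    ∃ x : Fin k → F, x ≠ 0 ∧ hermForm k F q x x = a := by
  have hF := O.card
  let a₀ : Fin k := ⟨0, by have := O.two; omega⟩
  obtain ⟨x, hx, hpx⟩ := exists_vec hF O.two (p := Pi.single a₀ 1) (by simp) ha 1
    (Or.inr one_ne_zero)
  exact ⟨x, fun h0 => by rw [h0, h_zero_right hF] at hpx; exact zero_ne_one hpx, hx⟩

/-- One step between classes. -/
theorem BOver.good_step {i j : Fin t} (hij : i ≠ j) {p p' r r' : Fin k → F}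
    (h1 : Ctr q M (pv β i j p p')) (h2 : Ctr q M (pv β i j r r')) {c κ : F} (hc : c + c ^ q = 0)
    (hκ : c * (hermForm k F q p r + hermForm k F q p' r') = κ)
    (hx : p + κ • r ≠ 0) (hy : p' + κ • r' ≠ 0) :
    Good q β M (hermForm k F q (p + κ • r) (p + κ • r)) := by
  have := ctr_step O.card O.le h2 h1 hc
  rw [h_pv O.card β hij, hκ] at this
  have e1 : pv β i j p p' + κ • pv β i j r r' = pv β i j (p + κ • r) (p' + κ • r') := by
    simp only [pv, inj_add, inj_smul, smul_add]
    abel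
  rw [e1] at this
  exact O.good_of_ctr hij hx hy this

theorem BOver.good_zero_to {b : F} (hb : b ^ q = b) (hb0 : b ≠ 0) (hg : Good q β M 0)
    {i j : Fin t} (hij : i ≠ j) : Good q β M b := by
  have hF := O.card
  have hq := H50.q_ne_zero hF
  obtain ⟨c, hc, hc0⟩ := exists_skew hF
  obtain ⟨p, hp, hpa⟩ := O.exists_norm_vec (0 : F) (zero_pow hq)
  obtain ⟨z, hz⟩ := exists_trace_eq hF hb
  have hcq : (c⁻¹) ^ q = -c⁻¹ := by rw [inv_pow, eq_neg_of_add_eq_zero_right hc, inv_neg]
  have hz0 : z ≠ 0 := fun h => hb0 (by rw [← hz, h, zero_pow hq, add_zero])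
  have hw0 : c⁻¹ - z ≠ 0 := fun h => hb0 (by
    have e1 : z = c⁻¹ := (sub_eq_zero.mp h).symm
    rw [← hz, e1, hcq, add_neg_cancel])
  obtain ⟨r, hr, hpr⟩ := exists_vec hF O.two hp (zero_pow hq : (0 : F) ^ q = 0) z (Or.inr hz0)
  obtain ⟨r', hr', hpr'⟩ :=
    exists_vec hF O.two hp (zero_pow hq : (0 : F) ^ q = 0) (c⁻¹ - z) (Or.inr hw0)
  have hne : ∀ (v : Fin k → F) (w : F), hermForm k F q p v = w → w ≠ 0 → v ≠ 0 := fun v w h hw h0 =>
    hw (by rw [← h, h0, h_zero_right hF])
  have h1 := hg i j hij p p hp hp hpa (by rw [hpa, neg_zero])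
  have h2 := hg i j hij r r' (hne r z hpr hz0) (hne r' _ hpr' hw0) hr (by rw [hr', neg_zero])
  have hA : hermForm k F q (p + (1 : F) • r) (p + (1 : F) • r) = b := by
    rw [one_smul, h_add_left, h_add_right hF, h_add_right hF, hpa, hr, hpr, h_symm hF p r, hpr]
    linear_combination hz
  have hB : hermForm k F q (p + (1 : F) • r') (p + (1 : F) • r') = -b := by
    rw [one_smul, h_add_left, h_add_right hF, h_add_right hF, hpa, hr', hpr', h_symm hF p r', hpr',
      H50.sub_pow_q hF, hcq]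
    linear_combination -hz
  have h0 : ∀ (v : Fin k → F) (w : F), hermForm k F q v v = w → w ≠ 0 → v ≠ 0 := fun v w h hw h' =>
    hw (by rw [← h, h', h_zero_left])
  have := O.good_step hij h1 h2 hc (κ := 1) (by rw [hpr, hpr']; field_simp; ring) (h0 _ _ hA hb0)
    (h0 _ _ hB (neg_ne_zero.mpr hb0))
  rwa [hA] at this

theorem BOver.good_to_nonzero {a b : F} (ha : a ^ q = a) (hb : b ^ q = b) (ha0 : a ≠ 0)
    (hb0 : b ≠ 0) (hg : Good q β M a) {i j : Fin t} (hij : i ≠ j) : Good q β M b := by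
  have hF := O.card
  obtain ⟨c, hc, hc0⟩ := exists_skew hF
  obtain ⟨ρ, hρ⟩ := H50.exists_norm_eq hF (c := b / a) (by rw [div_pow, ha, hb])
  rw [pow_succ] at hρ
  obtain ⟨p, hp, hpa⟩ := O.exists_norm_vec a ha
  obtain ⟨p', hp', hpa'⟩ := O.exists_norm_vec (-a) (by rw [H50.neg_pow_q hF, ha])
  obtain ⟨r, hr, hpr⟩ := exists_vec hF O.two hp ha (a + (ρ - 1) / c) (Or.inl (hpa ▸ ha0))
  have hr0 : r ≠ 0 := fun h => ha0 (by rw [← hr, h, h_zero_left])
  have h1 := hg i j hij p p' hp hp' hpa hpa'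
  have h2 := hg i j hij r p' hr0 hp' hr hpa'
  have hρ0 : ρ ≠ 0 := fun h => div_ne_zero hb0 ha0 (by rw [← hρ, h, mul_zero])
  have hy : p' + (ρ - 1) • p' = ρ • p' := by rw [sub_smul, one_smul, add_sub_cancel]
  have hy0 : p' + (ρ - 1) • p' ≠ 0 := by rw [hy]; exact smul_ne_zero hρ0 hp'
  have hκ : c * (hermForm k F q p r + hermForm k F q p' p') = ρ - 1 := by
    rw [hpr, hpa']; field_simp; ring
  have hres := ctr_step hF O.le h2 h1 hc
  rw [h_pv hF β hij, hκ] at hres
  have hA : hermForm k F q (p + (ρ - 1) • r) (p + (ρ - 1) • r) = b := by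
    have := hres.iso
    rw [show pv β i j p p' + (ρ - 1) • pv β i j r p' =
      pv β i j (p + (ρ - 1) • r) (p' + (ρ - 1) • p') by
        simp only [pv, inj_add, inj_smul, smul_add]; abel, h_pv hF β hij, hy, h_smul_left,
      h_smul_right hF, hpa'] at this
    field_simp at hρ
    linear_combination this + hρ
  have hx0 : p + (ρ - 1) • r ≠ 0 := fun h => hb0 (by rw [← hA, h, h_zero_left])
  have := O.good_step hij h1 h2 hc hκ hx0 hy0
  rwa [hA] at this

theorem BOver.good_to_zero {a : F} (ha : a ^ q = a) (ha0 : a ≠ 0) (hg : Good q β M a)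
    {i j : Fin t} (hij : i ≠ j) : Good q β M 0 := by
  classical
  have hF := O.card
  obtain ⟨c, hc, hc0⟩ := exists_skew hF
  have hcq : (c⁻¹) ^ q = -c⁻¹ := by rw [inv_pow, eq_neg_of_add_eq_zero_right hc, inv_neg]
  obtain ⟨p, hp, hpa⟩ := O.exists_norm_vec a ha
  obtain ⟨p', hp', hpa'⟩ := O.exists_norm_vec (-a) (by rw [H50.neg_pow_q hF, ha])
  obtain ⟨s, r, hs, hsc, hr, hpr, hx⟩ : ∃ (s : F) (r : Fin k → F), s + s ^ q = 0 ∧ s ≠ c⁻¹ ∧
      hermForm k F q r r = a ∧ hermForm k F q p r = -a + s ∧ p + (1 : F) • r ≠ 0 := by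
    by_cases hq3 : 3 ≤ q
    · obtain ⟨s, hs, hs0, hsc⟩ := exists_skew_ne hF (t := 1) {c⁻¹} rfl (by omega)
      obtain ⟨r, hr, hpr⟩ := exists_vec hF O.two hp ha (-a + s) (Or.inl (hpa ▸ ha0))
      refine ⟨s, r, hs, fun h => hsc (Finset.mem_singleton.mpr h), hr, hpr, fun h => hs0 ?_⟩
      rw [one_smul, add_eq_zero_iff_eq_neg'] at h
      rw [h, ← neg_one_smul F p, h_smul_right hF, hpa, H50.neg_pow_q hF, one_pow] at hpr
      linear_combination -hpr
    · have hk3 := O.three (show q = 2 by have := H50.two_le hF; omega)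
      obtain ⟨d, hd0, hdd, hpd⟩ := exists_iso_perp hF hk3 (hpa.symm ▸ ha0 : hermForm k F q p p ≠ 0)
      refine ⟨0, -p + d, by simp [H50.q_ne_zero hF], (inv_ne_zero hc0).symm, ?_, ?_, ?_⟩
      · rw [← neg_one_smul F p, h_add_left, h_add_right hF, h_add_right hF, h_smul_left,
          h_smul_right hF, h_smul_left, h_smul_right hF, hpa, hdd, hpd,
          (h_eq_zero_comm hF).1 hpd, H50.neg_pow_q hF, one_pow]
        ring
      · rw [← neg_one_smul F p, h_add_right hF, h_smul_right hF, hpa, hpd, H50.neg_pow_q hF, one_pow]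
        ring
      · rw [one_smul, add_neg_cancel_left]; exact hd0
  set z := c⁻¹ - (-a + s) with hz
  obtain ⟨r', hr', hpr'⟩ := exists_vec hF O.two hp'
    (show (-a) ^ q = -a by rw [H50.neg_pow_q hF, ha]) z (Or.inl (hpa'.symm ▸ neg_ne_zero.mpr ha0))
  have hne : ∀ (v : Fin k → F) (w : F), hermForm k F q v v = w → w ≠ 0 → v ≠ 0 := fun v w h hw h' =>
    hw (by rw [← h, h', h_zero_left])
  have h1 := hg i j hij p p' hp hp' hpa hpa'
  have h2 := hg i j hij r r' (hne _ _ hr ha0) (hne _ _ hr' (neg_ne_zero.mpr ha0)) hr hr'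
  have hy : p' + (1 : F) • r' ≠ 0 := fun h => hsc (by
    rw [one_smul, add_eq_zero_iff_eq_neg'] at h
    rw [h, ← neg_one_smul F p', h_smul_right hF, hpa', H50.neg_pow_q hF, one_pow, hz] at hpr'
    linear_combination hpr')
  have hA : hermForm k F q (p + (1 : F) • r) (p + (1 : F) • r) = 0 := by
    rw [one_smul, h_add_left, h_add_right hF, h_add_right hF, hpa, hr, hpr, h_symm hF p r, hpr,
      H50.add_pow_q hF, H50.neg_pow_q hF, ha]
    linear_combination hs
  have := O.good_step hij h1 h2 hc (κ := 1) (by rw [hpr, hpr', hz]; field_simp; ring) hx hy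
  rwa [hA] at this

/-- Every class of two-block vectors. -/
theorem BOver.good_all : ∀ a : F, a ^ q = a → Good q β M a := by
  have hF := O.card
  obtain ⟨i, j, hij, x, y, hx, hy, hc⟩ := O.exists_ctr_pair
  have h₀ := O.good_of_ctr hij hx hy hc
  set a₀ := hermForm k F q x x with ha₀
  have ha₀q : a₀ ^ q = a₀ := by rw [ha₀, h_self_fixed hF]
  intro a ha
  by_cases hz : a₀ = 0
  · by_cases h : a = 0
    · rw [h, ← hz]; exact h₀
    · exact O.good_zero_to ha h (hz ▸ h₀) hij
  · by_cases h : a = 0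
    · rw [h]; exact O.good_to_zero ha₀q hz h₀ hij
    · exact O.good_to_nonzero ha₀q ha hz h h₀ hij

theorem BOver.ctr_all : ∀ v, hermForm n F q v v = 0 → Ctr q M v := by
  classical
  have hF := O.card
  suffices ∀ (s : ℕ) (v : Fin n → F), (bsupp β v).card = s → hermForm n F q v v = 0 → Ctr q M v from
    fun v => this _ v rfl
  intro s
  induction s using Nat.strong_induction_on with
  | _ s ih =>
    intro v hs hv
    have hsum : ∀ w : Fin n → F,
        ∑ l ∈ bsupp β w, hermForm k F q (res (blk β l) w) (res (blk β l) w) =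
          hermForm n F q w w := fun w => by
      rw [h_blocks hF β, Finset.sum_subset (Finset.subset_univ (bsupp β w))]
      intro l _ hl
      rw [notMem_bsupp.mp hl, h_zero_left]
    rcases Nat.lt_or_ge s 3 with hs3 | hs3
    · rcases (by omega : s = 0 ∨ s = 1 ∨ s = 2) with rfl | rfl | rfl
      · rw [bsupp_eq_empty (Finset.card_eq_zero.mp hs)]
        exact ctr_zero M
      · obtain ⟨i, hi⟩ := Finset.card_eq_one.mp hs
        have hvi : v = UDec.inj (blk β i) (res (blk β i) v) := by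
          refine ext_blk β fun l => ?_
          by_cases hli : l = i
          · subst hli; rw [res_inj_self]
          · rw [res_inj_ne β hli, notMem_bsupp.mp (by rw [hi]; simpa using hli)]
        rw [hvi]
        refine O.ctr_member i ?_
        have := hsum v
        rwa [hv, hi, Finset.sum_singleton] at this
      · obtain ⟨i, j, hij, hij2⟩ := Finset.card_eq_two.mp hs
        rw [eq_pv hF β hij (v := v) fun l hl hl' => notMem_bsupp.mp (by rw [hij2]; simp [hl, hl'])]
        have := hsum v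
        rw [hv, hij2, Finset.sum_pair hij] at this
        refine O.good_all _ (h_self_fixed hF _) i j hij _ _ (mem_bsupp.mp (by rw [hij2]; simp))
          (mem_bsupp.mp (by rw [hij2]; simp)) rfl (eq_neg_of_add_eq_zero_right this)
    -- choose two blocks
    obtain ⟨i, j, hi, hj, hij, hrole⟩ : ∃ i j, i ∈ bsupp β v ∧ j ∈ bsupp β v ∧ i ≠ j ∧
        (hermForm k F q (res (blk β i) v) (res (blk β i) v) ≠ 0 ∨
          hermForm k F q (res (blk β j) v) (res (blk β j) v) = 0) := by
      by_cases hex : ∃ i ∈ bsupp β v, hermForm k F q (res (blk β i) v) (res (blk β i) v) ≠ 0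
      · obtain ⟨i, hi, hai⟩ := hex
        obtain ⟨j, hj, hji⟩ := Finset.exists_mem_ne (s := bsupp β v) (by omega) i
        exact ⟨i, j, hi, hj, hji.symm, Or.inl hai⟩
      · push Not at hex
        obtain ⟨i, hi, j, hj, hij⟩ := Finset.one_lt_card.mp (show 1 < (bsupp β v).card by omega)
        exact ⟨i, j, hi, hj, hij, Or.inr (hex j hj)⟩
    set vi := res (blk β i) v with hvi
    set vj := res (blk β j) v with hvj
    obtain ⟨s₀, hs₀, hs₀0⟩ := exists_skew hF
    have haj : hermForm k F q vj vj ^ q = hermForm k F q vj vj := h_self_fixed hF _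
    obtain ⟨x, hx, hxr⟩ := exists_vec hF O.two (mem_bsupp.mp hi)
      (show (-hermForm k F q vj vj) ^ q = -hermForm k F q vj vj by rw [H50.neg_pow_q hF, haj])
      (s₀ - hermForm k F q vj vj)
      (hrole.imp_right fun h => by rw [h, sub_zero]; exact hs₀0)
    have hx0 : x ≠ 0 := by
      rintro rfl
      rw [h_zero_left, eq_comm, neg_eq_zero] at hx
      rw [h_zero_right hF, hx, sub_zero] at hxr
      exact hs₀0 hxr.symm
    set w := pv β i j x vj with hw
    have hwC : Ctr q M w := O.good_all _ (h_self_fixed hF _) i j hij x vj hx0 (mem_bsupp.mp hj) rfl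
      (by rw [hx, neg_neg])
    have hvw : hermForm n F q v w = s₀ := by
      rw [hw, pv, h_add_right hF, h_inj_right hF, h_inj_right hF, ← hvi, ← hvj, hxr, sub_add_cancel]
    have hc : -s₀⁻¹ + (-s₀⁻¹) ^ q = 0 := by
      rw [H50.neg_pow_q hF, inv_pow, eq_neg_of_add_eq_zero_right hs₀, inv_neg]
      ring
    refine ctr_back hF O.le hwC hc (ih (bsupp β (v + (-s₀⁻¹ * hermForm n F q v w) • w)).card ?_ _ rfl ?_)
    · rw [← hs]
      refine lt_of_le_of_lt (Finset.card_le_card fun l hl => ?_) (Finset.card_erase_lt_of_mem hj)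
      rw [hvw, neg_mul, inv_mul_cancel₀ hs₀0, neg_one_smul, mem_bsupp, res_add,
        show res (blk β l) (-w) = -res (blk β l) w from rfl] at hl
      rw [Finset.mem_erase, mem_bsupp]
      by_cases hlj : l = j
      · subst hlj
        rw [hw, res_pv_right β hij, ← hvj, add_neg_cancel] at hl
        exact absurd rfl hl
      · refine ⟨hlj, ?_⟩
        by_cases hli : l = i
        · subst hli; exact mem_bsupp.mp hi
        · rwa [hw, res_pv_other β hli hlj, neg_zero, add_zero] at hl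
    · obtain ⟨hwi, hwm⟩ := hwC
      rw [← act_utv w hwi (-s₀⁻¹), O.inj' _ (hwm _ hc), hv]

/-- The stabiliser of the blocks is maximal. -/
theorem BOver.eq_SUGL : M = SUGL n F q :=
  eq_of_ctr O.card (le_trans (by norm_num) O.dim) O.le O.ctr_all

end H41.UDec
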