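import Cfsg.Agent.H41.UDec.BlockBase

/-! An overgroup of the stabiliser of the blocks. -/

set_option autoImplicit false
set_option linter.unusedSectionVars false

namespace H41.UDec

open Matrix Cfsg Cfsg.Geo H45 H50

variable {F : Type*} [Field F] [Fintype F] {n q t k : ℕ}

/-- The hypotheses: a group between the stabiliser of the blocks and `SU`, not equal to the
stabiliser. -/
structure BOver (q : ℕ) (β : Fin t × Fin k ≃ Fin n) (M : Subgroup (GL (Fin n) F)) : Prop where
  card : Fintype.card F = q ^ 2
  le : M ≤ SUGL n F q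
  stab : ∀ g ∈ SUGL n F q, Pres β g → g ∈ M
  big : ∃ g ∈ M, ¬ Pres β g
  dim : 6 ≤ n
  two : 2 ≤ k
  ex : ¬ (k = 2 ∧ q = 2)

variable {β : Fin t × Fin k ≃ Fin n} {M : Subgroup (GL (Fin n) F)} (O : BOver q β M)
include O

theorem BOver.inj' (g : GL (Fin n) F) (hg : g ∈ M) (u v : Fin n → F) :
    hermForm n F q (act g u) (act g v) = hermForm n F q u v :=
  (mem_SUGL.mp (O.le hg)).1 u v

theorem BOver.mul_eq : t * k = n := by
  simpa using Fintype.card_congr β

theorem BOver.three (hq : q = 2) : 3 ≤ k := by
  rcases Nat.lt_or_ge k 3 with h | h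
  · exact absurd ⟨le_antisymm (by omega) O.two, hq⟩ O.ex
  · exact h

/-- Isotropic vectors of a member. -/
theorem BOver.ctr_member (i : Fin t) {x : Fin k → F} (hx : hermForm k F q x x = 0) :
    Ctr q M (inj (blk β i) x) := by
  have hF := O.card
  have hv : hermForm n F q (UDec.inj (blk β i) x) (UDec.inj (blk β i) x) = 0 := by
    rw [h_inj_inj hF (blk_injective β i), hx]
  refine ⟨hv, fun c hc => O.stab _ (mem_SUGL.mpr ⟨fun u v => ?_, ?_⟩) ?_⟩
  · have := rf_mem hF (UDec.inj (blk β i) x) c (by rw [hv, mul_zero, add_zero]; exact hc)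
    rw [rf_transvection hF hv hc] at this
    exact mem_GU.mp this u v
  · rw [← rf_transvection hF hv hc, det_rf, hv, mul_zero, add_zero]
  · refine pres_of_maps β fun v l hl => ?_
    rw [act_utv, res_add, res_smul, hl, zero_add]
    by_cases hli : l = i
    · subst hli
      rw [h_inj_right hF, hl, h_zero_left, mul_zero, zero_smul]
    · rw [res_inj_ne β hli, smul_zero]

theorem BOver.embed_mem (i : Fin t) {N : Matrix (Fin k) (Fin k) F} (hN : IsIso q N)
    (hd : N.det = 1) : gl O.card (embMat (blk β i) N) (embMat_iso O.card (blk_injective β i) hN) ∈ M := by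
  refine O.stab _ (gl_mem_SUGL O.card _ (by rw [det_embMat (blk_injective β i), hd]))
    (pres_of_maps β fun v l hl => ?_)
  rw [act_gl, embMat_mulVec, res_add, hl, zero_add]
  by_cases hli : l = i
  · subst hli
    rw [res_inj_self, hl, mulVec_zero, sub_zero]
  · rw [res_inj_ne β hli]

/-- Replace the component in one block by a vector of the same norm. -/
theorem BOver.move (i : Fin t) {v : Fin n → F} {x' : Fin k → F} (hx : res (blk β i) v ≠ 0)
    (hx' : x' ≠ 0)
    (h : hermForm k F q (res (blk β i) v) (res (blk β i) v) = hermForm k F q x' x')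
    (hl : 3 ≤ k ∨ ∃ l, l ≠ i ∧ res (blk β l) v = 0) :
    ∃ g ∈ M, act g v = v + inj (blk β i) (x' - res (blk β i) v) := by
  have hF := O.card
  obtain ⟨N, hN, hNv, hdet⟩ := exists_move_vec hF O.two hx hx' h
  by_cases hk3 : 3 ≤ k
  · exact ⟨_, O.embed_mem i hN (hdet hk3), by rw [act_gl, embMat_mulVec, hNv]⟩
  obtain ⟨l, hli, hlv⟩ := hl.resolve_left hk3
  -- repair the determinant inside the empty block
  have hμ : Circ q N.det⁻¹ := by
    refine Circ.inv ?_
    have := hN.det_norm hF
    rw [pow_succ'] at this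
    exact this
  let a₀ : Fin k := ⟨0, by have := O.two; omega⟩
  let f : Fin n → F := fun r => if r = blk β l a₀ then N.det⁻¹ else 1
  have hf : ∀ r, Circ q (f r) := fun r => by simp only [f]; split_ifs; exacts [hμ, Circ.one]
  let G := gl hF (embMat (blk β i) N) (embMat_iso hF (blk_injective β i) hN)
  refine ⟨dg hF f hf * G, O.stab _ ⟨Subgroup.mul_mem _ (gl_mem hF _ _) (gl_mem hF _ _), ?_⟩
    (pres_of_maps β fun w m hm => ?_), ?_⟩
  · change dg hF f hf * G ∈ specialLinear (Fin n) F
    rw [specialLinear, MonoidHom.mem_ker]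
    refine Units.ext ?_
    rw [Matrix.GeneralLinearGroup.val_det_apply, Units.val_mul, Matrix.det_mul, Units.val_one]
    change (Matrix.diagonal f).det * (embMat (blk β i) N).det = 1
    rw [Matrix.det_diagonal, det_embMat (blk_injective β i)]
    simp only [f, Finset.prod_ite_eq', Finset.mem_univ, if_true]
    exact inv_mul_cancel₀ (hN.det_ne_zero hF)
  · funext b
    show act (dg hF f hf * G) w (blk β m b) = 0
    rw [act_mul, act_dg, act_gl, embMat_mulVec, Pi.add_apply]
    have h0 : w (blk β m b) = 0 := congrFun hm b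
    rw [h0, zero_add]
    by_cases hmi : m = i
    · subst hmi
      rw [inj_apply_self (blk_injective β m), hm, mulVec_zero]
      simp
    · rw [inj_apply_off _ (fun a => blk_ne β (Ne.symm hmi) a b), mul_zero]
  · rw [act_mul, act_gl, embMat_mulVec, hNv]
    funext r
    rw [act_dg]
    simp only [f]
    split_ifs with hr
    · subst hr
      rw [Pi.add_apply, inj_apply_off _ (fun a => blk_ne β hli.symm a a₀),
        show v (blk β l a₀) = 0 from congrFun hlv a₀, add_zero, mul_zero]
    · rw [one_mul]

/-- Move any pair of blocks to any other. -/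
theorem BOver.perm_pair {i j i' j' : Fin t} (hij : i ≠ j) (hij' : i' ≠ j') {x y : Fin k → F}
    (hx : x ≠ 0) (hy : y ≠ 0) (hc : Ctr q M (pv β i j x y)) :
    ∃ x' y', x' ≠ 0 ∧ y' ≠ 0 ∧ hermForm k F q x' x' = hermForm k F q x x ∧
      hermForm k F q y' y' = hermForm k F q y y ∧ Ctr q M (pv β i' j' x' y') := by
  classical
  have hF := O.card
  let σ₁ := Equiv.swap i' i
  let σ : Equiv.Perm (Fin t) := Equiv.swap (σ₁ j') j * σ₁
  have hσi : σ i' = i := by
    simp only [σ, σ₁, Equiv.Perm.mul_apply, Equiv.swap_apply_left]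
    exact Equiv.swap_apply_of_ne_of_ne (fun h => hij' (σ₁.injective
      ((Equiv.swap_apply_left i' i).trans h))) hij
  have hσj : σ j' = j := by
    simp only [σ, Equiv.Perm.mul_apply, Equiv.swap_apply_left]
  let π : Equiv.Perm (Fin n) := (β.symm.trans (σ.prodCongr (Equiv.refl (Fin k)))).trans β
  have hπ : ∀ l a, π (blk β l a) = blk β (σ l) a := fun l a => by simp [π, blk]
  let w : Fin n := blk β i' ⟨0, by have := O.two; omega⟩
  let g := sprm hF π w
  have hP : Pres β g := by
    refine ⟨σ.symm, fun l a m hm => funext fun b => ?_⟩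
    show act g (e (blk β l a)) (blk β m b) = 0
    have he : blk β (σ m) b ≠ blk β l a := fun he =>
      hm (σ.eq_symm_apply.mpr (Prod.ext_iff.mp (β.injective he)).1)
    rw [act_sprm, hπ, e_apply (blk β l a) (blk β (σ m) b), if_neg he, mul_zero]
  have hg : g ∈ M := O.stab _ (sprm_mem hF π w) hP
  set v := act g (pv β i j x y) with hv
  let s : Fin n → F := fun r => if r = w then ((Equiv.Perm.sign π : ℤ) : F) else 1
  have hs : ∀ r, Circ q (s r) := fun r => by
    simp only [s]
    rcases Int.units_eq_one_or (Equiv.Perm.sign π) with h | h <;> rw [h] <;>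
      split_ifs <;> simp [Circ.one, circ_neg_one hF]
  have hr : ∀ l a, res (blk β l) v a = s (blk β l a) * res (blk β (σ l)) (pv β i j x y) a :=
    fun l a => by
      show v (blk β l a) = _
      rw [hv, act_sprm, hπ]; rfl
  have hnorm : ∀ l, hermForm k F q (res (blk β l) v) (res (blk β l) v) =
      hermForm k F q (res (blk β (σ l)) (pv β i j x y)) (res (blk β (σ l)) (pv β i j x y)) :=
    fun l => by
      simp only [hermForm]
      refine Finset.sum_congr rfl fun a _ => ?_
      rw [hr, mul_pow]
      have h1 := hs (blk β l a)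
      unfold Circ at h1
      linear_combination (res (blk β (σ l)) (pv β i j x y) a *
        res (blk β (σ l)) (pv β i j x y) a ^ q) * h1
  have hne : ∀ l, res (blk β (σ l)) (pv β i j x y) ≠ 0 → res (blk β l) v ≠ 0 := fun l h h0 =>
    h (funext fun a => by
      have := congrFun h0 a
      rw [hr, Pi.zero_apply, mul_eq_zero] at this
      exact this.resolve_left (hs _).ne_zero)
  refine ⟨res (blk β i') v, res (blk β j') v, hne _ ?_, hne _ ?_, ?_, ?_, ?_⟩
  · rw [hσi, res_pv_left β hij]; exact hx
  · rw [hσj, res_pv_right β hij]; exact hy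
  · rw [hnorm, hσi, res_pv_left β hij]
  · rw [hnorm, hσj, res_pv_right β hij]
  · rw [← eq_pv hF β hij' fun l hl hl' => funext fun a => by
      rw [hr, res_pv_other β (fun h => hl (σ.injective (h.trans hσi.symm)))
        (fun h => hl' (σ.injective (h.trans hσj.symm))), Pi.zero_apply, mul_zero]]
    exact ctr_act hF O.le hg hc

end H41.UDec
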