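import Cfsg.Agent.H41.UDec.BlockOver

/-! A centre on exactly two blocks. -/

set_option autoImplicit false
set_option linter.unusedSectionVars false

namespace H41.UDec

open Matrix Cfsg Cfsg.Geo H45 H50

variable {F : Type*} [Field F] [Fintype F] {n q t k : ℕ}
variable {β : Fin t × Fin k ≃ Fin n} {M : Subgroup (GL (Fin n) F)} (O : BOver q β M)
include O

omit O in
theorem bsupp_eq_empty {v : Fin n → F} (h : bsupp β v = ∅) : v = 0 :=
  ext_blk β fun i => by
    rw [res_zero]; exact notMem_bsupp.mp (by rw [h]; simp)

/-- A member vector moved across blocks. -/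
theorem BOver.exists_ctr_big : ∃ u, Ctr q M u ∧ 2 ≤ (bsupp β u).card := by
  classical
  have hF := O.card
  have h2 := O.two
  by_contra hcon
  push Not at hcon
  obtain ⟨g, hg, hgP⟩ := O.big
  have hg' := O.inj' g hg
  have hself : ∀ (l : Fin t) (a : Fin k), ∀ b, e (F := F) (blk β l a) (blk β l b) =
      (Pi.single a 1 : Fin k → F) b := fun l a b => by
    rw [e_apply, Pi.single_apply]
    simp [(blk_injective β l).eq_iff]
  -- isotropic vectors on two coordinates of a member land in one block
  have key : ∀ i a b, a ≠ b → ∃ l, ∀ m, m ≠ l → res (blk β m) (act g (e (blk β i a))) = 0 ∧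
      res (blk β m) (act g (e (blk β i b))) = 0 := by
    intro i a b hab
    obtain ⟨ξ, hξ⟩ := H50.exists_norm_eq hF (c := (-1 : F)) (by rw [H50.neg_pow_q hF, one_pow])
    obtain ⟨κ, hκ, hκ1⟩ := exists_circ_ne_one hF
    rw [pow_succ] at hξ
    unfold Circ at hκ
    have hκξ : (κ * ξ) * (κ * ξ) ^ q = -1 := by
      rw [mul_pow]; linear_combination (κ * κ ^ q) * hξ - hκ
    set u := e (blk β i a) + ξ • (e (blk β i b) : Fin n → F) with hu
    set u' := e (blk β i a) + (κ * ξ) • (e (blk β i b) : Fin n → F) with hu'
    have hh : ∀ r s : F, hermForm n F q (e (blk β i a) + r • e (blk β i b))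
        (e (blk β i a) + s • e (blk β i b)) = 1 + r * s ^ q := fun r s => by
      simp only [h_add_left, h_add_right hF, h_smul_left, h_smul_right hF, h_e_e hF,
        (blk_injective β i).eq_iff, if_neg hab, if_neg hab.symm, if_pos]
      ring
    have hC : ∀ r : F, r * r ^ q = -1 → Ctr q M (e (blk β i a) + r • e (blk β i b)) := by
      intro r hr
      have := O.ctr_member i (x := Pi.single a 1 + r • Pi.single b 1) (by
        simp only [h_add_left, h_add_right hF, h_smul_left, h_smul_right hF, h_single_single hF,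
          if_neg hab, if_neg hab.symm, if_pos]
        linear_combination hr)
      convert this using 1
      refine ext_blk β fun l => ?_
      by_cases hli : l = i
      · subst hli
        rw [res_inj_self]
        funext c
        show e (blk β l a) (blk β l c) + r * e (blk β l b) (blk β l c) = _
        rw [hself, hself]; rfl
      · rw [res_inj_ne β hli]
        funext c
        show e (blk β i a) (blk β l c) + r * e (blk β i b) (blk β l c) = 0
        rw [e_apply, e_apply, if_neg (blk_ne β hli c a), if_neg (blk_ne β hli c b), mul_zero,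
          add_zero]
    have h1 : (bsupp β (act g u)).card < 2 := hcon _ (ctr_act hF O.le hg (hC ξ (by linear_combination hξ)))
    have h1' : (bsupp β (act g u')).card < 2 := hcon _ (ctr_act hF O.le hg (hC (κ * ξ) hκξ))
    have hne : hermForm n F q u u' ≠ 0 := by
      rw [hu, hu', hh]
      intro h0
      apply hκ1
      have : κ ^ q = 1 := by
        rw [mul_pow] at h0
        linear_combination (-1 : F) * h0 + κ ^ q * hξ
      exact (pow_q_inj hF).mp (by rw [this, one_pow])
    obtain ⟨l, hl⟩ : ∃ l, l ∈ bsupp β (act g u) ∧ l ∈ bsupp β (act g u') := by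
      by_contra hno
      push Not at hno
      apply hne
      rw [← hg', h_blocks hF β]
      refine Finset.sum_eq_zero fun m _ => ?_
      by_cases hm : m ∈ bsupp β (act g u)
      · rw [notMem_bsupp.mp (hno m hm), h_zero_right hF]
      · rw [notMem_bsupp.mp hm, h_zero_left]
    refine ⟨l, fun m hm => ?_⟩
    have z1 : res (blk β m) (act g u) = 0 := notMem_bsupp.mp fun h =>
      hm (Finset.card_le_one.mp (by omega) m h l hl.1)
    have z2 : res (blk β m) (act g u') = 0 := notMem_bsupp.mp fun h =>
      hm (Finset.card_le_one.mp (by omega) m h l hl.2)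
    rw [hu, act_add, act_smul, res_add, res_smul] at z1
    rw [hu', act_add, act_smul, res_add, res_smul] at z2
    have hξ0 : ξ ≠ 0 := fun h0 => by rw [h0, mul_zero] at hξ; exact one_ne_zero (neg_eq_zero.mp hξ.symm)
    have hb : res (blk β m) (act g (e (blk β i b))) = 0 := by
      funext c
      have e1 := congrFun z1 c
      have e2 := congrFun z2 c
      simp only [Pi.add_apply, Pi.smul_apply, smul_eq_mul, Pi.zero_apply] at e1 e2 ⊢
      have : ((κ - 1) * ξ) * res (blk β m) (act g (e (blk β i b))) c = 0 := by
        linear_combination e2 - e1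
      exact (mul_eq_zero.mp this).resolve_left (mul_ne_zero (sub_ne_zero.mpr hκ1) hξ0)
    rw [hb, smul_zero, add_zero] at z1
    exact ⟨z1, hb⟩
  -- hence blocks go into blocks
  let a₀ : Fin k := ⟨0, by omega⟩
  let a₁ : Fin k := ⟨1, by omega⟩
  have h01 : a₀ ≠ a₁ := by simp [a₀, a₁, Fin.ext_iff]
  choose τ hτ using fun i => key i a₀ a₁ h01
  have hnz : ∀ i a, act g (e (blk β i a) : Fin n → F) ≠ 0 := fun i a h0 => by
    rw [← act_zero g] at h0
    simpa [e_apply] using congrFun (act_injective g h0) (blk β i a)
  have hall : ∀ i a m, m ≠ τ i → res (blk β m) (act g (e (blk β i a))) = 0 := by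
    intro i a m hm
    by_cases ha : a = a₀
    · subst ha; exact (hτ i m hm).1
    obtain ⟨l, hl⟩ := key i a₀ a (Ne.symm ha)
    by_cases hlτ : l = τ i
    · exact (hl m (hlτ ▸ hm)).2
    exfalso
    refine hnz i a₀ (ext_blk β fun m' => ?_)
    rw [res_zero]
    by_cases hm' : m' = τ i
    · exact (hl m' (hm' ▸ Ne.symm hlτ)).1
    · exact (hτ i m' hm').1
  have hτinj : Function.Injective τ := by
    intro i i' hii
    by_contra hne
    let b : Option (Fin k) → Fin k → F := fun o => match o with
      | some a => res (blk β (τ i)) (act g (e (blk β i a)))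
      | none => res (blk β (τ i)) (act g (e (blk β i' a₀)))
    let p : Option (Fin k) → Fin n := fun o => match o with
      | some a => blk β i a
      | none => blk β i' a₀
    have hb : ∀ o, b o = res (blk β (τ i)) (act g (e (p o))) := fun o => by cases o <;> rfl
    have hp : Function.Injective p := by
      intro o o' h
      cases o <;> cases o' <;> simp only [p] at h
      · rfl
      · exact absurd h (blk_ne β (Ne.symm hne) _ _)
      · exact absurd h (blk_ne β hne _ _)
      · rw [blk_injective β i h]
    have hon : IsON q b := fun o o' => by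
      rw [hb, hb]
      have e1 := hg' (e (p o)) (e (p o'))
      rw [h_e_e hF, h_blocks hF β, Finset.sum_eq_single (τ i)] at e1
      · rw [e1]
        by_cases h : o = o'
        · subst h; simp
        · rw [if_neg h, if_neg (fun h' => h (hp h'))]
      · intro m _ hm
        have : res (blk β m) (act g (e (p o))) = 0 := by
          cases o
          · exact hall i' a₀ m (hii ▸ hm)
          · exact hall i _ m hm
        rw [this, h_zero_left]
      · simp
    have := (IsON.linearIndependent hF hon).fintype_card_le_finrank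
    simp at this
  let σ := Equiv.ofBijective τ (Finite.injective_iff_bijective.mp hτinj)
  exact hgP ⟨σ, fun i a m hm => hall i a m hm⟩

/-- A centre on exactly two blocks. -/
theorem BOver.exists_ctr_pair :
    ∃ i j, i ≠ j ∧ ∃ x y, x ≠ 0 ∧ y ≠ 0 ∧ Ctr q M (pv β i j x y) := by
  classical
  have hF := O.card
  obtain ⟨u, hu, h2⟩ := O.exists_ctr_big
  obtain ⟨i, hi, j, hj, hij⟩ := Finset.one_lt_card.mp (show 1 < (bsupp β u).card by omega)
  rw [mem_bsupp] at hi hj
  -- it suffices to find an element moving both components with skew inner product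
  suffices ∃ x y : Fin k → F, x ≠ 0 ∧ y ≠ 0 ∧ Ctr q M (u + pv β i j x y) ∧
      hermForm k F q x (res (blk β i) u) + hermForm k F q y (res (blk β j) u) ≠ 0 ∧
      (hermForm k F q x (res (blk β i) u) + hermForm k F q y (res (blk β j) u)) +
        (hermForm k F q x (res (blk β i) u) + hermForm k F q y (res (blk β j) u)) ^ q = 0 by
    obtain ⟨x, y, hx, hy, hc, hs0, hs⟩ := this
    set s := hermForm k F q x (res (blk β i) u) + hermForm k F q y (res (blk β j) u)
    have hsu : hermForm n F q (u + pv β i j x y) u = s := by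
      rw [h_add_left, hu.iso, zero_add, pv, h_add_left, h_inj_left hF, h_inj_left hF]
    have := ctr_step hF O.le hu hc (c := -s⁻¹) (by
      rw [H50.neg_pow_q hF, inv_pow, eq_neg_of_add_eq_zero_right hs, inv_neg]
      ring)
    rw [hsu, neg_mul, inv_mul_cancel₀ hs0, neg_smul, one_smul, add_neg_cancel_comm] at this
    exact ⟨i, j, hij, x, y, hx, hy, this⟩
  obtain ⟨x₂, hx₂, hux₂⟩ := exists_vec hF O.two hj (b := 0) (zero_pow (H50.q_ne_zero hF)) 1
    (Or.inr one_ne_zero)
  have hx₂0 : x₂ ≠ 0 := fun h0 => by rw [h0, h_zero_right hF] at hux₂; exact zero_ne_one hux₂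
  have hX₂ := O.ctr_member j hx₂
  have hx₂u : hermForm k F q x₂ (res (blk β j) u) = 1 := by
    rw [h_symm hF (res (blk β j) u), hux₂, one_pow]
  have hj2 : hermForm n F q u (UDec.inj (blk β j) x₂) = 1 := by rw [h_inj_right hF, hux₂]
  by_cases hq3 : 3 ≤ q
  · obtain ⟨x₁, hx₁, hux₁⟩ := exists_vec hF O.two hi (b := 0) (zero_pow (H50.q_ne_zero hF)) 1
      (Or.inr one_ne_zero)
    have hx₁0 : x₁ ≠ 0 := fun h0 => by rw [h0, h_zero_right hF] at hux₁; exact zero_ne_one hux₁
    have hX₁ := O.ctr_member i hx₁
    obtain ⟨c₁, hc₁, hc₁0⟩ := exists_skew hF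
    obtain ⟨c₂, hc₂, hc₂0, hcne⟩ := exists_skew_ne hF (t := 1) {-c₁} rfl (by omega)
    rw [Finset.mem_singleton] at hcne
    have h1 := ctr_step hF O.le hX₁ hu hc₁
    rw [show hermForm n F q u (UDec.inj (blk β i) x₁) = 1 by rw [h_inj_right hF, hux₁], mul_one]
      at h1
    have h2 := ctr_step hF O.le hX₂ h1 hc₂
    rw [h_add_left, hj2, h_smul_left, h_inj_right hF, res_inj_ne β hij.symm, h_zero_left, mul_zero,
      add_zero, mul_one] at h2
    have hx₁u : hermForm k F q x₁ (res (blk β i) u) = 1 := by
      rw [h_symm hF (res (blk β i) u), hux₁, one_pow]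
    refine ⟨c₁ • x₁, c₂ • x₂, smul_ne_zero hc₁0 hx₁0, smul_ne_zero hc₂0 hx₂0, ?_, ?_, ?_⟩
    · rw [pv, inj_smul, inj_smul, ← add_assoc]; exact h2
    · rw [h_smul_left, h_smul_left, hx₁u, hx₂u, mul_one, mul_one]
      exact fun h => hcne (eq_neg_of_add_eq_zero_right h)
    · rw [h_smul_left, h_smul_left, hx₁u, hx₂u, mul_one, mul_one, H50.add_pow_q hF]
      linear_combination hc₁ + hc₂
  · have hq : q = 2 := by have := H50.two_le hF; omega
    have hk3 := O.three hq
    have h20 : (1 : F) + 1 = 0 := by
      have h := FiniteField.cast_card_eq_zero F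
      rw [hF, hq] at h
      have h' : (2 : F) ^ 2 = 0 := by exact_mod_cast h
      have := eq_zero_of_pow_eq_zero h'
      rw [← this]; norm_num
    have hsk : (1 : F) + 1 ^ q = 0 := by rw [one_pow]; exact h20
    obtain ⟨x, hx0, hnorm, hzero, hne⟩ : ∃ x : Fin k → F, x ≠ 0 ∧
        hermForm k F q (res (blk β i) u + x) (res (blk β i) u + x) =
          hermForm k F q (res (blk β i) u) (res (blk β i) u) ∧
        hermForm k F q x (res (blk β i) u) = 0 ∧ res (blk β i) u + x ≠ 0 := by
      by_cases ha : hermForm k F q (res (blk β i) u) (res (blk β i) u) = 0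
      · obtain ⟨ω, hω, hω1⟩ := exists_circ_ne_one hF
        refine ⟨ω • res (blk β i) u, smul_ne_zero hω.ne_zero hi, ?_, ?_, ?_⟩
        · simp [h_add_left, h_add_right hF, h_smul_left, h_smul_right hF, ha]
        · rw [h_smul_left, ha, mul_zero]
        · intro h
          apply hω1
          have h' : ((1 : F) + ω) • res (blk β i) u = 0 := by rw [add_smul, one_smul]; exact h
          have := (smul_eq_zero.mp h').resolve_right hi
          linear_combination this - h20
      · obtain ⟨d, hd0, hdd, hpd⟩ := exists_iso_perp hF hk3 ha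
        have hdp := (h_eq_zero_comm hF).1 hpd
        refine ⟨d, hd0, ?_, hdp, fun h => ha ?_⟩
        · simp [h_add_left, h_add_right hF, hdd, hpd, hdp]
        · rw [eq_neg_of_add_eq_zero_left h, ← neg_one_smul F d, h_smul_left, h_smul_right hF, hdd,
            mul_zero, mul_zero]
    obtain ⟨g, hg, hgu⟩ := O.move i hi hne hnorm.symm (Or.inl hk3)
    rw [add_sub_cancel_left] at hgu
    have h1 := ctr_act hF O.le hg hu
    rw [hgu] at h1
    have h2 := ctr_step hF O.le hX₂ h1 hsk
    rw [h_add_left, hj2, h_inj_right hF, res_inj_ne β hij.symm, h_zero_left, add_zero, mul_one,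
      one_smul] at h2
    refine ⟨x, x₂, hx0, hx₂0, ?_, ?_, ?_⟩
    · rw [pv, ← add_assoc]; exact h2
    · rw [hzero, hx₂u, zero_add]; exact one_ne_zero
    · rw [hzero, hx₂u, zero_add]; exact hsk

end H41.UDec
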