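import Cfsg.Agent.H50.Field
import Cfsg.Agent.H50.Form

/-! Sums of norm-one scalars: `Circ q x` means `x * x ^ q = 1`. -/

set_option autoImplicit false
set_option linter.unusedSectionVars false

namespace H41.UDec

open Finset

variable {F : Type*} [Field F] {q : ℕ}

/-- `x` has norm one. -/
def Circ (q : ℕ) (x : F) : Prop := x * x ^ q = 1

theorem Circ.ne_zero {x : F} (h : Circ q x) : x ≠ 0 := fun e => by
  rw [Circ, e, zero_mul] at h; exact zero_ne_one h

theorem Circ.one : Circ q (1 : F) := by simp [Circ]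

theorem Circ.mul {x y : F} (hx : Circ q x) (hy : Circ q y) : Circ q (x * y) := by
  unfold Circ at hx hy ⊢
  rw [mul_pow, mul_mul_mul_comm, hx, hy, one_mul]

theorem Circ.pow {x : F} (hx : Circ q x) (k : ℕ) : Circ q (x ^ k) := by
  induction k with
  | zero => simp [Circ]
  | succ k ih => rw [pow_succ]; exact ih.mul hx

theorem Circ.inv {x : F} (hx : Circ q x) : Circ q x⁻¹ := by
  rw [Circ, inv_pow, ← mul_inv, hx, inv_one]

theorem Circ.zpow {x : F} (hx : Circ q x) : ∀ k : ℤ, Circ q (x ^ k)
  | Int.ofNat k => by simpa using hx.pow k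
  | Int.negSucc k => by simpa using (hx.pow (k + 1)).inv

theorem Circ.div {x y : F} (hx : Circ q x) (hy : Circ q y) : Circ q (x / y) := by
  rw [div_eq_mul_inv]; exact hx.mul hy.inv

theorem Circ.pow_q {x : F} (hx : Circ q x) : x ^ q = x⁻¹ := eq_inv_of_mul_eq_one_right hx

theorem Circ.prod {ι : Type*} {s : Finset ι} {f : ι → F} (h : ∀ i ∈ s, Circ q (f i)) :
    Circ q (∏ i ∈ s, f i) :=
  Finset.prod_induction f (Circ q) (fun _ _ => Circ.mul) Circ.one h

theorem circ_div_of_norm {a b : F} (hb : b ≠ 0) (h : a * a ^ q = b * b ^ q) :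
    Circ q (a / b) := by
  rw [Circ, div_pow, div_mul_div_comm, h, div_self (mul_ne_zero hb (pow_ne_zero _ hb))]

variable [Fintype F] (hF : Fintype.card F = q ^ 2)
include hF

theorem circ_neg_one : Circ q (-1 : F) := by
  rw [Circ, H50.neg_pow_q hF, one_pow, neg_mul_neg, one_mul]

/-- A generator of the group of norm-one scalars. -/
theorem exists_circ_gen : ∃ κ : F, Circ q κ ∧ ∀ k : ℕ, κ ^ k = 1 → q + 1 ∣ k := by
  classical
  obtain ⟨g, hg⟩ := IsCyclic.exists_ofOrder_eq_natCard (α := Fˣ)
  rw [Nat.card_eq_fintype_card, Fintype.card_units, hF] at hg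
  have h2 := H50.two_le hF
  have hmul : (q - 1) * (q + 1) = q ^ 2 - 1 := by
    have := Nat.sq_sub_sq q 1
    rw [one_pow] at this
    rw [this, mul_comm]
  refine ⟨((g ^ (q - 1) : Fˣ) : F), ?_, fun k hk => ?_⟩
  · rw [Circ, ← pow_succ', Units.val_pow_eq_pow_val, ← pow_mul, hmul, ← hg,
      ← Units.val_pow_eq_pow_val, pow_orderOf_eq_one, Units.val_one]
  · have h : g ^ ((q - 1) * k) = 1 := by
      rw [pow_mul]; exact Units.ext (by simpa using hk)
    have := orderOf_dvd_of_pow_eq_one h
    rw [hg, ← hmul] at this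
    exact Nat.dvd_of_mul_dvd_mul_left (by omega) this

theorem exists_circ_ne_one : ∃ κ : F, Circ q κ ∧ κ ≠ 1 := by
  obtain ⟨κ, hκ, hord⟩ := exists_circ_gen hF
  refine ⟨κ, hκ, fun h => ?_⟩
  have := Nat.le_of_dvd (by norm_num) (hord 1 (by rw [h, one_pow]))
  have := H50.two_le hF
  omega

/-- A norm-one scalar whose square is not one. -/
theorem exists_circ_sq_ne_one : ∃ κ : F, Circ q κ ∧ κ ≠ 1 ∧ κ * κ ≠ 1 := by
  obtain ⟨κ, hκ, hord⟩ := exists_circ_gen hF
  have h2 := H50.two_le hF
  refine ⟨κ, hκ, fun h => ?_, fun h => ?_⟩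
  · have := Nat.le_of_dvd (by norm_num) (hord 1 (by rw [h, one_pow]))
    omega
  · have := Nat.le_of_dvd (by norm_num) (hord 2 (by rw [pow_two, h]))
    omega

omit hF in
open Classical in
/-- The norm-one scalars, as a finite set. -/
noncomputable def circles (q : ℕ) (F : Type*) [Field F] [Fintype F] : Finset F :=
  Finset.univ.filter fun x => Circ q x

omit hF in
open Classical in
/-- The scalars fixed by `x ↦ x ^ q`, as a finite set. -/
noncomputable def reals (q : ℕ) (F : Type*) [Field F] [Fintype F] : Finset F :=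
  Finset.univ.filter fun x => x ^ q = x

omit hF in
theorem mem_circles {x : F} : x ∈ circles q F ↔ Circ q x := by simp [circles]

omit hF in
theorem mem_reals {x : F} : x ∈ reals q F ↔ x ^ q = x := by simp [reals]

theorem card_circles : (circles q F).card = q + 1 := by
  classical
  rw [circles, ← Fintype.card_subtype, ← Nat.card_eq_fintype_card]
  rw [← H50.card_norm_eq hF (c := 1) (one_pow q) one_ne_zero]
  exact Nat.card_congr (Equiv.subtypeEquivRight fun x => by rw [Circ, pow_succ'])

theorem card_reals : (reals q F).card = q := by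
  classical
  rw [reals, ← Fintype.card_subtype, ← Nat.card_eq_fintype_card]
  exact H50.card_fixed hF

omit hF in
/-- The norm of `a + l b` as a function of `l`. -/
noncomputable def nf (q : ℕ) (a b l : F) : F := (a + l * b) * (a + l * b) ^ q

open Classical in
omit hF in
/-- The norms of `a + l b` for norm-one `l`. -/
noncomputable def rng (q : ℕ) (a b : F) : Finset F := (circles q F).image (nf q a b)

theorem rng_subset_reals (a b : F) : rng q a b ⊆ reals q F := by
  classical
  intro v hv
  obtain ⟨l, -, rfl⟩ := Finset.mem_image.mp hv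
  rw [mem_reals, nf, mul_pow, H50.pow_q_pow_q hF, mul_comm]

omit hF in
theorem mem_rng {a b v : F} :
    v ∈ rng q a b ↔ ∃ l, Circ q l ∧ (a + l * b) * (a + l * b) ^ q = v := by
  classical
  simp [rng, mem_circles, nf]

theorem nf_fibre {a b l l₀ : F} (ha : a ≠ 0) (hb : b ≠ 0) (hl : Circ q l) (hl₀ : Circ q l₀)
    (h : nf q a b l = nf q a b l₀) : l = l₀ ∨ l = a * b ^ q / (a ^ q * b * l₀) := by
  by_cases hne : l = l₀
  · exact Or.inl hne
  right
  have hl' : l ≠ 0 := hl.ne_zero
  have hl₀' : l₀ ≠ 0 := hl₀.ne_zero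
  unfold nf at h
  rw [H50.add_pow_q hF, H50.add_pow_q hF, mul_pow, mul_pow] at h
  unfold Circ at hl hl₀
  have e : (a ^ q * b) * l + (a * b ^ q) * l ^ q = (a ^ q * b) * l₀ + (a * b ^ q) * l₀ ^ q := by
    linear_combination h - (b * b ^ q) * hl + (b * b ^ q) * hl₀
  have key : (l - l₀) * ((a ^ q * b) * l * l₀ - a * b ^ q) = 0 := by
    linear_combination (l * l₀) * e - (a * b ^ q * l₀) * hl + (a * b ^ q * l) * hl₀
  have h2 := (mul_eq_zero.mp key).resolve_left (sub_ne_zero.mpr hne)
  rw [eq_div_iff (mul_ne_zero (mul_ne_zero (pow_ne_zero _ ha) hb) hl₀')]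
  linear_combination h2

theorem card_rng {a b : F} (ha : a ≠ 0) (hb : b ≠ 0) : q + 1 ≤ 2 * (rng q a b).card := by
  classical
  rw [← card_circles hF]
  refine Finset.card_le_mul_card_image _ 2 fun v hv => ?_
  obtain ⟨l₀, hl₀, rfl⟩ := Finset.mem_image.mp hv
  refine (Finset.card_le_card (t := {l₀, a * b ^ q / (a ^ q * b * l₀)}) fun l hl => ?_).trans
    Finset.card_le_two
  rw [Finset.mem_filter, mem_circles] at hl
  rw [Finset.mem_insert, Finset.mem_singleton]
  exact nf_fibre hF ha hb hl.1 (mem_circles.mp hl₀) hl.2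

theorem card_rng_real {a b : F} (ha : a ≠ 0) (hb : b ≠ 0) (hab : a * b ^ q = a ^ q * b) :
    q + 2 ≤ 2 * (rng q a b).card := by
  classical
  have hR : ∀ l₀ : F, Circ q l₀ → nf q a b l₀ = nf q a b 1 → l₀ = 1 := by
    intro l₀ hl₀ h
    rcases nf_fibre hF ha hb hl₀ Circ.one h with h2 | h2
    · exact h2
    · rw [h2, hab, mul_one, div_self (mul_ne_zero (pow_ne_zero _ ha) hb)]
  have hmem : (1 : F) ∈ circles q F := mem_circles.mpr Circ.one
  have hnot : nf q a b 1 ∉ ((circles q F).erase 1).image (nf q a b) := by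
    intro h
    obtain ⟨l, hl, he⟩ := Finset.mem_image.mp h
    rw [Finset.mem_erase, mem_circles] at hl
    exact hl.1 (hR l hl.2 he)
  have hins : rng q a b = insert (nf q a b 1) (((circles q F).erase 1).image (nf q a b)) := by
    rw [← Finset.image_insert, Finset.insert_erase hmem, rng]
  have hc : ((circles q F).erase 1).card ≤ 2 * (((circles q F).erase 1).image (nf q a b)).card := by
    refine Finset.card_le_mul_card_image _ 2 fun v hv => ?_
    obtain ⟨l₀, hl₀, rfl⟩ := Finset.mem_image.mp hv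
    refine (Finset.card_le_card (t := {l₀, a * b ^ q / (a ^ q * b * l₀)}) fun l hl => ?_).trans
      Finset.card_le_two
    rw [Finset.mem_filter, Finset.mem_erase, mem_circles] at hl
    rw [Finset.mem_erase, mem_circles] at hl₀
    rw [Finset.mem_insert, Finset.mem_singleton]
    exact nf_fibre hF ha hb hl.1.2 hl₀.2 hl.2
  rw [hins, Finset.card_insert_of_notMem hnot]
  rw [Finset.card_erase_of_mem hmem, card_circles hF] at hc
  omega

end H41.UDec
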