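import Cfsg.Agent.H41.UDec.Phases
import Cfsg.Agent.H45.GL
import Cfsg.Agent.H45.UnitTv
import Cfsg.Agent.H50.Generation

/-! Elements of the unitary group in `GL n F`: reflections, diagonal, permutations, embeddings. -/

set_option autoImplicit false
set_option linter.unusedSectionVars false

namespace H41.UDec

open Matrix Cfsg Cfsg.Geo H45 H50

variable {F : Type*} [Field F] {n q : ℕ}

/-- The special unitary group inside `GL n F`. -/
abbrev SUGL (n : ℕ) (F : Type*) [Field F] (q : ℕ) : Subgroup (GL (Fin n) F) :=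
  GU n F q ⊓ specialLinear (Fin n) F

/-- The standard basis vector. -/
def e (i : Fin n) : Fin n → F := Pi.single i 1

theorem e_apply (i r : Fin n) : (e i : Fin n → F) r = if r = i then 1 else 0 := by
  rw [e, Pi.single_apply]

/-- The squared norm of a coordinate. -/
def nc (q : ℕ) (v : Fin n → F) (i : Fin n) : F := v i * v i ^ q

theorem h_self (v : Fin n → F) : hermForm n F q v v = ∑ i, nc q v i := rfl

/-- Every column has at most one non-zero entry. -/
def Mono (g : GL (Fin n) F) : Prop := ∀ c, ∃ p, ∀ r, r ≠ p → act g (e c) r = 0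

/-- The coordinates where `v` does not vanish. -/
noncomputable def supp (v : Fin n → F) : Finset (Fin n) :=
  @Finset.filter _ (fun i => v i ≠ 0) (Classical.decPred _) Finset.univ

theorem mem_supp {v : Fin n → F} {i : Fin n} : i ∈ supp v ↔ v i ≠ 0 := by simp [supp]

theorem notMem_supp {v : Fin n → F} {i : Fin n} : i ∉ supp v ↔ v i = 0 := by
  rw [mem_supp, not_not]

theorem supp_eq_empty {v : Fin n → F} : supp v = ∅ ↔ v = 0 := by
  simp [Finset.eq_empty_iff_forall_notMem, notMem_supp, funext_iff]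

theorem eq_sum_e (v : Fin n → F) : v = ∑ i, v i • e i := by
  funext r; simp [e_apply, Finset.sum_apply]

variable [Fintype F] (hF : Fintype.card F = q ^ 2)
include hF

theorem h_e_right (v : Fin n → F) (i : Fin n) : hermForm n F q v (e i) = v i :=
  h_single_right hF v i

theorem h_e_left (v : Fin n → F) (i : Fin n) : hermForm n F q (e i) v = v i ^ q :=
  h_single_left hF v i

theorem h_e_e (i j : Fin n) : hermForm n F q (e i) (e j) = if i = j then (1 : F) else 0 :=
  h_single_single hF i j

theorem nc_eq_zero {v : Fin n → F} {i : Fin n} : nc q v i = 0 ↔ v i = 0 := by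
  rw [nc, mul_eq_zero, pow_q_eq_zero hF, or_self]

theorem nc_fixed (v : Fin n → F) (i : Fin n) : nc q v i ^ q = nc q v i := by
  rw [nc, mul_pow, pow_q_pow_q hF, mul_comm]

theorem sum_nc_supp (v : Fin n → F) : ∑ i ∈ supp v, nc q v i = hermForm n F q v v := by
  rw [h_self]
  refine Finset.sum_subset (Finset.subset_univ _) fun i _ hi => ?_
  rw [nc_eq_zero hF, ← notMem_supp]; exact hi

theorem two_le_card_supp {v : Fin n → F} (hv : hermForm n F q v v = 0) (h0 : v ≠ 0) :
    2 ≤ (supp v).card := by
  by_contra hlt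
  rcases Nat.lt_succ_iff.mp (Nat.lt_of_not_le hlt) |>.lt_or_eq with h | h
  · exact h0 (supp_eq_empty.mp (Finset.card_eq_zero.mp (by omega)))
  · obtain ⟨i, hi⟩ := Finset.card_eq_one.mp h
    rw [← sum_nc_supp hF, hi, Finset.sum_singleton, nc_eq_zero hF] at hv
    have : i ∈ supp v := by rw [hi]; simp
    exact mem_supp.mp this hv

omit hF in
theorem mem_SUGL {g : GL (Fin n) F} : g ∈ SUGL n F q ↔
    (∀ u v, hermForm n F q (act g u) (act g v) = hermForm n F q u v) ∧
      (g : Matrix (Fin n) (Fin n) F).det = 1 :=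
  mem_GU_sl

/-- An isometric matrix as an invertible matrix. -/
noncomputable def gl (M : Matrix (Fin n) (Fin n) F) (h : IsIso q M) : GL (Fin n) F :=
  Matrix.GeneralLinearGroup.mkOfDetNeZero M (h.det_ne_zero hF)

theorem act_gl (M : Matrix (Fin n) (Fin n) F) (h : IsIso q M) (v : Fin n → F) :
    act (gl hF M h) v = M *ᵥ v := rfl

theorem gl_mem (M : Matrix (Fin n) (Fin n) F) (h : IsIso q M) : gl hF M h ∈ GU n F q := h

theorem gl_mem_SUGL {M : Matrix (Fin n) (Fin n) F} (h : IsIso q M) (hd : M.det = 1) :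
    gl hF M h ∈ SUGL n F q := mem_SUGL.mpr ⟨h, hd⟩

/-- A pseudo-reflection or transvection with centre `x`. -/
noncomputable def rf (x : Fin n → F) (α : F)
    (h : α + α ^ q + α * α ^ q * hermForm n F q x x = 0) : GL (Fin n) F :=
  gl hF (unitaryTransvection n q x α) (ut_isIso hF h)

theorem act_rf (x : Fin n → F) (α : F) (h) (v : Fin n → F) :
    act (rf hF x α h) v = v + (α * hermForm n F q v x) • x := ut_mulVec x α v

theorem det_rf (x : Fin n → F) (α : F) (h) :
    (rf hF x α h : Matrix (Fin n) (Fin n) F).det = 1 + α * hermForm n F q x x := ut_det x α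

theorem rf_mem (x : Fin n → F) (α : F) (h) : rf hF x α h ∈ GU n F q := gl_mem hF _ _

theorem conj_rf {g : GL (Fin n) F} (hg : g ∈ GU n F q) (x : Fin n → F) (α : F) (h) :
    g * rf hF x α h * g⁻¹ = rf hF (act g x) α (by rw [mem_GU.mp hg x x]; exact h) := by
  refine gl_ext fun v => ?_
  have e1 : hermForm n F q v (act g x) = hermForm n F q (act g⁻¹ v) x := by
    have := mem_GU.mp hg (act g⁻¹ v) x
    rw [← this]
    change _ = hermForm n F q (act g (act g⁻¹ v)) (act g x)
    rw [act_act_inv]
  rw [act_mul, act_mul, act_rf, act_rf, act_add, act_smul, act_act_inv, e1]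

/-- The product of two pseudo-reflections with orthogonal centres. -/
noncomputable def rf2 (x y : Fin n → F) (α β : F)
    (h : α + α ^ q + α * α ^ q * hermForm n F q x x = 0)
    (h' : β + β ^ q + β * β ^ q * hermForm n F q y y = 0) : GL (Fin n) F :=
  rf hF x α h * rf hF y β h'

theorem act_rf2 {x y : Fin n → F} {α β : F} {h h'} (hxy : hermForm n F q x y = 0)
    (v : Fin n → F) : act (rf2 hF x y α β h h') v =
      v + (α * hermForm n F q v x) • x + (β * hermForm n F q v y) • y := by
  rw [rf2, act_mul, act_rf, act_rf, h_add_left, h_smul_left, (h_eq_zero_comm hF).1 hxy, mul_zero,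
    add_zero, add_right_comm]

theorem conj_rf2 {g : GL (Fin n) F} (hg : g ∈ GU n F q) (x y : Fin n → F) (α β : F) (h h') :
    g * rf2 hF x y α β h h' * g⁻¹ = rf2 hF (act g x) (act g y) α β
      (by rw [mem_GU.mp hg x x]; exact h) (by rw [mem_GU.mp hg y y]; exact h') := by
  have := conj_rf hF hg x α h
  have := conj_rf hF hg y β h'
  rw [rf2, rf2, ← conj_rf hF hg x α h, ← conj_rf hF hg y β h']
  group

theorem rf2_mem_SUGL {x y : Fin n → F} {α β : F} (h h')
    (hd : (1 + α * hermForm n F q x x) * (1 + β * hermForm n F q y y) = 1) :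
    rf2 hF x y α β h h' ∈ SUGL n F q := by
  refine ⟨Subgroup.mul_mem _ (rf_mem hF _ _ _) (rf_mem hF _ _ _), ?_⟩
  change rf2 hF x y α β h h' ∈ specialLinear (Fin n) F
  rw [specialLinear, MonoidHom.mem_ker]
  refine Units.ext ?_
  rw [Matrix.GeneralLinearGroup.val_det_apply, rf2, Units.val_mul, Matrix.det_mul, det_rf, det_rf,
    Units.val_one, hd]

theorem refl_cond {x : Fin n → F} (hx : hermForm n F q x x = 1) {κ : F} (hκ : Circ q κ) :
    (κ - 1) + (κ - 1) ^ q + (κ - 1) * (κ - 1) ^ q * hermForm n F q x x = 0 := by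
  rw [hx, sub_pow_q hF, one_pow]
  unfold Circ at hκ
  linear_combination hκ

/-- A diagonal element. -/
noncomputable def dg (f : Fin n → F) (hf : ∀ i, Circ q (f i)) : GL (Fin n) F :=
  gl hF (Matrix.diagonal f) (fun u v => by
    simp only [hermForm, mulVec_diagonal, mul_pow]
    refine Finset.sum_congr rfl fun i _ => ?_
    have := hf i
    unfold Circ at this
    linear_combination (u i * v i ^ q) * this)

theorem act_dg (f : Fin n → F) (hf) (v : Fin n → F) (i : Fin n) :
    act (dg hF f hf) v i = f i * v i := mulVec_diagonal f v i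

theorem dg_mem (f : Fin n → F) (hf) (hp : ∏ i, f i = 1) : dg hF f hf ∈ SUGL n F q :=
  gl_mem_SUGL hF _ (by rw [Matrix.det_diagonal, hp])

theorem dg_mono (f : Fin n → F) (hf) : Mono (dg hF f hf) := fun c =>
  ⟨c, fun r hr => by rw [act_dg, e_apply, if_neg hr, mul_zero]⟩

theorem act_dg_e (f : Fin n → F) (hf) (c : Fin n) : act (dg hF f hf) (e c) = f c • e c := by
  funext r
  rw [act_dg, Pi.smul_apply, smul_eq_mul, e_apply]
  split_ifs with h
  · rw [h]
  · simp

/-- A coordinate permutation. -/
noncomputable def prm (π : Equiv.Perm (Fin n)) : GL (Fin n) F :=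
  gl hF (π.permMatrix F) (fun u v => by
    simp only [Matrix.permMatrix_mulVec, hermForm, Function.comp_apply]
    exact Equiv.sum_comp π (fun i => u i * v i ^ q))

theorem act_prm (π : Equiv.Perm (Fin n)) (v : Fin n → F) (i : Fin n) :
    act (prm hF π) v i = v (π i) := by
  show (π.permMatrix F *ᵥ v) i = _
  rw [Matrix.permMatrix_mulVec]; rfl

/-- A permutation with a sign correction at one coordinate. -/
noncomputable def sprm (π : Equiv.Perm (Fin n)) (w : Fin n) : GL (Fin n) F :=
  dg hF (fun i => if i = w then ((Equiv.Perm.sign π : ℤ) : F) else 1) (fun i => by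
    rcases Int.units_eq_one_or (Equiv.Perm.sign π) with h | h <;> rw [h] <;>
      split_ifs <;> simp [Circ.one, circ_neg_one hF]) * prm hF π

theorem act_sprm (π : Equiv.Perm (Fin n)) (w : Fin n) (v : Fin n → F) (i : Fin n) :
    act (sprm hF π w) v i = (if i = w then ((Equiv.Perm.sign π : ℤ) : F) else 1) * v (π i) := by
  rw [sprm, act_mul, act_dg, act_prm]

theorem sprm_mem (π : Equiv.Perm (Fin n)) (w : Fin n) : sprm hF π w ∈ SUGL n F q := by
  refine mem_SUGL.mpr ⟨fun u v => ?_, ?_⟩
  · exact (Subgroup.mul_mem _ (gl_mem hF _ _) (gl_mem hF _ _) : sprm hF π w ∈ GU n F q) u v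
  · change ((Matrix.diagonal fun i => if i = w then ((Equiv.Perm.sign π : ℤ) : F) else 1) *
      π.permMatrix F).det = 1
    rw [Matrix.det_mul, Matrix.det_diagonal, Matrix.det_permutation, Finset.prod_ite_eq']
    rcases Int.units_eq_one_or (Equiv.Perm.sign π) with h | h <;> simp [h]

theorem sprm_mono (π : Equiv.Perm (Fin n)) (w : Fin n) : Mono (sprm hF π w) := fun c =>
  ⟨π.symm c, fun r hr => by
    rw [act_sprm, e_apply, if_neg (fun h => hr (π.eq_symm_apply.mpr h)), mul_zero]⟩

/-- Restriction of coordinates along `p`. -/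
def res {k : ℕ} (p : Fin k → Fin n) (v : Fin n → F) : Fin k → F := fun j => v (p j)

/-- The matrix with columns `e (p j)`. -/
def pmat {k : ℕ} (p : Fin k → Fin n) : Matrix (Fin n) (Fin k) F :=
  Matrix.of fun r j => if r = p j then 1 else 0

omit hF in
theorem pmat_transpose_mul {k : ℕ} {p : Fin k → Fin n} (hp : Function.Injective p) :
    (pmat (F := F) p)ᵀ * pmat (F := F) p = 1 := by
  ext i j
  rw [Matrix.mul_apply]
  simp [pmat, Matrix.one_apply, hp.eq_iff, eq_comm]

omit hF in
theorem pmat_transpose_mulVec {k : ℕ} (p : Fin k → Fin n) (v : Fin n → F) :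
    (pmat (F := F) p)ᵀ *ᵥ v = res p v := by
  funext j; simp [Matrix.mulVec, dotProduct, pmat, res]

/-- Extension of coordinates along `p`. -/
def inj {k : ℕ} (p : Fin k → Fin n) (w : Fin k → F) : Fin n → F := pmat p *ᵥ w

omit hF in
theorem inj_apply_self {k : ℕ} {p : Fin k → Fin n} (hp : Function.Injective p) (w : Fin k → F)
    (j : Fin k) : inj p w (p j) = w j := by
  simp [inj, Matrix.mulVec, dotProduct, pmat, hp.eq_iff]

omit hF in
theorem inj_apply_off {k : ℕ} {p : Fin k → Fin n} (w : Fin k → F) {r : Fin n}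
    (hr : ∀ j, p j ≠ r) : inj p w r = 0 := by
  simp [inj, Matrix.mulVec, dotProduct, pmat, fun j => Ne.symm (hr j)]

theorem h_inj_right {k : ℕ} (p : Fin k → Fin n) (v : Fin n → F) (w : Fin k → F) :
    hermForm n F q v (inj p w) = hermForm k F q (res p v) w := by
  have : inj p w = ∑ j, w j • e (p j) := by
    funext r; simp [inj, Matrix.mulVec, dotProduct, pmat, e_apply, Finset.sum_apply]
  rw [this, h_sum_right hF]
  simp only [hermForm, res]
  refine Finset.sum_congr rfl fun j _ => ?_
  rw [show (∑ i, v i * ((w j • e (p j) : Fin n → F) i) ^ q) =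
    hermForm n F q v (w j • e (p j)) from rfl, h_smul_right hF, h_e_right hF, mul_comm]

theorem h_inj_inj {k : ℕ} {p : Fin k → Fin n} (hp : Function.Injective p) (v w : Fin k → F) :
    hermForm n F q (inj p v) (inj p w) = hermForm k F q v w := by
  rw [h_inj_right hF]
  congr 1
  funext j; exact inj_apply_self hp v j

/-- A `k × k` matrix acting on the coordinates `p`. -/
def embMat {k : ℕ} (p : Fin k → Fin n) (M : Matrix (Fin k) (Fin k) F) :
    Matrix (Fin n) (Fin n) F :=
  1 + (pmat (F := F) p * (M - 1) : Matrix (Fin n) (Fin k) F) * (pmat (F := F) p)ᵀ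

omit hF in
theorem embMat_mulVec {k : ℕ} (p : Fin k → Fin n) (M : Matrix (Fin k) (Fin k) F)
    (v : Fin n → F) : embMat p M *ᵥ v = v + inj p (M *ᵥ res p v - res p v) := by
  rw [embMat, add_mulVec, one_mulVec, ← mulVec_mulVec, ← mulVec_mulVec, pmat_transpose_mulVec,
    sub_mulVec, one_mulVec, inj]

theorem embMat_iso {k : ℕ} {p : Fin k → Fin n} (hp : Function.Injective p)
    {M : Matrix (Fin k) (Fin k) F} (hM : IsIso q M) : IsIso q (embMat p M) := by
  intro u v
  rw [embMat_mulVec, embMat_mulVec, h_add_left, h_add_right hF, h_add_right hF, h_inj_right hF,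
    h_inj_inj hF hp, h_symm hF v (inj p _), h_inj_right hF, ← h_symm hF, h_sub_right hF,
    h_sub_left, h_sub_left, h_sub_right hF, h_sub_right hF, hM]
  ring

omit hF in
theorem det_embMat {k : ℕ} {p : Fin k → Fin n} (hp : Function.Injective p)
    (M : Matrix (Fin k) (Fin k) F) : (embMat p M).det = M.det := by
  rw [embMat, Matrix.det_one_add_mul_comm, ← Matrix.mul_assoc, pmat_transpose_mul hp,
    Matrix.one_mul, add_sub_cancel]

omit hF in
theorem embMat_mul {k : ℕ} {p : Fin k → Fin n} (hp : Function.Injective p)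
    (M N : Matrix (Fin k) (Fin k) F) : embMat p (M * N) = embMat p M * embMat p N := by
  let P : Matrix (Fin n) (Fin k) F := pmat p
  have e1 : ∀ A B : Matrix (Fin k) (Fin k) F,
      ((P * A : Matrix (Fin n) (Fin k) F) * Pᵀ) * ((P * B : Matrix (Fin n) (Fin k) F) * Pᵀ) =
        (P * (A * B) : Matrix (Fin n) (Fin k) F) * Pᵀ := by
    intro A B
    have h1 : Pᵀ * P = 1 := pmat_transpose_mul hp
    rw [Matrix.mul_assoc (P * A : Matrix (Fin n) (Fin k) F), ← Matrix.mul_assoc Pᵀ, ← Matrix.mul_assoc Pᵀ,
      h1, Matrix.one_mul, ← Matrix.mul_assoc, Matrix.mul_assoc P]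
  rw [embMat, embMat, embMat, Matrix.add_mul, Matrix.one_mul, Matrix.mul_add, Matrix.mul_one, e1,
    ← add_assoc, add_assoc 1, add_assoc 1, ← Matrix.add_mul, ← Matrix.add_mul, ← Matrix.mul_add,
    ← Matrix.mul_add]
  congr 3
  noncomm_ring

omit hF in
theorem embMat_one {k : ℕ} (p : Fin k → Fin n) :
    embMat p (1 : Matrix (Fin k) (Fin k) F) = 1 := by simp [embMat]

omit hF in
theorem embMat_ut {k : ℕ} {p : Fin k → Fin n} (v : Fin k → F) (c : F)
    (hh : ∀ x, hermForm n F q x (inj p v) = hermForm k F q (res p x) v) :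
    embMat p (unitaryTransvection k q v c) = unitaryTransvection n q (inj p v) c := by
  refine Matrix.ext_of_mulVec_single fun i => ?_
  rw [embMat_mulVec, ut_mulVec, ut_mulVec, hh, add_sub_cancel_left, inj, mulVec_smul]
  rfl

end H41.UDec
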