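import Cfsg.Agent.H41.UDec.MonoLemmas
import Cfsg.Agent.H38.SUBundle.Parity

/-! An overgroup of the monomial group with a non-monomial element has one fixing a coordinate
line. -/

set_option autoImplicit false
set_option linter.unusedSectionVars false

namespace H41.UDec

open Matrix Cfsg Cfsg.Geo H45 H50

variable {F : Type*} [Field F] [Fintype F] {n q : ℕ}

/-- The hypotheses: a group between the monomial group and `SU`, not monomial. -/
structure Over (q : ℕ) (M : Subgroup (GL (Fin n) F)) : Prop where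
  card : Fintype.card F = q ^ 2
  le : M ≤ SUGL n F q
  mono : ∀ g ∈ SUGL n F q, Mono g → g ∈ M
  big : ∃ g ∈ M, ¬ Mono g
  dim : 6 ≤ n

/-- Some non-monomial element of `M` maps a coordinate line to itself. -/
def HasAxis (M : Subgroup (GL (Fin n) F)) : Prop :=
  ∃ K ∈ M, ¬ Mono K ∧ ∃ (z : Fin n) (s : F), act K (e z) = s • (e z : Fin n → F)

theorem eq_smul_e {g : GL (Fin n) F} {c p : Fin n} (hp : ∀ r, r ≠ p → act g (e c) r = 0) :
    act g (e c) = act g (e c) p • e p := funext fun r => by
  by_cases h : r = p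
  · subst h; simp [e_apply]
  · simp [e_apply, h, hp r h]

theorem Mono.mul {g k : GL (Fin n) F} (hg : Mono g) (hk : Mono k) : Mono (g * k) := by
  intro c
  obtain ⟨p, hp⟩ := hk c
  obtain ⟨p', hp'⟩ := hg p
  exact ⟨p', fun r hr => by
    rw [act_mul, eq_smul_e hp, act_smul, Pi.smul_apply, hp' r hr, smul_zero]⟩

variable {M : Subgroup (GL (Fin n) F)} (O : Over q M)
include O

theorem Over.inj (g : GL (Fin n) F) (hg : g ∈ M) (u v : Fin n → F) :
    hermForm n F q (act g u) (act g v) = hermForm n F q u v :=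
  (mem_SUGL.mp (O.le hg)).1 u v

theorem Over.h_cols {g : GL (Fin n) F} (hg : g ∈ M) (a b : Fin n) :
    hermForm n F q (act g (e a)) (act g (e b)) = if a = b then 1 else 0 := by
  rw [O.inj g hg, h_e_e O.card]

/-- The pair element. -/
theorem Over.pair_mem {κ : F} (hκ : Circ q κ) {a b : Fin n} (hab : a ≠ b) :
    rf2 O.card (e a) (e b) (κ - 1) (κ⁻¹ - 1)
      (refl_cond O.card (by rw [h_e_e O.card, if_pos rfl]) hκ)
      (refl_cond O.card (by rw [h_e_e O.card, if_pos rfl]) hκ.inv) ∈ M := by
  refine O.mono _ (rf2_mem_SUGL O.card _ _ ?_) fun c => ?_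
  · rw [h_e_e O.card, h_e_e O.card, if_pos rfl, if_pos rfl, mul_one, mul_one, add_sub_cancel,
      add_sub_cancel, mul_inv_cancel₀ hκ.ne_zero]
  · refine ⟨c, fun r hr => ?_⟩
    rw [act_rf2_e O.card (by rw [h_e_e O.card, if_neg hab]), if_neg hr]
    by_cases h1 : r = a <;> by_cases h2 : r = b <;> by_cases h3 : c = a <;> by_cases h4 : c = b <;>
      simp_all [e_apply, q_ne_zero O.card, zero_pow]

/-- Conjugate of a pair element. -/
theorem Over.conj_pair_mem {g : GL (Fin n) F} (hg : g ∈ M) {κ : F} (hκ : Circ q κ) {a b : Fin n}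
    (hab : a ≠ b) : ∃ h h', rf2 O.card (act g (e a)) (act g (e b)) (κ - 1) (κ⁻¹ - 1) h h' ∈ M := by
  have := mul_mem (mul_mem hg (O.pair_mem hκ hab)) (inv_mem hg)
  rw [conj_rf2 O.card (O.le hg).1] at this
  exact ⟨_, _, this⟩

/-- A non-monomial element mapping an axis to an axis gives `HasAxis`. -/
theorem Over.hasAxis_of_axis {g : GL (Fin n) F} (hg : g ∈ M) (hgm : ¬ Mono g) {a p : Fin n}
    (hp : ∀ r, r ≠ p → act g (e a) r = 0) : HasAxis M := by
  obtain ⟨w, hw⟩ : ∃ w : Fin n, w ≠ a := ⟨if (⟨0, by have := O.dim; omega⟩ : Fin n) = a then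
    ⟨1, by have := O.dim; omega⟩ else ⟨0, by have := O.dim; omega⟩, by
      split_ifs with h
      · intro h'; simp [← h, Fin.ext_iff] at h'
      · exact h⟩
  set P := sprm O.card (Equiv.swap a p) w with hP
  have hPM : P ∈ M := O.mono _ (sprm_mem O.card _ _) (sprm_mono O.card _ _)
  refine ⟨P * g, mul_mem hPM hg, fun hm => hgm ?_, a,
    act g (e a) p * act P (e p) a, ?_⟩
  · intro c
    obtain ⟨t, ht⟩ := hm c
    refine ⟨Equiv.swap a p t, fun r hr => ?_⟩
    have := ht (Equiv.swap a p r) (fun h => hr (by rw [← h, Equiv.swap_apply_self]))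
    rw [act_mul, hP, act_sprm, Equiv.swap_apply_self, mul_eq_zero] at this
    refine this.resolve_left ?_
    split_ifs
    · rcases Int.units_eq_one_or (Equiv.Perm.sign (Equiv.swap a p)) with h | h <;> rw [h] <;> simp
    · exact one_ne_zero
  · rw [act_mul, eq_smul_e hp, act_smul]
    funext r
    simp only [hP, Pi.smul_apply, smul_eq_mul, act_sprm, e_apply]
    by_cases hr : r = a
    · subst hr; simp
    · have : ¬ Equiv.swap a p r = p := fun h => hr
        ((Equiv.swap a p).injective (h.trans (Equiv.swap_apply_left a p).symm))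
      simp [hr, this]

/-- Five zeros in a row of a non-monomial element. -/
theorem Over.five {g : GL (Fin n) F} (hg : g ∈ M) (hgm : ¬ Mono g) {z : Fin n} {Z : Finset (Fin n)}
    (hZ : 5 ≤ Z.card) (h0 : ∀ a ∈ Z, act g (e a) z = 0) : HasAxis M := by
  classical
  obtain ⟨κ, hκ, hκ1, hκ2⟩ := exists_circ_sq_ne_one O.card
  by_contra hno
  have hq := q_ne_zero O.card
  have hmono : ∀ a ∈ Z, ∀ b ∈ Z, a ≠ b → ∀ h h',
      Mono (rf2 O.card (act g (e a)) (act g (e b)) (κ - 1) (κ⁻¹ - 1) h h') := by
    intro a ha b hb hab h h'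
    by_contra hm
    obtain ⟨h1, h2, hmem⟩ := O.conj_pair_mem hg hκ hab
    refine hno ⟨_, hmem, hm, z, 1, ?_⟩
    rw [act_rf2 O.card (by rw [O.h_cols hg, if_neg hab]), h_e_left O.card, h_e_left O.card, h0 a ha,
      h0 b hb, zero_pow hq, mul_zero, mul_zero, zero_smul, zero_smul, add_zero, add_zero, one_smul]
  obtain ⟨a, ha⟩ := Finset.card_pos.mp (show 0 < Z.card by omega)
  have hp2 : 2 ≤ (supp (act g (e a))).card := by
    by_contra h2
    obtain ⟨p, hp⟩ : ∃ p, ∀ r, r ≠ p → act g (e a) r = 0 := by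
      rcases (supp (act g (e a))).eq_empty_or_nonempty with he | ⟨p, hp⟩
      · exact ⟨a, fun r _ => notMem_supp.mp (by rw [he]; simp)⟩
      · refine ⟨p, fun r hr => notMem_supp.mp fun hr' => ?_⟩
        exact h2 (Finset.one_lt_card.mpr ⟨r, hr', p, hp, hr⟩)
    exact hno (O.hasAxis_of_axis hg hgm hp)
  have hcond : ∀ b, (κ⁻¹ - 1) + (κ⁻¹ - 1) ^ q + (κ⁻¹ - 1) * (κ⁻¹ - 1) ^ q *
      hermForm n F q (act g (e b)) (act g (e b)) = 0 := fun b =>
    refl_cond O.card (by rw [O.h_cols hg, if_pos rfl]) hκ.inv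
  have hcondk : ∀ b, (κ - 1) + (κ - 1) ^ q + (κ - 1) * (κ - 1) ^ q *
      hermForm n F q (act g (e b)) (act g (e b)) = 0 := fun b =>
    refl_cond O.card (by rw [O.h_cols hg, if_pos rfl]) hκ
  have hi1 : κ⁻¹ - 1 ≠ 0 := sub_ne_zero.mpr fun h => hκ1 (inv_eq_one.mp h)
  have hsub : ∀ b ∈ Z, supp (act g (e b)) ⊆ supp (act g (e a)) := by
    intro b hb
    rcases eq_or_ne a b with rfl | hab
    · exact subset_rfl
    exact supp_subset O.card hκ1 hκ2 (by rw [O.h_cols hg, if_neg hab])
      (by rw [O.h_cols hg, if_pos rfl]) hi1 hp2 (hmono a ha b hb hab (hcondk a) (hcond b))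
  obtain ⟨b, hb, hba⟩ := Finset.exists_mem_ne (s := Z) (by omega) a
  have h4 : (supp (act g (e a))).card ≤ 4 := by
    have := hmono b hb a ha hba (hcondk b) (hcond a)
    exact card_supp_le_four O.card (by rw [O.h_cols hg, if_neg hba])
      (by rw [O.h_cols hg, if_pos rfl]; exact one_ne_zero) (sub_ne_zero.mpr hκ1) hi1 this
  -- five orthonormal vectors in a space of dimension four
  let S := supp (act g (e a))
  let v : Z → (S → F) := fun b s => act g (e (b : Fin n)) (s : Fin n)
  have hli : LinearIndependent F v := by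
    refine Fintype.linearIndependent_iff.2 fun c hc b => ?_
    have h1 : act g (∑ i : Z, c i • e (i : Fin n)) = 0 := by
      rw [act_sum]
      funext r
      simp only [act_smul, Finset.sum_apply, Pi.smul_apply, smul_eq_mul, Pi.zero_apply]
      by_cases hr : r ∈ S
      · have := congrFun hc ⟨r, hr⟩
        simpa [v, Finset.sum_apply] using this
      · refine Finset.sum_eq_zero fun i _ => ?_
        rw [notMem_supp.mp (fun h => hr (hsub i i.2 h)), mul_zero]
    rw [← act_zero g] at h1
    have := congrFun (act_injective g h1) b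
    simpa [Finset.sum_apply, e_apply, Subtype.val_inj] using this
  have := hli.fintype_card_le_finrank
  rw [Module.finrank_fintype_fun_eq_card, Fintype.card_coe, Fintype.card_coe] at this
  have : S.card ≤ 4 := h4
  omega

/-- A column with small support gives an axis. -/
theorem Over.of_small_col (h10 : 10 ≤ n) {g : GL (Fin n) F} (hg : g ∈ M) (hgm : ¬ Mono g) {a : Fin n}
    (hs : (supp (act g (e a))).card ≤ 4) : HasAxis M := by
  classical
  have hm : ¬ Mono g⁻¹ := by
    intro hm
    refine hgm fun c => ?_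
    choose p hp using hm
    have hinj : Function.Injective p := fun i j h => by
      by_contra hne
      exact mono_rows_ne hne (hp i) (hp j) h
    obtain ⟨r, rfl⟩ := (Finite.injective_iff_surjective.mp hinj) c
    refine ⟨r, fun s hs' => ?_⟩
    have h1 := congrArg (act g) (eq_smul_e (hp r))
    rw [act_act_inv, act_smul] at h1
    have h2 := congrFun h1 s
    rw [e_apply, if_neg hs', Pi.smul_apply, smul_eq_mul] at h2
    refine (mul_eq_zero.mp h2.symm).resolve_left fun h0 => ?_
    have := congrFun h1 r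
    rw [e_apply, if_pos rfl, Pi.smul_apply, h0, zero_smul] at this
    exact one_ne_zero this
  refine O.five (inv_mem hg) hm (z := a) (Z := Finset.univ \ supp (act g (e a))) ?_ fun b hb => ?_
  · rw [Finset.card_univ_sdiff, Fintype.card_fin]
    have := O.dim
    omega
  · have hb0 : act g (e a) b = 0 := notMem_supp.mp (Finset.mem_sdiff.mp hb).2
    have h1 : hermForm n F q (e a) (act g⁻¹ (e b)) = hermForm n F q (act g (e a)) (e b) := by
      rw [← O.inj g hg (e a), act_act_inv]
    rw [h_e_left O.card, h_e_right O.card, hb0] at h1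
    exact eq_zero_of_pow_eq_zero h1

theorem Over.rf2_mono_small (h10 : 10 ≤ n) {g : GL (Fin n) F} (hg : g ∈ M) (hgm : ¬ Mono g) {a : Fin n}
    {x : Fin n → F} {α β : F} {h h'} (hx : hermForm n F q x (act g (e a)) = 0) (hα : α ≠ 0)
    (hβ : β ≠ 0) (hm : Mono (rf2 O.card x (act g (e a)) α β h h')) : HasAxis M :=
  O.of_small_col h10 hg hgm (card_supp_le_four O.card hx
    (by rw [O.h_cols hg, if_pos rfl]; exact one_ne_zero) hα hβ hm)

/-- Stage two: an entry zero. -/
theorem Over.of_entry_zero (h10 : 10 ≤ n) (hodd : (2 : F) ≠ 0) {g : GL (Fin n) F} (hg : g ∈ M) (hgm : ¬ Mono g)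
    {z a : Fin n} (h0 : act g (e a) z = 0) : HasAxis M := by
  classical
  have hq := q_ne_zero O.card
  have hdim := h10
  by_cases htwo : ∃ b, b ≠ a ∧ act g (e b) z = 0
  · obtain ⟨b, hba, hb0⟩ := htwo
    obtain ⟨κ, hκ, hκ1, -⟩ := exists_circ_sq_ne_one O.card
    obtain ⟨h1, h2, hmem⟩ := O.conj_pair_mem hg hκ hba
    by_cases hm : Mono (rf2 O.card (act g (e b)) (act g (e a)) (κ - 1) (κ⁻¹ - 1) h1 h2)
    · exact O.rf2_mono_small h10 hg hgm (by rw [O.h_cols hg, if_neg hba]) (sub_ne_zero.mpr hκ1)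
        (sub_ne_zero.mpr fun h => hκ1 (inv_eq_one.mp h)) hm
    refine ⟨_, hmem, hm, z, 1, ?_⟩
    rw [act_rf2 O.card (by rw [O.h_cols hg, if_neg hba]), h_e_left O.card, h_e_left O.card, h0, hb0,
      zero_pow hq, mul_zero, mul_zero, zero_smul, zero_smul, add_zero, add_zero, one_smul]
  push Not at htwo
  by_cases hqn : n ≤ q
  · -- a scalar with one changed coordinate
    obtain ⟨ν, hν, hord⟩ := exists_circ_gen O.card
    let τ := (ν ^ n)⁻¹
    have hτ : Circ q τ := (hν.pow n).inv
    have hτ1 : τ ≠ 1 := fun h => by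
      have := Nat.le_of_dvd (by omega) (hord n (inv_eq_one.mp h))
      omega
    let f : Fin n → F := fun i => if i = a then τ * ν else ν
    have hf : ∀ i, Circ q (f i) := fun i => by simp only [f]; split_ifs; exacts [hτ.mul hν, hν]
    have hp : ∏ i, f i = 1 := by
      rw [Finset.prod_ite, Finset.prod_const, Finset.prod_const, Finset.filter_eq', if_pos
        (Finset.mem_univ a), Finset.filter_ne', Finset.card_singleton,
        Finset.card_erase_of_mem (Finset.mem_univ a), Finset.card_univ, Fintype.card_fin, pow_one,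
        mul_assoc, ← pow_succ', Nat.sub_add_cancel (by omega)]
      exact inv_mul_cancel₀ (pow_ne_zero _ hν.ne_zero)
    have hd : dg O.card f hf ∈ M := O.mono _ (dg_mem O.card f hf hp) (dg_mono O.card f hf)
    have hK : ∀ u, act (g * dg O.card f hf * g⁻¹) u = ν • u +
        ((τ - 1) * ν * hermForm n F q u (act g (e a))) • act g (e a) := by
      intro u
      obtain ⟨u', rfl⟩ : ∃ u', act g u' = u := ⟨act g⁻¹ u, act_act_inv g u⟩
      rw [act_mul, act_mul, act_inv_act, O.inj g hg, h_e_right O.card, ← act_smul, ← act_smul,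
        ← act_add]
      congr 1
      funext r
      rw [act_dg, Pi.add_apply, Pi.smul_apply, Pi.smul_apply, e_apply, smul_eq_mul, smul_eq_mul]
      simp only [f]
      split_ifs with h
      · subst h; ring
      · ring
    by_cases hm : Mono (g * dg O.card f hf * g⁻¹)
    · refine O.of_small_col h10 hg hgm (a := a) ?_
      by_contra hlt
      obtain ⟨c, hc⟩ := Finset.card_pos.mp (show 0 < (supp (act g (e a))).card by omega)
      obtain ⟨p, hp'⟩ := hm c
      obtain ⟨r, hr, hr'⟩ := Finset.exists_mem_notMem_of_card_lt_card (s := ({c, p} : Finset (Fin n)))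
        (t := supp (act g (e a))) (lt_of_le_of_lt Finset.card_le_two (by omega))
      rw [Finset.mem_insert, Finset.mem_singleton, not_or] at hr'
      have := hp' r hr'.2
      rw [hK, h_e_left O.card, Pi.add_apply, Pi.smul_apply, Pi.smul_apply, e_apply, if_neg hr'.1,
        smul_zero, zero_add, smul_eq_mul] at this
      exact mul_ne_zero (mul_ne_zero (mul_ne_zero (sub_ne_zero.mpr hτ1) hν.ne_zero)
        (pow_ne_zero _ (mem_supp.mp hc))) (mem_supp.mp hr) this
    refine ⟨_, mul_mem (mul_mem hg hd) (inv_mem hg), hm, z, ν, ?_⟩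
    rw [hK, h_e_left O.card, h0, zero_pow hq, mul_zero, zero_smul, add_zero]
  · -- two equal norms in the row
    obtain ⟨i, hi, j, hj, hij, hn'⟩ := Finset.exists_ne_map_eq_of_card_lt_of_maps_to
      (s := Finset.univ.erase a) (t := (reals q F).erase 0)
      (f := fun i => act g (e i) z * act g (e i) z ^ q) (by
        rw [Finset.card_erase_of_mem (Finset.mem_univ _), Finset.card_univ, Fintype.card_fin,
          Finset.card_erase_of_mem (mem_reals.mpr (zero_pow hq)), card_reals O.card]
        omega) (fun i hi => by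
        rw [Finset.mem_coe, Finset.mem_erase] at hi
        rw [Finset.mem_coe, Finset.mem_erase, mem_reals, mul_pow, pow_q_pow_q O.card, mul_comm]
        exact ⟨mul_ne_zero (htwo i hi.1) (pow_ne_zero _ (htwo i hi.1)), rfl⟩)
    rw [Finset.mem_erase] at hi hj
    set c := act g (e i) z / act g (e j) z with hc
    have hcc : Circ q c := circ_div_of_norm (htwo j hj.1) hn'
    let u : Fin n → F := e i - c • e j
    have hu : hermForm n F q u u = 2 := by
      simp only [u]
      rw [h_sub_left, h_sub_right O.card, h_sub_right O.card, h_smul_left, h_smul_left,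
        h_smul_right O.card, h_smul_right O.card]
      simp only [h_e_e O.card, if_pos, if_neg hij, if_neg (Ne.symm hij)]
      have := hcc
      unfold Circ at this
      linear_combination this
    have hue : hermForm n F q u (e a) = 0 := by
      simp only [u, h_sub_left, h_smul_left, h_e_e O.card, if_neg hi.1, if_neg hj.1, mul_zero, sub_zero]
    have c1 : (-1 : F) + (-1) ^ q + (-1) * (-1) ^ q * hermForm n F q u u = 0 := by
      rw [hu, H50.neg_pow_q O.card, one_pow]; ring
    have c2 : (-2 : F) + (-2) ^ q + (-2) * (-2) ^ q * hermForm n F q (e a) (e a) = 0 := by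
      rw [h_e_e O.card, if_pos rfl, show (-2 : F) = -1 + -1 by ring, H50.add_pow_q O.card,
        H50.neg_pow_q O.card, one_pow]
      ring
    have hδ : rf2 O.card u (e a) (-1) (-2) c1 c2 ∈ M := by
      refine O.mono _ (rf2_mem_SUGL O.card c1 c2 ?_) fun x => ?_
      · rw [hu, h_e_e O.card, if_pos rfl]; ring
      · refine ⟨Equiv.swap i j x, fun r hr => ?_⟩
        rw [act_rf2_e O.card hue]
        have hcc' := hcc
        unfold Circ at hcc'
        simp only [u, Pi.sub_apply, Pi.smul_apply, smul_eq_mul, e_apply]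
        by_cases hxi : x = i
        · subst hxi
          rw [Equiv.swap_apply_left] at hr
          by_cases hra : r = x
          · subst hra; simp [hij, hi.1]
          · simp [hra, hr, hi.1, hq, zero_pow]
        · by_cases hxj : x = j
          · subst hxj
            rw [Equiv.swap_apply_right] at hr
            by_cases hra : r = x
            · subst hra; simp [Ne.symm hij, hj.1, H50.neg_pow_q O.card]; linear_combination -hcc'
            · simp [hra, hr, hj.1, hq, zero_pow]
          · rw [Equiv.swap_apply_of_ne_of_ne hxi hxj] at hr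
            by_cases hxa : x = a
            · subst hxa; simp [hr, hxi, hxj, hq, zero_pow]
            · simp [hr, hxi, hxj, hxa, hq, zero_pow]
    have hK := mul_mem (mul_mem hg hδ) (inv_mem hg)
    rw [conj_rf2 O.card (O.le hg).1] at hK
    have hxa : hermForm n F q (act g u) (act g (e a)) = 0 := by rw [O.inj g hg, hue]
    by_cases hm : Mono (rf2 O.card (act g u) (act g (e a)) (-1) (-2)
        (by rw [O.inj g hg]; exact c1) (by rw [O.inj g hg]; exact c2))
    · exact O.rf2_mono_small h10 hg hgm hxa (neg_ne_zero.mpr one_ne_zero) (neg_ne_zero.mpr hodd) hm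
    refine ⟨_, hK, hm, z, 1, ?_⟩
    rw [act_rf2 O.card hxa, h_e_left O.card, h_e_left O.card, h0, zero_pow hq, mul_zero, zero_smul,
      add_zero, one_smul]
    have : act g u z = 0 := by
      simp only [u, act_sub, act_smul, Pi.sub_apply, Pi.smul_apply, smul_eq_mul, hc]
      rw [div_mul_cancel₀ _ (htwo j hj.1), sub_self]
    rw [this, zero_pow hq, mul_zero, zero_smul, add_zero]

/-- Block sizes and constants for the first stage. -/
theorem Over.exists_blocks (h10 : 10 ≤ n) (hodd : (2 : F) ≠ 0) :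
    ∃ (na nb : ℕ) (cA cB : F), 1 ≤ na ∧ 1 ≤ nb ∧ na + nb ≤ n ∧ Circ q cA ∧ Circ q cB ∧
      cA ≠ cB ∧ cA ^ na * cB ^ nb = 1 ∧
      ∀ A B : Finset (Fin n), Disjoint A B → A.card = na → B.card = nb → ∀ a : Fin n → F,
        (∀ i, a i ^ q = a i) → (∀ i, a i ≠ 0) →
        ∃ f : Fin n → F, (∀ i, Circ q (f i)) ∧ ∏ i, f i = 1 ∧ (∑ i ∈ A, f i * a i = 0) ∧
          (∑ i ∈ B, f i * a i = 0) ∧ ∑ i ∈ Finset.univ \ (A ∪ B), f i * a i = 0 := by
  classical
  have hdim := h10
  have hq : Odd q := H38.SUBundle.Parity.odd_of_two_ne_zero O.card hodd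
  obtain ⟨κ, hκ, hord⟩ := exists_circ_gen O.card
  obtain ⟨k, hk⟩ := id hq
  have hq2 := H50.two_le O.card
  have hcompl : ∀ A B : Finset (Fin n), Disjoint A B → A.card + B.card = n → B = Aᶜ := by
    intro A B hAB hc
    refine Finset.eq_of_subset_of_card_le (fun x hx => Finset.mem_compl.mpr fun h =>
      Finset.disjoint_left.mp hAB h hx) ?_
    rw [Finset.card_compl, Fintype.card_fin]; omega
  have hrat : ∀ (x y : ℕ), ¬ q + 1 ∣ x + y → κ ^ x ≠ κ⁻¹ ^ y := fun x y h e => h (hord _ (by
    rw [pow_add, e, ← mul_pow, inv_mul_cancel₀ hκ.ne_zero, one_pow]))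
  have hprod : ∀ (x y a b : ℕ), x * a = y * b → (κ ^ x) ^ a * (κ⁻¹ ^ y) ^ b = 1 := fun x y a b h => by
    rw [← pow_mul, ← pow_mul, h, ← mul_pow, mul_inv_cancel₀ hκ.ne_zero, one_pow]
  have heven : ∀ m, Odd m → ¬ q + 1 ∣ m := fun m hm h => by
    obtain ⟨t, ht⟩ := h
    obtain ⟨r, rfl⟩ := hm
    rw [hk, show (2 * k + 1 + 1) * t = 2 * ((k + 1) * t) by ring] at ht
    omega
  by_cases h13 : 13 ≤ n
  · refine ⟨4, 5, κ ^ 5, κ⁻¹ ^ 4, by norm_num, by norm_num, by omega, hκ.pow _, hκ.inv.pow _,
      hrat _ _ (heven _ ⟨4, rfl⟩), hprod _ _ _ _ rfl, fun A B hAB hA hB a _ ha => ?_⟩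
    have hfl : ∀ P : Finset (Fin n), P.filter (fun i => a i ≠ 0) = P := fun P =>
      Finset.filter_true_of_mem fun i _ => ha i
    exact solve_blocks O.card A B a hAB (by rw [hA, hB]; decide) (by rw [hfl, hA])
      (by rw [hfl, hB]; norm_num)
      (by rw [hfl, Finset.card_univ_sdiff, Finset.card_union_of_disjoint hAB, hA, hB,
        Fintype.card_fin]; omega)
  have two : ∀ na nb, na + nb = n → ∀ A B : Finset (Fin n), Disjoint A B → A.card = na →
      B.card = nb → ∀ a : Fin n → F,
      (∃ f : Fin n → F, (∀ i, Circ q (f i)) ∧ ∏ i, f i = 1 ∧ (∑ i ∈ A, f i * a i = 0) ∧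
        ∑ i ∈ Aᶜ, f i * a i = 0) →
      ∃ f : Fin n → F, (∀ i, Circ q (f i)) ∧ ∏ i, f i = 1 ∧ (∑ i ∈ A, f i * a i = 0) ∧
          (∑ i ∈ B, f i * a i = 0) ∧ ∑ i ∈ Finset.univ \ (A ∪ B), f i * a i = 0 := by
    intro na nb hn A B hAB hA hB a ⟨f, hf, hp, sA, sB⟩
    obtain rfl : B = Aᶜ := hcompl A B hAB (by omega)
    exact ⟨f, hf, hp, sA, sB, by simp⟩
  have cop : ∀ nb : ℕ, 5 + nb = n → 4 ≤ nb → Nat.gcd 5 nb = 1 → ∀ A B : Finset (Fin n),
      Disjoint A B → A.card = 5 → B.card = nb → ∀ a : Fin n → F, (∀ i, a i ≠ 0) →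
      ∃ f : Fin n → F, (∀ i, Circ q (f i)) ∧ ∏ i, f i = 1 ∧ (∑ i ∈ A, f i * a i = 0) ∧
        ∑ i ∈ Aᶜ, f i * a i = 0 := by
    intro nb hn h4 hg A B hAB hA hB a ha
    have hBe := hcompl A B hAB (by omega)
    have hfl : ∀ P : Finset (Fin n), P.filter (fun i => a i ≠ 0) = P := fun P =>
      Finset.filter_true_of_mem fun i _ => ha i
    refine solve_two O.card A a ?_ (by rw [hfl, hA]; norm_num) (by rw [hfl, ← hBe, hB]; exact h4)
    rw [← hBe, hA, hB, hg]
    exact Nat.coprime_one_left _
  rcases (show n = 10 ∨ n = 11 ∨ n = 12 by omega) with h | h | h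
  · refine ⟨4, 6, κ ^ 3, κ⁻¹ ^ 2, by norm_num, by norm_num, by omega, hκ.pow _, hκ.inv.pow _,
      hrat _ _ (heven _ ⟨2, rfl⟩), hprod _ _ _ _ rfl, fun A B hAB hA hB a hr ha => ?_⟩
    refine two 4 6 h.symm A B hAB hA hB a (H38.SUBundle.Parity.solve_even O.card hq A a hr ha hA
      (Or.inl ?_))
    rw [← hcompl A B hAB (by omega), hB]
  · exact ⟨5, 6, κ ^ 6, κ⁻¹ ^ 5, by norm_num, by norm_num, by omega, hκ.pow _, hκ.inv.pow _,
      hrat _ _ (heven _ ⟨5, rfl⟩), hprod _ _ _ _ rfl, fun A B hAB hA hB a _ ha =>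
        two 5 6 h.symm A B hAB hA hB a (cop 6 h.symm (by norm_num) (by decide) A B hAB hA hB a ha)⟩
  by_cases h12 : q + 1 ∣ 12 ∨ q % 4 = 1
  · have hq' : q % 4 = 1 ∨ (q - 1) / 2 < 8 := by
      rcases h12 with hd | hm
      · exact Or.inr (by have := Nat.le_of_dvd (by norm_num) hd; omega)
      · exact Or.inl hm
    refine ⟨4, 8, κ ^ 2, κ⁻¹ ^ 1, by norm_num, by norm_num, by omega, hκ.pow _, hκ.inv.pow _,
      hrat _ _ (heven _ ⟨1, rfl⟩), hprod _ _ _ _ rfl, fun A B hAB hA hB a hr ha => ?_⟩
    refine two 4 8 h.symm A B hAB hA hB a (H38.SUBundle.Parity.solve_even O.card hq A a hr ha hA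
      (Or.inr ⟨?_, hq'⟩))
    rw [← hcompl A B hAB (by omega), hB]
  · exact ⟨5, 7, κ ^ 7, κ⁻¹ ^ 5, by norm_num, by norm_num, by omega, hκ.pow _, hκ.inv.pow _,
      hrat _ _ (fun hd => h12 (Or.inl hd)), hprod _ _ _ _ rfl, fun A B hAB hA hB a _ ha =>
        two 5 7 h.symm A B hAB hA hB a (cop 7 h.symm (by norm_num) (by decide) A B hAB hA hB a ha)⟩

/-- Stage one: an element with a zero entry. -/
theorem Over.hasAxis (h10 : 10 ≤ n) (hodd : (2 : F) ≠ 0) : HasAxis M := by
  classical
  obtain ⟨g, hg, hgm⟩ := O.big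
  by_cases hz : ∃ a z, act g (e a) z = 0
  · obtain ⟨a, z, h⟩ := hz
    exact O.of_entry_zero h10 hodd hg hgm h
  push Not at hz
  by_contra hno
  have hdim := h10
  have hq2 := H50.two_le O.card
  -- block sizes
  obtain ⟨na, nb, cA, cB, hna, hnb, hnab, hcA, hcB, hne, hcprod, hsolve⟩ :=
    O.exists_blocks h10 hodd
  let z : Fin n := ⟨0, by omega⟩
  have hall : ∀ (A B : Finset (Fin n)), Disjoint A B → A.card = na → B.card = nb →
      ∀ hf, Mono (g * dg O.card (fun i => if i ∈ A then cA else if i ∈ B then cB else 1) hf * g⁻¹) := by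
    intro A B hAB hA hB hf0
    let f0 : Fin n → F := fun i => if i ∈ A then cA else if i ∈ B then cB else 1
    let a : Fin n → F := fun i => act g (e i) z * act g (e i) z ^ q
    have ha : ∀ i, a i ≠ 0 := fun i => mul_ne_zero (hz i z) (pow_ne_zero _ (hz i z))
    obtain ⟨f, hf, hfp, sA, sB, sC⟩ := hsolve A B hAB hA hB a (fun i => by
      simp only [a]; rw [mul_pow, pow_q_pow_q O.card]; ring) ha
    have hdisj : ∀ i ∈ B, i ∉ A := fun i hi hA' => Finset.disjoint_left.mp hAB hA' hi
    have hp0 : ∏ i, f0 i = 1 := by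
      simp only [f0]
      rw [Finset.prod_ite, Finset.prod_ite, Finset.prod_const, Finset.prod_const, Finset.prod_const_one]
      have e1 : Finset.univ.filter (fun i => i ∈ A) = A := by ext; simp
      have e2 : ((Finset.univ.filter fun i => i ∉ A).filter fun i => i ∈ B) = B := by
        ext i; simpa using hdisj i
      rw [e1, e2, hA, hB, mul_one, hcprod]
    have hzero : ∀ f' : Fin n → F, (∀ hf', ∏ i, f' i = 1 → (∑ i, f' i * a i = 0) →
        Mono (g * dg O.card f' hf' * g⁻¹)) := by
      intro f' hf' hp hs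
      by_contra hm
      refine hno (O.of_entry_zero h10 hodd (g := g * dg O.card f' hf' * g⁻¹)
        (mul_mem (mul_mem hg (O.mono _ (dg_mem O.card f' hf' hp) (dg_mono O.card f' hf'))) (inv_mem hg))
        hm (z := z) (a := z) ?_)
      have h1 : hermForm n F q (act (g * dg O.card f' hf' * g⁻¹) (e z)) (e z) = 0 := by
        rw [act_mul, act_mul]
        have e2 : (e z : Fin n → F) = act g (act g⁻¹ (e z)) := (act_act_inv g _).symm
        nth_rewrite 2 [e2]
        rw [O.inj g hg, ← hs]
        simp only [hermForm, act_dg]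
        refine Finset.sum_congr rfl fun i _ => ?_
        have hcoord : act g⁻¹ (e z) i = act g (e i) z ^ q := by
          rw [← h_e_right O.card (act g⁻¹ (e z)) i, ← O.inj g hg, act_act_inv, h_e_left O.card]
        rw [hcoord, pow_q_pow_q O.card]
        simp only [a]
        ring
      rwa [h_e_right O.card] at h1
    have hsum : ∀ w : Fin n → F, (∀ i ∈ A, w i = cA) → (∀ i ∈ B, w i = cB) →
        (∀ i, i ∉ A → i ∉ B → w i = 1) → ∑ i, w i * f i * a i = 0 := by
      intro w wA wB wC
      rw [← Finset.sum_sdiff (Finset.subset_univ (A ∪ B)), Finset.sum_union hAB]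
      rw [Finset.sum_congr rfl (fun i hi => by
          simp only [Finset.mem_sdiff, Finset.mem_union, not_or] at hi
          rw [wC i hi.2.1 hi.2.2, one_mul] :
        ∀ i ∈ Finset.univ \ (A ∪ B), w i * f i * a i = f i * a i), sC,
        Finset.sum_congr rfl (fun i hi => by rw [wA i hi, mul_assoc] :
          ∀ i ∈ A, w i * f i * a i = cA * (f i * a i)), ← Finset.mul_sum, sA,
        Finset.sum_congr rfl (fun i hi => by rw [wB i hi, mul_assoc] :
          ∀ i ∈ B, w i * f i * a i = cB * (f i * a i)), ← Finset.mul_sum, sB]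
      simp
    have hf1 : ∀ i, Circ q (f0 i * f i) := fun i => (hf0 i).mul (hf i)
    have m1 := hzero f hf hfp (by
      rw [← Finset.sum_sdiff (Finset.subset_univ (A ∪ B)), Finset.sum_union hAB, sA, sB, sC]; simp)
    have m2 := hzero (fun i => f0 i * f i) hf1 (by rw [Finset.prod_mul_distrib, hp0, hfp, one_mul])
      (hsum f0 (fun i hi => by simp [f0, hi]) (fun i hi => by simp [f0, hi, hdisj i hi])
        (fun i h1 h2 => by simp [f0, h1, h2]))
    -- the quotient is monomial
    intro c
    choose p hp using m1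
    have hinj : Function.Injective p := fun i j h => by
      by_contra hne
      exact mono_rows_ne hne (hp i) (hp j) h
    obtain ⟨r0, hr0⟩ := (Finite.injective_iff_surjective.mp hinj) c
    obtain ⟨r1, hr1⟩ := m2 r0
    have h1 := eq_smul_e (hp r0)
    rw [hr0] at h1
    set s := act (g * dg O.card f hf * g⁻¹) (e r0) c
    have hs0 : s ≠ 0 := fun h => by
      rw [h, zero_smul, ← act_zero (g * dg O.card f hf * g⁻¹)] at h1
      have := congrFun (act_injective _ h1) r0
      simp [e_apply] at this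
    refine ⟨r1, fun r hr => ?_⟩
    have key : act (g * dg O.card (fun i => f0 i * f i) hf1 * g⁻¹) (e r0) =
        s • act (g * dg O.card f0 hf0 * g⁻¹) (e c) := by
      rw [← act_smul, ← h1, ← act_mul]
      congr 1
      have : dg O.card f0 hf0 * dg O.card f hf = dg O.card (fun i => f0 i * f i) hf1 :=
        gl_ext fun v => by funext i; rw [act_mul, act_dg, act_dg, act_dg, mul_assoc]
      rw [← this]; group
    have h2 := hr1 r hr
    rw [key, Pi.smul_apply, smul_eq_mul] at h2
    exact (mul_eq_zero.mp h2).resolve_left hs0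
  -- two partitions differing by a swap
  obtain ⟨A, -, hA⟩ := Finset.exists_subset_card_eq (s := (Finset.univ : Finset (Fin n))) (n := na)
    (by rw [Finset.card_univ, Fintype.card_fin]; omega)
  obtain ⟨B, hBs, hB⟩ := Finset.exists_subset_card_eq (s := Finset.univ \ A) (n := nb)
    (by rw [Finset.card_univ_sdiff, Fintype.card_fin]; omega)
  have hAB : Disjoint A B := Finset.disjoint_left.mpr fun i hi hi' => (Finset.mem_sdiff.mp (hBs hi')).2 hi
  obtain ⟨i, hiA⟩ := Finset.card_pos.mp (show 0 < A.card by omega)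
  obtain ⟨j, hjB⟩ := Finset.card_pos.mp (show 0 < B.card by omega)
  have hiB : i ∉ B := Finset.disjoint_left.mp hAB hiA
  have hjA : j ∉ A := fun h => Finset.disjoint_left.mp hAB h hjB
  have hij : i ≠ j := fun h => hjA (h ▸ hiA)
  let A' := insert j (A.erase i)
  let B' := insert i (B.erase j)
  have hA' : A'.card = na := by
    rw [Finset.card_insert_of_notMem (fun h => hjA (Finset.mem_of_mem_erase h)),
      Finset.card_erase_of_mem hiA, hA]
    omega
  have hB' : B'.card = nb := by
    rw [Finset.card_insert_of_notMem (fun h => hiB (Finset.mem_of_mem_erase h)),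
      Finset.card_erase_of_mem hjB, hB]
    omega
  have hA'B : Disjoint A' B' := Finset.disjoint_left.mpr fun x hx hx' => by
    simp only [A', B', Finset.mem_insert, Finset.mem_erase] at hx hx'
    rcases hx with rfl | hx <;> rcases hx' with rfl | hx'
    · exact hij rfl
    · exact hx'.1 rfl
    · exact hx.1 rfl
    · exact Finset.disjoint_left.mp hAB hx.2 hx'.2
  let F0 : Finset (Fin n) → Finset (Fin n) → Fin n → F :=
    fun P Q x => if x ∈ P then cA else if x ∈ Q then cB else 1
  have hF0 : ∀ P Q x, Circ q (F0 P Q x) := fun P Q x => by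
    simp only [F0]; split_ifs; exacts [hcA, hcB, Circ.one]
  have m1 := hall A B hAB hA hB (hF0 A B)
  have m2 := hall A' B' hA'B hA' hB' (hF0 A' B')
  have hdiff : ∀ c r, act (g * dg O.card (F0 A' B') (hF0 A' B') * g⁻¹) (e c) r -
      act (g * dg O.card (F0 A B) (hF0 A B) * g⁻¹) (e c) r =
      (cA - cB) * (act g (e j) r * act g (e j) c ^ q - act g (e i) r * act g (e i) c ^ q) := by
    intro c r
    have hcoord : ∀ x, act g⁻¹ (e c) x = act g (e x) c ^ q := fun x => by
      rw [← h_e_right O.card (act g⁻¹ (e c)) x, ← O.inj g hg, act_act_inv, h_e_left O.card]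
    have hvec : act (dg O.card (F0 A' B') (hF0 A' B')) (act g⁻¹ (e c)) -
        act (dg O.card (F0 A B) (hF0 A B)) (act g⁻¹ (e c)) =
        ((cA - cB) * act g (e j) c ^ q) • e j - ((cA - cB) * act g (e i) c ^ q) • e i := by
      funext x
      rw [Pi.sub_apply, act_dg, act_dg, hcoord]
      simp only [Pi.sub_apply, Pi.smul_apply, smul_eq_mul, e_apply]
      by_cases hxi : x = i
      · subst hxi
        simp [F0, A', B', hiA, hiB, hij]
        ring
      · by_cases hxj : x = j
        · subst hxj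
          simp [F0, A', B', hjA, hjB, Ne.symm hij]
          ring
        · simp [F0, A', B', hxi, hxj]
    have := congrFun (congrArg (act g) hvec) r
    rw [act_sub, act_sub, act_smul, act_smul, ← act_mul, ← act_mul, ← act_mul, ← act_mul] at this
    rw [mul_assoc, mul_assoc]
    simp only [Pi.sub_apply, Pi.smul_apply, smul_eq_mul, ← mul_assoc] at this ⊢
    linear_combination this
  have hbad : ∀ c, ∃ P : Finset (Fin n), P.card ≤ 2 ∧ ∀ r ∉ P,
      act g (e j) r * act g (e j) c ^ q = act g (e i) r * act g (e i) c ^ q := fun c => by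
    obtain ⟨p, hp⟩ := m1 c
    obtain ⟨p', hp'⟩ := m2 c
    refine ⟨{p, p'}, Finset.card_le_two, fun r hr => ?_⟩
    rw [Finset.mem_insert, Finset.mem_singleton, not_or] at hr
    have := hdiff c r
    rw [hp r hr.1, hp' r hr.2, sub_zero] at this
    exact sub_eq_zero.mp ((mul_eq_zero.mp this.symm).resolve_left (sub_ne_zero.mpr hne))
  let c0 : Fin n := z
  have hprop : act g (e i) = (act g (e i) c0 / act g (e j) c0) • act g (e j) := by
    funext c
    obtain ⟨P, hP, hPe⟩ := hbad c
    obtain ⟨P0, hP0, hP0e⟩ := hbad c0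
    obtain ⟨r, -, hr⟩ := Finset.exists_mem_notMem_of_card_lt_card (s := P ∪ P0)
      (t := (Finset.univ : Finset (Fin n)))
      (lt_of_le_of_lt ((Finset.card_union_le _ _).trans (Nat.add_le_add hP hP0))
        (by rw [Finset.card_univ, Fintype.card_fin]; omega))
    rw [Finset.mem_union, not_or] at hr
    have e1 := hPe r hr.1
    have e2 := hP0e r hr.2
    have key : (act g (e i) c * act g (e j) c0) ^ q = (act g (e i) c0 * act g (e j) c) ^ q := by
      rw [mul_pow, mul_pow]
      refine mul_left_cancel₀ (hz j r) (mul_left_cancel₀ (hz i r) ?_)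
      linear_combination (act g (e i) r * act g (e i) c ^ q) * e2 -
        (act g (e i) r * act g (e i) c0 ^ q) * e1
    rw [Pi.smul_apply, smul_eq_mul, div_mul_eq_mul_div, eq_div_iff (hz j c0)]
    exact (pow_q_inj O.card).mp key
  have := O.h_cols hg i i
  rw [if_pos rfl] at this
  nth_rewrite 2 [hprop] at this
  rw [h_smul_right O.card, O.h_cols hg, if_neg hij, mul_zero] at this
  exact zero_ne_one this

end H41.UDec
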