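import Cfsg.Agent.H41.UDec.FrameScale

/-! An overgroup of the monomial group which is not monomial is `SU`. -/

set_option autoImplicit false
set_option linter.unusedSectionVars false

namespace H41.UDec

open Matrix Cfsg Cfsg.Geo H45 H50

variable {F : Type*} [Field F] [Fintype F] {n q : ℕ}
variable {M : Subgroup (GL (Fin n) F)} (O : Over q M)
include O

/-- Any support of the same size occurs. -/
theorem Over.exists_ctr_supp {v : Fin n → F} (hv : Ctr q M v) {T : Finset (Fin n)}
    (hT : T.card = (supp v).card) : ∃ v', Ctr q M v' ∧ supp v' = T := by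
  classical
  by_cases hn0 : T = ∅
  · exact ⟨0, ctr_zero M, by rw [hn0, supp_eq_empty]⟩
  obtain ⟨w, -⟩ := Finset.nonempty_iff_ne_empty.mpr hn0
  let es : {x // x ∈ T} ≃ {x // x ∈ supp v} := Finset.equivOfCardEq hT
  let π : Equiv.Perm (Fin n) := es.extendSubtype
  refine ⟨act (sprm O.card π w) v, ctr_act O.card O.le
    (O.mono _ (sprm_mem O.card π w) (sprm_mono O.card π w)) hv, ?_⟩
  ext r
  rw [mem_supp, act_sprm, mul_ne_zero_iff]
  constructor
  · intro h
    by_contra hr
    exact Equiv.extendSubtype_not_mem es r hr (mem_supp.mpr h.2)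
  · intro hr
    refine ⟨?_, mem_supp.mp (Equiv.extendSubtype_mem es r hr)⟩
    rcases Int.units_eq_one_or (Equiv.Perm.sign π) with h | h <;> rw [h] <;> split_ifs <;> simp

/-- Coordinates may be rotated. -/
theorem Over.ctr_of_ratio {v v' : Fin n → F} (hv : Ctr q M v) {z : Fin n} (hz : v z = 0)
    (hs : supp v' = supp v) (hc : ∀ r ∈ supp v, nc q v' r = nc q v r) : Ctr q M v' := by
  classical
  let g : Fin n → F := fun r => if r ∈ supp v then v' r / v r else 1
  have hg : ∀ r, Circ q (g r) := fun r => by
    simp only [g]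
    split_ifs with h
    · exact circ_div_of_norm (mem_supp.mp h) (hc r h)
    · exact Circ.one
  obtain ⟨D, hD, hDv⟩ := O.exists_diag hz hg
  have : v' = act D v := funext fun r => by
    rw [hDv]
    simp only [g]
    split_ifs with h
    · rw [div_mul_cancel₀ _ (mem_supp.mp h)]
    · rw [one_mul, notMem_supp.mp (show r ∉ supp v' by rw [hs]; exact h), notMem_supp.mp h]
  rw [this]
  exact ctr_act O.card O.le hD hv

theorem Over.exists_notMem {T : Finset (Fin n)} (hT : T.card < 6) : ∃ z, z ∉ T := by
  obtain ⟨z, -, hz⟩ := Finset.exists_mem_notMem_of_card_lt_card (s := T) (t := Finset.univ)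
    (by rw [Finset.card_univ, Fintype.card_fin]; exact lt_of_lt_of_le hT O.dim)
  exact ⟨z, hz⟩

/-- A rotation whose inner product is skew. -/
theorem Over.exists_rotation (hq3 : 3 ≤ q) {y : Fin n → F} (hy : hermForm n F q y y = 0)
    (h3 : 3 ≤ (supp y).card) :
    ∃ (g : Fin n → F) (s : F) (k : Fin n), (∀ r, Circ q (g r)) ∧ k ∈ supp y ∧ g k = 1 ∧
      s + s ^ q = 0 ∧ s ≠ 0 ∧ ∑ r ∈ supp y, g r * nc q y r = s := by
  classical
  have hF := O.card
  have hne : ∀ r ∈ supp y, nc q y r ≠ 0 := fun r hr => by
    rw [ne_eq, nc_eq_zero hF]; exact mem_supp.mp hr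
  by_cases h4 : 4 ≤ (supp y).card
  · obtain ⟨k, hk⟩ := Finset.card_pos.mp (show 0 < (supp y).card by omega)
    obtain ⟨s, hs, hs0, hsk⟩ := exists_skew_ne hF (t := 1) {nc q y k} rfl (by omega)
    rw [Finset.mem_singleton] at hsk
    obtain ⟨g, hg, hgk, hsum⟩ := solve_at hF (supp y) (Function.update (nc q y) k (nc q y k - s))
      h4 (fun r hr => by
        by_cases h : r = k
        · subst h; rw [Function.update_self, sub_ne_zero]; exact Ne.symm hsk
        · rw [Function.update_of_ne h]; exact hne r hr) k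
    refine ⟨g, s, k, hg, hk, hgk, hs, hs0, ?_⟩
    rw [← Finset.add_sum_erase _ _ hk, Function.update_self,
      Finset.sum_congr rfl (fun r hr => by rw [Function.update_of_ne (Finset.mem_erase.mp hr).1] :
        ∀ r ∈ (supp y).erase k,
          g r * Function.update (nc q y) k (nc q y k - s) r = g r * nc q y r)] at hsum
    rw [← Finset.add_sum_erase _ _ hk]
    rw [hgk] at hsum ⊢
    linear_combination hsum
  · obtain ⟨i, j, k, hij, hik, hjk, heq⟩ := Finset.card_eq_three.mp
      (show (supp y).card = 3 by omega)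
    have hsum := sum_nc_supp hF y
    have e3 : ∀ f : Fin n → F, ∑ r ∈ supp y, f r = f i + f j + f k := fun f => by
      rw [heq, Finset.sum_insert (by simp [hij, hik]), Finset.sum_insert (by simp [hjk]),
        Finset.sum_singleton, add_assoc]
    rw [hy, e3] at hsum
    obtain ⟨l1, l2, s, h1, h2, hs, hs0, hl⟩ := exists_kill_three hF (nc_fixed hF y i)
      (nc_fixed hF y j) (hne i (by simp [heq])) (hne j (by simp [heq])) hsum
    refine ⟨fun r => if r = i then l1 else if r = j then l2 else 1, s, k, fun r => ?_,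
      by simp [heq], by simp [hik.symm, hjk.symm], hs, hs0, ?_⟩
    · dsimp only; split_ifs; exacts [h1, h2, Circ.one]
    · rw [e3]
      simp only [if_pos, if_neg hij.symm, if_neg hik.symm, if_neg hjk.symm, one_mul]
      exact hl

/-- Centres of small support. -/
theorem Over.exists_ctr_two (hq3 : 3 ≤ q) :
    ∀ y : Fin n → F, ∀ z, Ctr q M y → y ≠ 0 → y z = 0 →
      ∃ v, Ctr q M v ∧ (supp v).card = 2 := by
  classical
  suffices ∀ (s : ℕ) (y : Fin n → F) (z : Fin n), (supp y).card = s → Ctr q M y → y ≠ 0 →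
      y z = 0 → ∃ v, Ctr q M v ∧ (supp v).card = 2 from fun y z => this _ y z rfl
  intro s
  induction s using Nat.strong_induction_on with
  | _ s ih =>
    intro y z hs hy hy0 hz
    have h2 := two_le_card_supp O.card hy.iso hy0
    by_cases h3 : (supp y).card = 2
    · exact ⟨y, hy, h3⟩
    obtain ⟨g, σ, k, hg, hk, hgk, hσ, hσ0, hsum⟩ := O.exists_rotation hq3 hy.iso (by omega)
    obtain ⟨D, hD, hDy⟩ := O.exists_diag hz hg
    have hstep := ctr_step O.card O.le hy (ctr_act O.card O.le hD hy) (c := -σ⁻¹) (by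
      rw [H50.neg_pow_q O.card, inv_pow, eq_neg_of_add_eq_zero_right hσ, inv_neg]
      ring)
    rw [O.h_diag hDy, hsum, neg_mul, inv_mul_cancel₀ hσ0, neg_smul, one_smul] at hstep
    set w := act D y + -y with hw
    have hwr : ∀ r, w r = (g r - 1) * y r := fun r => by
      rw [hw, Pi.add_apply, Pi.neg_apply, hDy]; ring
    have hwS : supp w ⊆ (supp y).erase k := fun r hr => by
      rw [mem_supp, hwr, mul_ne_zero_iff, sub_ne_zero] at hr
      rw [Finset.mem_erase, mem_supp]
      exact ⟨fun e' => hr.1 (e' ▸ hgk), hr.2⟩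
    refine ih _ ?_ w z rfl hstep (fun h0 => hσ0 ?_) (by rw [hwr, hz, mul_zero])
    · rw [← hs]
      exact lt_of_le_of_lt (Finset.card_le_card hwS) (Finset.card_erase_lt_of_mem hk)
    · rw [← hsum, Finset.sum_congr rfl (fun r hr => ?_ : ∀ r ∈ supp y, g r * nc q y r = nc q y r),
        sum_nc_supp O.card, hy.iso]
      have := congrFun h0 r
      rw [hwr, Pi.zero_apply, mul_eq_zero, sub_eq_zero] at this
      rw [this.resolve_right (mem_supp.mp hr), one_mul]

/-- All isotropic vectors with two non-zero coordinates. -/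
theorem Over.ctr_two {v₀ : Fin n → F} (h₀ : Ctr q M v₀) (h₀2 : (supp v₀).card = 2)
    {v : Fin n → F} (hv : hermForm n F q v v = 0) (h2 : (supp v).card = 2) : Ctr q M v := by
  classical
  obtain ⟨v₁, h₁, hs⟩ := O.exists_ctr_supp h₀ (h2.trans h₀2.symm)
  obtain ⟨z, hz⟩ := O.exists_notMem (T := supp v) (by omega)
  obtain ⟨i, j, hij, heq⟩ := Finset.card_eq_two.mp h2
  have hi1 : v₁ i ≠ 0 := mem_supp.mp (by rw [hs, heq]; simp)
  have hi : v i ≠ 0 := mem_supp.mp (by rw [heq]; simp)
  have ha : v i / v₁ i ≠ 0 := div_ne_zero hi hi1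
  set v₂ := (v i / v₁ i) • v₁ with hv₂
  have hs2 : supp v₂ = supp v := by
    rw [← hs]; ext r; simp [mem_supp, hv₂, ha]
  have h₂ := ctr_smul O.card h₁ (v i / v₁ i)
  rw [← hv₂] at h₂
  refine O.ctr_of_ratio h₂ (z := z) (notMem_supp.mp (hs2 ▸ hz)) hs2.symm fun r hr => ?_
  rw [hs2, heq, Finset.mem_insert, Finset.mem_singleton] at hr
  have e1 := sum_nc_supp O.card v
  have e2 := sum_nc_supp O.card v₂
  rw [hs2, heq, Finset.sum_pair hij, h₂.iso] at e2
  rw [heq, Finset.sum_pair hij, hv] at e1
  have e0 : nc q v₂ i = nc q v i := by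
    simp only [nc, hv₂, Pi.smul_apply, smul_eq_mul, div_mul_cancel₀ _ hi1]
  rcases hr with rfl | rfl
  · exact e0.symm
  · linear_combination e1 - e2 + e0

/-- Moving a pair onto one coordinate. -/
theorem Over.exists_merge
    (h : ∀ v, hermForm n F q v v = 0 → (supp v).card = 2 → Ctr q M v)
    {v : Fin n → F} {i j : Fin n} (hij : i ≠ j) (hi : v i ≠ 0) (hj : v j ≠ 0)
    (ha : nc q v i + nc q v j ≠ 0) :
    ∃ g ∈ M, supp (act g v) ⊆ (supp v).erase j := by
  classical
  have hF := O.card
  obtain ⟨x, hx⟩ := H50.exists_norm_eq hF (c := nc q v i + nc q v j)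
    (by rw [H50.add_pow_q hF, nc_fixed hF, nc_fixed hF])
  let p : Fin 2 → Fin n := ![i, j]
  have hp : Function.Injective p := fun a b hab => by
    fin_cases a <;> fin_cases b <;> first | rfl | exact absurd hab hij | exact absurd hab hij.symm
  have hC : ∀ w : Fin 2 → F, hermForm 2 F q w w = 0 → Ctr q M (UDec.inj p w) := by
    intro w hw
    by_cases h0 : w = 0
    · subst h0
      rw [show UDec.inj (F := F) p 0 = 0 by rw [UDec.inj, mulVec_zero]]
      exact ctr_zero M
    refine h _ (by rw [h_inj_inj hF hp, hw]) (le_antisymm ?_ ?_)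
    · calc (supp (UDec.inj p w)).card ≤ ({i, j} : Finset (Fin n)).card := Finset.card_le_card fun r hr => by
            by_contra hr'
            simp only [Finset.mem_insert, Finset.mem_singleton, not_or] at hr'
            exact mem_supp.mp hr (inj_apply_off w fun a => by
              fin_cases a
              · exact Ne.symm hr'.1
              · exact Ne.symm hr'.2)
        _ ≤ 2 := Finset.card_le_two
    · refine two_le_card_supp hF (by rw [h_inj_inj hF hp, hw]) fun h' => h0 (funext fun a => ?_)
      rw [← inj_apply_self hp w a, h']; rfl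
  have hgr : GramND q (fun _ : Unit => res p v) := fun c hc => funext fun u => by
    have := hc u
    simp only [Fintype.univ_punit, Finset.sum_singleton, h_smul_left, mul_eq_zero] at this
    refine this.resolve_right ?_
    rw [h_self, Fin.sum_univ_two]
    exact ha
  obtain ⟨N, hN⟩ := exists_SU_of_sameGram hF hgr (b' := fun _ : Unit => ![x, 0]) (fun _ _ => by
    rw [h_self, h_self, Fin.sum_univ_two, Fin.sum_univ_two]
    simp only [nc, res, p, Matrix.cons_val_zero, Matrix.cons_val_one, zero_mul, add_zero]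
    rw [← pow_succ' x q, hx]
    rfl) (by simp)
  refine ⟨_, emb_su_mem hF (k := 2) (by norm_num) (by omega) hp hC (suMat N) (SU_isIso N) N.1.2,
    fun r hr => ?_⟩
  rw [mem_supp, act_gl, embMat_mulVec, Pi.add_apply] at hr
  have hN' : suMat N *ᵥ res p v = ![x, 0] := hN ()
  rw [hN'] at hr
  rw [Finset.mem_erase, mem_supp]
  by_cases hrj : r = j
  · subst hrj
    have := inj_apply_self hp (![x, 0] - res p v) 1
    change UDec.inj p _ r = _ at this
    rw [this] at hr
    simp [res, p] at hr
  refine ⟨hrj, ?_⟩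
  by_cases hri : r = i
  · subst hri; exact hi
  · rwa [inj_apply_off _ (fun a => by
      fin_cases a
      · exact Ne.symm hri
      · exact Ne.symm hrj), add_zero] at hr

/-- All isotropic vectors, when the field is large. -/
theorem Over.ctr_all (hq3 : 3 ≤ q)
    (h : ∀ v, hermForm n F q v v = 0 → (supp v).card = 2 → Ctr q M v) :
    ∀ v, hermForm n F q v v = 0 → Ctr q M v := by
  classical
  have hF := O.card
  suffices ∀ (s : ℕ) (v : Fin n → F), (supp v).card = s → hermForm n F q v v = 0 → Ctr q M v from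
    fun v => this _ v rfl
  intro s
  induction s using Nat.strong_induction_on with
  | _ s ih =>
    intro v hs hv
    by_cases h0 : v = 0
    · subst h0; exact ctr_zero M
    by_cases h2 : (supp v).card = 2
    · exact h v hv h2
    have h3 : 2 < (supp v).card := lt_of_le_of_ne (two_le_card_supp hF hv h0) (Ne.symm h2)
    have hdown : ∀ g ∈ M, (supp (act g v)).card < s → Ctr q M v := fun g hg hlt =>
      ctr_of_act hF O.le hg (ih _ hlt _ rfl (by rw [O.inj g hg, hv]))
    by_cases hp : ∃ i ∈ supp v, ∃ j ∈ supp v, i ≠ j ∧ nc q v i + nc q v j ≠ 0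
    · obtain ⟨i, hi, j, hj, hij, ha⟩ := hp
      obtain ⟨g, hg, hgs⟩ := O.exists_merge h hij (mem_supp.mp hi) (mem_supp.mp hj) ha
      exact hdown g hg (lt_of_le_of_lt (Finset.card_le_card hgs)
        (hs ▸ Finset.card_erase_lt_of_mem hj))
    push Not at hp
    obtain ⟨i, j, k, hi, hj, hk, hij, hik, hjk⟩ := Finset.two_lt_card_iff.mp h3
    have eij := hp i hi j hj hij
    have eik := hp i hi k hk hik
    have ejk := hp j hj k hk hjk
    have hai : nc q v i ≠ 0 := by rw [ne_eq, nc_eq_zero hF]; exact mem_supp.mp hi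
    have htwo : (2 : F) = 0 := by
      by_contra h2'
      exact hai ((mul_eq_zero.mp (show (2 : F) * nc q v i = 0 by
        linear_combination eij + eik - ejk)).resolve_left h2')
    have hneg : ∀ x : F, -x = x := fun x => by linear_combination (-x) * htwo
    obtain ⟨κ, hκ, hκ1⟩ := exists_circ_ne_one hF
    obtain ⟨ξ, hξ, hσ⟩ : ∃ ξ, Circ q ξ ∧ v i + v j * ξ ^ q ≠ 0 := by
      by_contra hcon
      push Not at hcon
      have e1 := hcon 1 Circ.one
      have e2 := hcon κ hκ
      rw [one_pow, mul_one] at e1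
      have : v j * (κ ^ q - 1) = 0 := by linear_combination e2 - e1
      rcases mul_eq_zero.mp this with h' | h'
      · exact mem_supp.mp hj h'
      · exact hκ1 ((pow_q_inj hF).mp (by rw [one_pow]; exact sub_eq_zero.mp h'))
    set σ := v i + v j * ξ ^ q with hσdef
    obtain ⟨c, hc, hc0, hcne⟩ := exists_skew_ne hF (t := 1)
      {-(v i ^ q * σ + v i * σ ^ q) / (σ * σ ^ q)} rfl (by omega)
    rw [Finset.mem_singleton] at hcne
    let u : Fin n → F := e i + ξ • e j
    have hu : hermForm n F q u u = 0 := by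
      simp only [u, h_add_left, h_add_right hF, h_smul_left, h_smul_right hF, h_e_e hF,
        if_neg hij, if_neg hij.symm, if_pos]
      unfold Circ at hξ
      linear_combination hξ + htwo
    have hu2 : (supp u).card = 2 := by
      rw [show supp u = {i, j} from ?_, Finset.card_pair hij]
      ext r
      rw [mem_supp]
      simp only [u, Pi.add_apply, Pi.smul_apply, smul_eq_mul, e_apply, Finset.mem_insert,
        Finset.mem_singleton]
      by_cases hri : r = i
      · subst hri; simp [hij]
      · by_cases hrj : r = j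
        · subst hrj; simp [hri, hξ.ne_zero]
        · simp [hri, hrj]
    obtain ⟨hu', hum⟩ := h u hu hu2
    have hvu : hermForm n F q v u = σ := by
      simp only [u, h_add_right hF, h_smul_right hF, h_e_right hF, hσdef]; ring
    set g := utv u hu' c
    have hg : g ∈ M := hum c hc
    set v' := act g v with hv'
    have hr : ∀ r, v' r = v r + c * σ * u r := fun r => by
      rw [hv', act_utv, Pi.add_apply, Pi.smul_apply, hvu, smul_eq_mul]
    have hoff : ∀ r, r ≠ i → r ≠ j → v' r = v r := fun r hri hrj => by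
      rw [hr]; simp [u, e_apply, hri, hrj]
    have hsub : supp v' ⊆ supp v := fun r hr' => by
      rw [mem_supp] at hr' ⊢
      by_cases hri : r = i
      · subst hri; exact mem_supp.mp hi
      by_cases hrj : r = j
      · subst hrj; exact mem_supp.mp hj
      rwa [hoff r hri hrj] at hr'
    by_cases hi' : v' i = 0
    · exact hdown g hg (hs ▸ Finset.card_lt_card (Finset.ssubset_iff_subset_ne.mpr
        ⟨hsub, fun e' => notMem_supp.mpr hi' (e' ▸ hi)⟩))
    have hk' : v' k = v k := hoff k hik.symm hjk.symm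
    have hsum : nc q v' i + nc q v' k ≠ 0 := by
      rw [nc, nc, hk', hr]
      simp only [u, Pi.add_apply, Pi.smul_apply, e_apply, if_pos, if_neg hij, smul_zero, add_zero,
        mul_one]
      rw [H50.add_pow_q hF, mul_pow, show c ^ q = c from
        (eq_neg_of_add_eq_zero_right hc).trans (hneg c)]
      intro e'
      refine hcne ?_
      rw [eq_div_iff (mul_ne_zero hσ (pow_ne_zero _ hσ))]
      apply mul_left_cancel₀ hc0
      rw [nc, nc] at eik
      linear_combination e' - eik
    obtain ⟨g', hg', hgs⟩ := O.exists_merge h hik hi' (by rw [hk']; exact mem_supp.mp hk) hsum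
    refine hdown (g' * g) (mul_mem hg' hg) ?_
    rw [act_mul, ← hv']
    exact lt_of_le_of_lt (Finset.card_le_card (hgs.trans (Finset.erase_subset_erase _ hsub)))
      (hs ▸ Finset.card_erase_lt_of_mem hk)

end H41.UDec
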