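import Cfsg.Agent.H41.UDec.FrameAxis

/-! Characteristic two: a transvection outside the monomial group fixing a coordinate vector. -/

set_option autoImplicit false
set_option linter.unusedSectionVars false

namespace H41.UDec

open Matrix Cfsg Cfsg.Geo H45 H50

variable {F : Type*} [Field F] [Fintype F] {n q : ℕ}
variable {M : Subgroup (GL (Fin n) F)} (O : Over q M)
include O

/-- A single transvection with a given parameter lies in `M`. -/
def One (q : ℕ) (M : Subgroup (GL (Fin n) F)) (v : Fin n → F) (c : F) : Prop :=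
  ∃ hv : hermForm n F q v v = 0, c + c ^ q = 0 ∧ utv v hv c ∈ M

theorem Over.one_act {g : GL (Fin n) F} (hg : g ∈ M) {v : Fin n → F} {c : F} (h : One q M v c) :
    One q M (act g v) c := by
  obtain ⟨hv, hc, hm⟩ := h
  refine ⟨by rw [O.inj g hg, hv], hc, ?_⟩
  have := mul_mem (mul_mem hg hm) (inv_mem hg)
  rwa [conj_utv O.card (O.le hg).1] at this

theorem Over.diag_mem {f : Fin n → F} (hf : ∀ i, Circ q (f i)) (hp : ∏ i, f i = 1) :
    dg O.card f hf ∈ M := O.mono _ (dg_mem O.card f hf hp) (dg_mono O.card f hf)

theorem Over.one_twist {v : Fin n → F} {c : F} (h : One q M v c) {f : Fin n → F}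
    (hf : ∀ i, Circ q (f i)) (hp : ∏ i, f i = 1) :
    One q M (fun r => (f r + c * ∑ i, f i * nc q v i) * v r) c := by
  obtain ⟨hv, hc, hm⟩ := h
  have h1 := O.one_act hm (O.one_act (O.diag_mem hf hp) ⟨hv, hc, hm⟩)
  convert h1 using 1
  funext r
  rw [act_utv, Pi.add_apply, Pi.smul_apply, smul_eq_mul, act_dg,
    show hermForm n F q (act (dg O.card f hf) v) v = ∑ i, f i * nc q v i from
      Finset.sum_congr rfl fun i _ => by rw [act_dg, nc]; ring]
  ring

open Classical in
/-- The twist for at most twelve coordinates. -/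
theorem Over.small_twist (h10 : 10 ≤ n) (h2 : (2 : F) = 0) (hn : n ≤ 12) {y : Fin n → F}
    (hz : ∀ i, y i ≠ 0) (w : Fin n) :
    ∃ f : Fin n → F, (∀ i, Circ q (f i)) ∧ ∏ i, f i = 1 ∧
      (∑ i, f i * (nc q y i + if i = w then 1 else 0) = 0) ∧
      3 ≤ (Finset.univ.filter fun r => f r ≠ f w).card := by
  classical
  have hdim := h10
  obtain ⟨κ, hκ, hord⟩ := exists_circ_gen O.card
  have hq2 := H50.two_le O.card
  have heven : Fintype.card F % 2 = 0 := FiniteField.even_card_of_char_two
    (ringChar.eq_iff.mpr (CharTwo.of_one_ne_zero_of_two_eq_zero one_ne_zero h2))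
  rw [O.card] at heven
  have hqe : q % 2 = 0 := by
    rw [Nat.pow_mod] at heven
    rcases Nat.mod_two_eq_zero_or_one q with h | h
    · exact h
    · rw [h] at heven; norm_num at heven
  let a : Fin n → F := fun i => nc q y i + if i = w then 1 else 0
  have ha : ∀ i, i ≠ w → a i ≠ 0 := fun i hi => by
    simp only [a, if_neg hi, add_zero, ne_eq, nc_eq_zero O.card]; exact hz i
  obtain ⟨A, hAs, hA⟩ := Finset.exists_subset_card_eq (s := (Finset.univ : Finset (Fin n)).erase w)
    (n := 4) (by
      rw [Finset.card_erase_of_mem (Finset.mem_univ w), Finset.card_univ, Fintype.card_fin]; omega)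
  have hwA : w ∉ A := fun h => (Finset.mem_erase.mp (hAs h)).1 rfl
  have hAc : Aᶜ.card = n - 4 := by rw [Finset.card_compl, hA, Fintype.card_fin]
  obtain ⟨f, hf, hfp, sA, sB⟩ := solve_two O.card A a (by
      refine Nat.Coprime.coprime_dvd_left (Nat.gcd_dvd_left _ _) ?_
      rw [hA, show (4 : ℕ) = 2 ^ 2 by norm_num]
      refine Nat.Coprime.pow_left 2 ?_
      rw [Nat.coprime_two_left, Nat.odd_iff]; omega)
    (by rw [Finset.filter_true_of_mem fun i hi => ha i fun h : i = w => hwA (h ▸ hi), hA]) (by
      refine le_trans ?_ (Finset.card_le_card (s := Aᶜ.erase w) fun i hi => ?_)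
      · have := Finset.pred_card_le_card_erase (s := Aᶜ) (a := w)
        omega
      · rw [Finset.mem_erase] at hi
        exact Finset.mem_filter.mpr ⟨hi.2, ha i hi.1⟩)
  have hs0 : ∑ i, f i * a i = 0 := by rw [← Finset.sum_add_sum_compl A, sA, sB, add_zero]
  set T := Finset.univ.filter fun r => f r ≠ f w with hT
  by_cases h3 : 3 ≤ T.card
  · exact ⟨f, hf, hfp, hs0, h3⟩
  by_cases hdn : q + 1 ∣ n
  · -- few classes: move two pairs
    have hq4 : q ≤ 4 := by
      have hle := Nat.le_of_dvd (by omega) hdn
      obtain ⟨p, hp⟩ := CharP.exists F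
      obtain ⟨e, hp', he⟩ := FiniteField.card F p
      have hp2 : p = 2 := by
        have : (p : F) = 0 := CharP.cast_eq_zero F p
        exact ((Nat.prime_dvd_prime_iff_eq hp' Nat.prime_two).mp
          ((CharP.cast_eq_zero_iff F p 2).mp (by exact_mod_cast h2)))
      by_contra hq4
      have : q = 6 ∨ q = 8 ∨ q = 10 := by omega
      rcases this with rfl | rfl | rfl
      · omega
      · omega
      · rw [O.card, hp2] at he
        have h5 : 5 ∣ 2 ^ (e : ℕ) := by rw [← he]; norm_num
        have := Nat.le_of_dvd (by norm_num) ((Nat.Prime.dvd_of_dvd_pow (by norm_num) h5) : 5 ∣ 2)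
        omega
    let S := (Finset.univ.erase w) \ T
    have hS : 7 ≤ S.card := by
      have h1 := Finset.le_card_sdiff T (Finset.univ.erase w)
      rw [Finset.card_erase_of_mem (Finset.mem_univ w), Finset.card_univ, Fintype.card_fin] at h1
      show 7 ≤ ((Finset.univ.erase w) \ T).card
      omega
    have hSm : ∀ i ∈ S, i ≠ w ∧ f i = f w := fun i hi => by
      simp only [S, T, Finset.mem_sdiff, Finset.mem_erase, Finset.mem_univ, and_true,
        Finset.mem_filter, true_and, not_not] at hi
      exact hi
    have pick : ∀ U : Finset (Fin n), U ⊆ S → 4 ≤ U.card →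
        ∃ r ∈ U, ∃ s ∈ U, r ≠ s ∧ a r = a s := fun U hU hU4 => by
      refine Finset.exists_ne_map_eq_of_card_lt_of_maps_to (t := (reals q F).erase 0) ?_
        fun i hi => ?_
      · rw [Finset.card_erase_of_mem (mem_reals.mpr (zero_pow (by omega))), card_reals O.card]
        omega
      · rw [Finset.mem_coe, Finset.mem_erase, mem_reals]
        exact ⟨ha i (hSm i (hU hi)).1, by simp only [a, if_neg (hSm i (hU hi)).1, add_zero]; exact nc_fixed O.card y i⟩
    obtain ⟨r, hr, s, hs, hrs, e1⟩ := pick S subset_rfl (by omega)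
    obtain ⟨u, hu, v, hv, huv, e2⟩ := pick ((S.erase r).erase s)
      ((Finset.erase_subset _ _).trans (Finset.erase_subset _ _)) (by
        have := Finset.pred_card_le_card_erase (s := S) (a := r)
        have := Finset.pred_card_le_card_erase (s := S.erase r) (a := s)
        omega)
    simp only [Finset.mem_erase] at hu hv
    have hκ1 : κ ≠ 1 := fun h => by
      have := Nat.le_of_dvd (by norm_num) (hord 1 (by rw [h, one_pow]))
      omega
    let g : Fin n → F := fun i => if i = r ∨ i = s then κ else if i = u ∨ i = v then κ⁻¹ else 1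
    have hru : u ≠ r ∧ u ≠ s ∧ v ≠ r ∧ v ≠ s := ⟨hu.2.1, hu.1, hv.2.1, hv.1⟩
    have hgsupp : ∀ i, i ∉ ({r, s, u, v} : Finset (Fin n)) → g i = 1 := fun i hi => by
      simp only [Finset.mem_insert, Finset.mem_singleton, not_or] at hi
      simp [g, hi.1, hi.2.1, hi.2.2.1, hi.2.2.2]
    have e4 : ∀ k : Fin n → F, ∑ i ∈ ({r, s, u, v} : Finset (Fin n)), k i = k r + k s + k u + k v := by
      intro k
      rw [Finset.sum_insert (by simp [hrs, hru.1.symm, hru.2.2.1.symm]),
        Finset.sum_insert (by simp [hru.2.1.symm, hru.2.2.2.symm]),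
        Finset.sum_insert (by simp [huv]), Finset.sum_singleton]
      ring
    refine ⟨fun i => g i * f i, fun i => ?_, ?_, ?_, ?_⟩
    · refine Circ.mul ?_ (hf i)
      simp only [g]; split_ifs; exacts [hκ, hκ.inv, Circ.one]
    · rw [Finset.prod_mul_distrib, hfp, mul_one,
        ← Finset.prod_subset (Finset.subset_univ ({r, s, u, v} : Finset (Fin n)))
          (fun i _ hi => hgsupp i hi),
        Finset.prod_insert (by simp [hrs, hru.1.symm, hru.2.2.1.symm]),
        Finset.prod_insert (by simp [hru.2.1.symm, hru.2.2.2.symm]),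
        Finset.prod_insert (by simp [huv]), Finset.prod_singleton]
      simp [g, hru.1, hru.2.1, hru.2.2.1, hru.2.2.2]
      field_simp [hκ.ne_zero]
    · have hd : ∑ i, (g i * f i * a i - f i * a i) = 0 := by
        rw [← Finset.sum_subset (Finset.subset_univ ({r, s, u, v} : Finset (Fin n)))
          (fun i _ hi => by rw [hgsupp i hi, one_mul, sub_self]), e4]
        simp [g, hru.1, hru.2.1, hru.2.2.1, hru.2.2.2]
        rw [(hSm r hr).2, (hSm s hs).2, (hSm u hu.2.2).2, (hSm v hv.2.2).2, e1, e2]
        linear_combination ((κ - 1) * f w * a s + (κ⁻¹ - 1) * f w * a v) * h2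
      rw [Finset.sum_sub_distrib, hs0, sub_zero] at hd
      exact hd
    · refine le_trans ?_ (Finset.card_le_card (s := ({r, s, u} : Finset (Fin n))) fun i hi => ?_)
      · rw [Finset.card_eq_three.mpr ⟨r, s, u, hrs, hru.1.symm, hru.2.1.symm, rfl⟩]
      · have hw1 : g w = 1 := hgsupp w (by
          simp [(hSm r hr).1.symm, (hSm s hs).1.symm, (hSm u hu.2.2).1.symm, (hSm v hv.2.2).1.symm])
        rw [Finset.mem_filter]
        refine ⟨Finset.mem_univ _, ?_⟩
        dsimp only
        rw [hw1, one_mul]
        intro h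
        simp only [Finset.mem_insert, Finset.mem_singleton] at hi
        have hfi : f i = f w := by
          rcases hi with rfl | rfl | rfl
          exacts [(hSm _ hr).2, (hSm _ hs).2, (hSm _ hu.2.2).2]
        rw [hfi] at h
        have hg1 := mul_right_cancel₀ (hf w).ne_zero (h.trans (one_mul _).symm)
        rcases hi with rfl | rfl | rfl
        · simp [g] at hg1; exact hκ1 hg1
        · simp [g] at hg1; exact hκ1 hg1
        · simp [g, hru.1, hru.2.1] at hg1; exact hκ1 hg1
  -- two constants
  let cA : F := κ⁻¹ ^ (n - 4)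
  let cB : F := κ ^ 4
  have hne : cA ≠ cB := fun h => hdn (hord _ (by
    show κ ^ n = 1
    rw [show n = (n - 4) + 4 by omega, pow_add, show κ ^ 4 = κ⁻¹ ^ (n - 4) from h.symm, ← mul_pow,
      mul_inv_cancel₀ hκ.ne_zero, one_pow]))
  let f0 : Fin n → F := fun i => if i ∈ A then cA else cB
  have hp0 : ∏ i, f0 i = 1 := by
    rw [← Finset.prod_mul_prod_compl A, Finset.prod_congr rfl (fun i hi => if_pos hi :
        ∀ i ∈ A, f0 i = cA),
      Finset.prod_congr rfl (fun i hi => if_neg (Finset.mem_compl.mp hi) : ∀ i ∈ Aᶜ, f0 i = cB),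
      Finset.prod_const, Finset.prod_const, hA, hAc]
    simp only [cA, cB]
    rw [← pow_mul, ← pow_mul, mul_comm (n - 4), ← mul_pow, inv_mul_cancel₀ hκ.ne_zero, one_pow]
  have hcand : ∀ f' : Fin n → F, (∀ i, Circ q (f' i)) → ∏ i, f' i = 1 →
      (∑ i ∈ A, f' i * a i = 0) → (∑ i ∈ Aᶜ, f' i * a i = 0) →
      (∀ i, Circ q (f0 i * f' i)) ∧ ∏ i, f0 i * f' i = 1 ∧
      (∑ i ∈ A, f0 i * f' i * a i = 0) ∧ ∑ i ∈ Aᶜ, f0 i * f' i * a i = 0 := by
    intro f' hf' hp' tA tB
    refine ⟨fun i => Circ.mul ?_ (hf' i), by rw [Finset.prod_mul_distrib, hp0, hp', one_mul], ?_, ?_⟩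
    · simp only [f0]; split_ifs; exacts [hκ.inv.pow _, hκ.pow _]
    · rw [Finset.sum_congr rfl (fun i hi => by simp [f0, hi, mul_assoc] :
        ∀ i ∈ A, f0 i * f' i * a i = cA * (f' i * a i)), ← Finset.mul_sum, tA, mul_zero]
    · rw [Finset.sum_congr rfl (fun i hi => by simp [f0, Finset.mem_compl.mp hi, mul_assoc] :
        ∀ i ∈ Aᶜ, f0 i * f' i * a i = cB * (f' i * a i)), ← Finset.mul_sum, tB, mul_zero]
  obtain ⟨c1, p1, tA, tB⟩ := hcand f hf hfp sA sB
  obtain ⟨c2, p2, uA, uB⟩ := hcand _ c1 p1 tA tB
  by_contra hcon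
  push Not at hcon
  have k1 := hcon _ c1 p1 (by rw [← Finset.sum_add_sum_compl A, tA, tB, add_zero])
  have k2 := hcon _ c2 p2 (by rw [← Finset.sum_add_sum_compl A, uA, uB, add_zero])
  have hw : f0 w = cB := if_neg hwA
  have hcB0 : cB ≠ 0 := pow_ne_zero _ hκ.ne_zero
  -- the untouched elements of the first block
  have hin : ∀ r ∈ A, r ∉ T → f0 r * f r ≠ f0 w * f w := fun r hr hrT h => by
    simp only [T, Finset.mem_filter, Finset.mem_univ, true_and, not_not] at hrT
    rw [hw, show f0 r = cA from if_pos hr, hrT] at h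
    exact hne (mul_right_cancel₀ (hf w).ne_zero h)
  have hsub : (A \ T).card ≤ 2 := by
    have := Finset.card_le_card (s := A \ T)
      (t := Finset.univ.filter fun r => f0 r * f r ≠ f0 w * f w) fun r hr => by
        rw [Finset.mem_sdiff] at hr
        exact Finset.mem_filter.mpr ⟨Finset.mem_univ _, hin r hr.1 hr.2⟩
    omega
  have hcard := Finset.card_sdiff_add_card_inter A T
  obtain ⟨r, hr⟩ := Finset.card_pos.mp (show 0 < (A ∩ T).card by omega)
  rw [Finset.mem_inter] at hr
  have htwo : (A \ T).card = 2 := by
    have := Finset.card_le_card (Finset.inter_subset_right : A ∩ T ⊆ T)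
    omega
  have h1 : f0 r * f r = f0 w * f w := by
    by_contra h
    have := Finset.card_le_card (s := insert r (A \ T))
      (t := Finset.univ.filter fun r => f0 r * f r ≠ f0 w * f w) fun x hx => by
        rw [Finset.mem_insert, Finset.mem_sdiff] at hx
        rcases hx with rfl | hx
        · exact Finset.mem_filter.mpr ⟨Finset.mem_univ _, h⟩
        · exact Finset.mem_filter.mpr ⟨Finset.mem_univ _, hin x hx.1 hx.2⟩
    rw [Finset.card_insert_of_notMem (fun h => (Finset.mem_sdiff.mp h).2 hr.2), htwo] at this
    omega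
  -- the twist applied twice separates
  have hin2 : ∀ x ∈ A, (x ∉ T ∧ cA * cA ≠ cB * cB) ∨ x = r →
      f0 x * (f0 x * f x) ≠ f0 w * (f0 w * f w) := by
    intro x hx hxr h
    rw [hw, show f0 x = cA from if_pos hx] at h
    rcases hxr with ⟨hxT, hsq⟩ | rfl
    · simp only [T, Finset.mem_filter, Finset.mem_univ, true_and, not_not] at hxT
      rw [hxT, ← mul_assoc, ← mul_assoc] at h
      exact hsq (mul_right_cancel₀ (hf w).ne_zero h)
    · rw [hw, show f0 x = cA from if_pos hx] at h1
      rw [h1, ← mul_assoc, ← mul_assoc] at h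
      exact hne (mul_right_cancel₀ hcB0 (mul_right_cancel₀ (hf w).ne_zero h))
  have hsq : cA * cA ≠ cB * cB := fun h => by
    rcases mul_self_eq_mul_self_iff.mp h with h | h
    · exact hne h
    · exact hne (by linear_combination h - cB * h2)
  have := Finset.card_le_card (s := insert r (A \ T))
    (t := Finset.univ.filter fun x => f0 x * (f0 x * f x) ≠ f0 w * (f0 w * f w)) fun x hx => by
      rw [Finset.mem_insert, Finset.mem_sdiff] at hx
      rcases hx with rfl | hx
      · exact Finset.mem_filter.mpr ⟨Finset.mem_univ _, hin2 _ hr.1 (Or.inr rfl)⟩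
      · exact Finset.mem_filter.mpr ⟨Finset.mem_univ _, hin2 _ hx.1 (Or.inl ⟨hx.2, hsq⟩)⟩
  rw [Finset.card_insert_of_notMem (fun h => (Finset.mem_sdiff.mp h).2 hr.2), htwo] at this
  omega

/-- In characteristic two some transvection of parameter one fixes a coordinate vector and has
at least three non-zero coordinates. -/
theorem Over.exists_root (h10 : 10 ≤ n) (h2 : (2 : F) = 0) :
    ∃ y z, One q M y 1 ∧ 3 ≤ (supp y).card ∧ y z = 0 := by
  classical
  obtain ⟨g, hg, hgm⟩ := O.big
  have hq := q_ne_zero O.card
  have hdim := h10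
  have h11 : (1 : F) + 1 = 0 := by rw [← h2]; norm_num
  -- roots of the monomial group
  have hroot : ∀ a b : Fin n, a ≠ b → ∀ l : F, Circ q l → One q M (e a + l • e b) 1 := by
    intro a b hab l hl
    have hl' : l * l ^ q = 1 := hl
    have hv : hermForm n F q (e a + l • e b) (e a + l • e b) = 0 := by
      rw [h_add_left, h_add_right O.card, h_add_right O.card, h_smul_left, h_smul_left,
        h_smul_right O.card, h_smul_right O.card]
      simp only [h_e_e O.card, if_pos, if_neg hab, if_neg (Ne.symm hab)]
      linear_combination hl' + h11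
    have hc : (1 : F) + 1 ^ q = 0 := by rw [one_pow]; exact h11
    refine ⟨hv, hc, O.mono _ (utv_mem O.card _ hv hc) fun x => ⟨Equiv.swap a b x, fun r hr => ?_⟩⟩
    rw [act_utv, one_mul, h_e_left O.card]
    simp only [Pi.add_apply, Pi.smul_apply, smul_eq_mul, e_apply]
    by_cases hxa : x = a
    · subst hxa
      rw [Equiv.swap_apply_left] at hr
      by_cases hra : r = x
      · subst hra; simp [hab, h11]
      · simp [hra, hr, hab]
    · by_cases hxb : x = b
      · subst hxb
        rw [Equiv.swap_apply_right] at hr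
        by_cases hra : r = x
        · subst hra; simp [Ne.symm hab]; linear_combination hl' + h11
        · simp [hra, hr, Ne.symm hab]
      · rw [Equiv.swap_apply_of_ne_of_ne hxa hxb] at hr
        simp [hr, hxa, hxb, hq, zero_pow]
  -- one of them moves to a vector with three non-zero coordinates
  obtain ⟨y, hy, hy3⟩ : ∃ y, One q M y 1 ∧ 3 ≤ (supp y).card := by
    by_contra hcon
    push Not at hcon
    obtain ⟨a, ha⟩ : ∃ a, 2 ≤ (supp (act g (e a))).card := by
      by_contra hc
      push Not at hc
      refine hgm fun c => ?_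
      rcases (supp (act g (e c))).eq_empty_or_nonempty with he | ⟨p, hp⟩
      · exact ⟨c, fun r _ => notMem_supp.mp (by rw [he]; simp)⟩
      · refine ⟨p, fun r hr => notMem_supp.mp fun hr' => ?_⟩
        have := Finset.one_lt_card.mpr ⟨r, hr', p, hp, hr⟩
        have := hc c
        omega
    set v := act g (e a) with hv
    -- every other column lives in a set of at most three coordinates with this one
    have hsub : ∀ b, supp (act g (e b)) ⊆ supp v ∧ (supp v).card ≤ 4 := by
      intro b
      rcases eq_or_ne a b with rfl | hab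
      · refine ⟨subset_rfl, ?_⟩
        obtain ⟨b, -, hba⟩ := Finset.exists_mem_ne (s := (Finset.univ : Finset (Fin n)))
          (by rw [Finset.card_univ, Fintype.card_fin]; omega) a
        by_contra h3
        have h := hcon _ (O.one_act hg (hroot a b (Ne.symm hba) 1 Circ.one))
        obtain ⟨κ, hκ, hκ1⟩ := exists_circ_ne_one O.card
        have h' := hcon _ (O.one_act hg (hroot a b (Ne.symm hba) κ hκ))
        have hle : (supp v).card ≤
            (supp (act g (e a + (1:F) • e b)) ∪ supp (act g (e a + κ • e b))).card := by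
          refine Finset.card_le_card fun r hr => ?_
          rw [Finset.mem_union, mem_supp, mem_supp]
          by_contra hr'
          push Not at hr'
          obtain ⟨h1, h2⟩ := hr'
          simp only [act_add, act_smul, Pi.add_apply, Pi.smul_apply, smul_eq_mul, one_mul] at h1 h2
          have : (κ - 1) * act g (e b) r = 0 := by linear_combination h2 - h1
          rw [(mul_eq_zero.mp this).resolve_left (sub_ne_zero.mpr hκ1), add_zero] at h1
          exact mem_supp.mp hr h1
        have := hle.trans (Finset.card_union_le _ _)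
        omega
      set w := act g (e b) with hw
      obtain ⟨κ, hκ, hκ1, hκ2⟩ := exists_circ_sq_ne_one O.card
      let Y : F → Fin n → F := fun l => v + l • w
      have hY : ∀ l, Circ q l → (supp (Y l)).card ≤ 2 := fun l hl => by
        have := hcon _ (O.one_act hg (hroot a b hab l hl))
        rw [act_add, act_smul] at this
        exact Nat.le_of_lt_succ this
      let L : Finset F := {1, κ, κ⁻¹}
      have hki : κ ≠ κ⁻¹ := fun h => hκ2 (by rw [← mul_inv_cancel₀ hκ.ne_zero, ← h])
      have hL3 : L.card = 3 := by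
        rw [Finset.card_insert_of_notMem, Finset.card_pair hki]
        simp [Ne.symm hκ1, eq_comm, inv_eq_one]
        exact fun h => hκ1 (by simpa using h)
      have hLc : ∀ l ∈ L, Circ q l := by
        intro l hl
        simp only [L, Finset.mem_insert, Finset.mem_singleton] at hl
        rcases hl with rfl | rfl | rfl
        exacts [Circ.one, hκ, hκ.inv]
      -- double counting of the zero coordinates
      let U := supp v ∪ supp w
      let I := supp v ∩ supp w
      have h1 : ∑ l ∈ L, (Finset.univ \ supp (Y l)).card ≤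
          3 * (Finset.univ \ U).card + I.card := by
        have hle : ∀ l ∈ L, (Finset.univ \ supp (Y l)).card ≤
            (Finset.univ \ U).card + (I.filter fun r => Y l r = 0).card := fun l hl => by
          refine (Finset.card_le_card fun r hr => ?_).trans (Finset.card_union_le _ _)
          simp only [Finset.mem_sdiff, Finset.mem_univ, true_and, notMem_supp] at hr
          simp only [Finset.mem_union, Finset.mem_sdiff, Finset.mem_univ, true_and, U, I,
            Finset.mem_filter, Finset.mem_inter, not_or, mem_supp]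
          have hr' : v r + l * w r = 0 := by simpa [Y] using hr
          by_cases hwr : w r = 0
          · left; exact ⟨not_not.mpr (by rw [hwr, mul_zero, add_zero] at hr'; exact hr'), not_not.mpr hwr⟩
          · right
            refine ⟨⟨fun hvr => ?_, hwr⟩, hr⟩
            rw [hvr, zero_add] at hr'
            exact mul_ne_zero (hLc l hl).ne_zero hwr hr'
        refine (Finset.sum_le_sum hle).trans ?_
        rw [Finset.sum_add_distrib, Finset.sum_const, hL3, smul_eq_mul]
        refine Nat.add_le_add_left ?_ _
        rw [← Finset.card_biUnion]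
        · exact Finset.card_le_card fun r hr => by
            rw [Finset.mem_biUnion] at hr
            obtain ⟨l, -, hr⟩ := hr
            exact (Finset.mem_filter.mp hr).1
        · intro l hl m hm hlm
          refine Finset.disjoint_left.mpr fun r hr hr' => hlm ?_
          simp only [Finset.mem_filter, I, Finset.mem_inter, mem_supp] at hr hr'
          have e1 : v r + l * w r = 0 := by simpa [Y] using hr.2
          have e2 : v r + m * w r = 0 := by simpa [Y] using hr'.2
          exact mul_right_cancel₀ hr.1.2 (by linear_combination e1 - e2)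
      have h3 : 3 * (n - 2) ≤ ∑ l ∈ L, (Finset.univ \ supp (Y l)).card := by
        refine le_trans ?_ (Finset.card_nsmul_le_sum L _ (n - 2) fun l hl => ?_)
        · rw [hL3, smul_eq_mul]
        · rw [Finset.card_univ_sdiff, Fintype.card_fin]
          have := hY l (hLc l hl)
          omega
      rw [Finset.card_univ_sdiff, Fintype.card_fin] at h1
      have hIU : I.card ≤ (supp v).card := Finset.card_le_card Finset.inter_subset_left
      have hvU : (supp v).card ≤ U.card := Finset.card_le_card Finset.subset_union_left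
      have hUn : U.card ≤ n := (Finset.card_le_univ _).trans (Fintype.card_fin n).le
      refine ⟨?_, by omega⟩
      have hU : U.card ≤ (supp v).card := by omega
      have := Finset.eq_of_subset_of_card_le (Finset.subset_union_left : supp v ⊆ U) hU
      intro r hr
      rw [this]
      exact Finset.mem_union_right _ hr
    obtain ⟨r, -, hr⟩ := Finset.exists_mem_notMem_of_card_lt_card (s := supp v)
      (t := (Finset.univ : Finset (Fin n))) (by
        rw [Finset.card_univ, Fintype.card_fin]; have := (hsub a).2; omega)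
    have h0 : act g (act g⁻¹ (e r)) r = 0 := by
      rw [eq_sum_e (act g⁻¹ (e r)), act_sum, Finset.sum_apply]
      refine Finset.sum_eq_zero fun b _ => ?_
      rw [act_smul, Pi.smul_apply, notMem_supp.mp fun h => hr ((hsub b).1 h), smul_zero]
    rw [act_act_inv, e_apply, if_pos rfl] at h0
    exact one_ne_zero h0
  by_cases hz : ∃ z, y z = 0
  · obtain ⟨z, hz⟩ := hz
    exact ⟨y, z, hy, hy3, hz⟩
  push Not at hz
  -- every coordinate is non-zero: twist by a diagonal element
  obtain ⟨κ, hκ, hord⟩ := exists_circ_gen O.card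
  have hq2 := H50.two_le O.card
  have hb4 : κ ^ 4 ≠ 1 := fun h => by
    have hle := Nat.le_of_dvd (by norm_num) (hord 4 h)
    have h4 := hord 4 h
    rcases (show q = 2 ∨ q = 3 by omega) with rfl | rfl
    · norm_num at h4
    · have h9 : (Fintype.card F : F) = 0 := FiniteField.cast_card_eq_zero F
      rw [O.card] at h9
      norm_num at h9
      exact one_ne_zero (α := F) (by linear_combination h9 - 4 * h2)
  by_cases h12 : n ≤ 12
  · obtain ⟨f', hf', hp, hs, hT⟩ := O.small_twist h10 h2 h12 hz ⟨0, by omega⟩
    refine ⟨fun r => (f' r - f' ⟨0, by omega⟩) * y r, ⟨0, by omega⟩, ?_, ?_, by simp⟩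
    · have h1 := O.one_twist hy hf' hp
      convert h1 using 2 with r
      rw [one_mul]
      congr 1
      simp only [mul_add, Finset.sum_add_distrib, mul_ite, mul_one, mul_zero,
        Finset.sum_ite_eq', Finset.mem_univ, if_true] at hs
      linear_combination -hs
    · refine hT.trans (Finset.card_le_card fun r hr => ?_)
      rw [Finset.mem_filter] at hr
      rw [mem_supp]
      exact mul_ne_zero (sub_ne_zero.mpr hr.2) (hz r)
  obtain ⟨w, hw⟩ : ∃ w, ∀ i, i = w → 1 + nc q y i ≠ 0 ∨ 14 ≤ n := by
    by_cases h : ∀ i, nc q y i = 1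
    · refine ⟨⟨0, by omega⟩, fun i _ => Or.inr ?_⟩
      have := hy.1
      rw [h_self, Finset.sum_congr rfl fun i _ => h i, Finset.sum_const, Finset.card_univ,
        Fintype.card_fin, nsmul_one] at this
      by_contra hn
      have hn13 : n = 13 := by omega
      rw [hn13] at this
      exact one_ne_zero (α := F) (by push_cast at this; linear_combination this - 6 * h2)
    · push Not at h
      obtain ⟨w, hw⟩ := h
      exact ⟨w, fun i hi => Or.inl (by
        rw [hi]; intro h1; exact hw (by linear_combination h1 - h11))⟩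
  let a : Fin n → F := fun i => nc q y i + if i = w then 1 else 0
  have ha : ∀ i, i ≠ w → a i ≠ 0 := fun i hi => by
    simp only [a, if_neg hi, add_zero, ne_eq, nc_eq_zero O.card]; exact hz i
  obtain ⟨A, hAs, hA⟩ := Finset.exists_subset_card_eq (s := (Finset.univ : Finset (Fin n)).erase w)
    (n := 5) (by rw [Finset.card_erase_of_mem (Finset.mem_univ w), Finset.card_univ, Fintype.card_fin]; omega)
  obtain ⟨B, hBs, hB⟩ := Finset.exists_subset_card_eq (s := (Finset.univ : Finset (Fin n)).erase w \ A)
    (n := 4) (by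
      rw [Finset.card_sdiff_of_subset hAs, Finset.card_erase_of_mem (Finset.mem_univ w),
        Finset.card_univ, Fintype.card_fin]; omega)
  have hAB : Disjoint A B := Finset.disjoint_left.mpr fun i hi hi' => (Finset.mem_sdiff.mp (hBs hi')).2 hi
  have hwA : w ∉ A := fun h => (Finset.mem_erase.mp (hAs h)).1 rfl
  have hwB : w ∉ B := fun h => (Finset.mem_erase.mp (Finset.mem_sdiff.mp (hBs h)).1).1 rfl
  have hCc : (Finset.univ \ (A ∪ B)).card = n - 9 := by
    rw [Finset.card_univ_sdiff, Finset.card_union_of_disjoint hAB, hA, hB, Fintype.card_fin]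
  obtain ⟨f, hf, hfp, sA, sB, sC⟩ := solve_blocks O.card A B a hAB (by rw [hA, hB]; decide)
    (by rw [Finset.filter_true_of_mem fun i hi => ha i fun h : i = w => hwA (h ▸ hi), hA]; norm_num)
    (by rw [Finset.filter_true_of_mem fun i hi => ha i fun h : i = w => hwB (h ▸ hi), hB]) (by
      rcases hw w rfl with h | h
      · rw [Finset.filter_true_of_mem fun i _ => ?_, hCc]
        · omega
        · rcases eq_or_ne i w with rfl | hi
          · simp only [a, if_true, add_comm (nc q y i)]; exact h
          · exact ha i hi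
      · refine le_trans ?_ (Finset.card_le_card (s := (Finset.univ \ (A ∪ B)).erase w) fun i hi => ?_)
        · have := Finset.pred_card_le_card_erase (s := Finset.univ \ (A ∪ B)) (a := w)
          omega
        · rw [Finset.mem_erase] at hi
          exact Finset.mem_filter.mpr ⟨hi.2, ha i hi.1⟩)
  have hdisj : ∀ i ∈ B, i ∉ A := fun i hi hA' => Finset.disjoint_left.mp hAB hA' hi
  -- the vector obtained from a solution
  have hbuild : ∀ f' : Fin n → F, (∀ i, Circ q (f' i)) → ∏ i, f' i = 1 → ∑ i, f' i * a i = 0 →
      One q M (fun r => (f' r - f' w) * y r) 1 := by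
    intro f' hf' hp hs
    have h1 := O.one_twist hy hf' hp
    convert h1 using 2 with r
    rw [one_mul]
    have : ∑ i, f' i * a i = (∑ i, f' i * nc q y i) + f' w := by
      simp only [a, mul_add, Finset.sum_add_distrib, mul_ite, mul_one, mul_zero,
        Finset.sum_ite_eq', Finset.mem_univ, if_true]
    rw [this] at hs
    congr 1
    linear_combination -hs
  let T : (Fin n → F) → Finset (Fin n) := fun f' => Finset.univ.filter fun r => f' r ≠ f' w
  have hT : ∀ f', 3 ≤ (T f').card → 3 ≤ (supp fun r => (f' r - f' w) * y r).card := fun f' h =>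
    h.trans (Finset.card_le_card fun r hr => by
      rw [Finset.mem_filter] at hr
      rw [mem_supp]
      exact mul_ne_zero (sub_ne_zero.mpr hr.2) (hz r))
  have hs0 : ∑ i, f i * a i = 0 := by
    rw [← Finset.sum_sdiff (Finset.subset_univ (A ∪ B)), Finset.sum_union hAB, sA, sB, sC]; simp
  by_cases h3 : 3 ≤ (T f).card
  · exact ⟨_, w, hbuild f hf hfp hs0, hT f h3, by simp⟩
  let f0 : Fin n → F := fun i => if i ∈ A then κ ^ 4 else if i ∈ B then κ⁻¹ ^ 5 else 1
  have hf0 : ∀ i, Circ q (f0 i) := fun i => by
    simp only [f0]; split_ifs; exacts [hκ.pow _, hκ.inv.pow _, Circ.one]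
  refine ⟨_, w, hbuild (fun i => f0 i * f i) (fun i => (hf0 i).mul (hf i)) ?_ ?_, hT _ ?_, by simp⟩
  · rw [Finset.prod_mul_distrib, hfp, mul_one]
    simp only [f0]
    rw [Finset.prod_ite, Finset.prod_ite, Finset.prod_const, Finset.prod_const, Finset.prod_const_one]
    have e1 : Finset.univ.filter (fun i => i ∈ A) = A := by ext; simp
    have e2 : ((Finset.univ.filter fun i => i ∉ A).filter fun i => i ∈ B) = B := by
      ext i; simpa using hdisj i
    rw [e1, e2, hA, hB, mul_one, ← pow_mul, ← pow_mul, ← mul_pow, mul_inv_cancel₀ hκ.ne_zero, one_pow]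
  · rw [← Finset.sum_sdiff (Finset.subset_univ (A ∪ B)), Finset.sum_union hAB,
      Finset.sum_congr rfl (fun i hi => by
        simp only [Finset.mem_sdiff, Finset.mem_union, not_or] at hi
        simp [f0, hi.2.1, hi.2.2] :
        ∀ i ∈ Finset.univ \ (A ∪ B), f0 i * f i * a i = f i * a i), sC,
      Finset.sum_congr rfl (fun i hi => by simp [f0, hi, mul_assoc] :
        ∀ i ∈ A, f0 i * f i * a i = κ ^ 4 * (f i * a i)), ← Finset.mul_sum, sA,
      Finset.sum_congr rfl (fun i hi => by simp [f0, hi, hdisj i hi, mul_assoc] :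
        ∀ i ∈ B, f0 i * f i * a i = κ⁻¹ ^ 5 * (f i * a i)), ← Finset.mul_sum, sB]
    simp
  · refine le_trans ?_ (Finset.card_le_card (s := A \ T f) fun r hr => ?_)
    · have := Finset.le_card_sdiff (T f) A
      omega
    · simp only [Finset.mem_sdiff, T, Finset.mem_filter, Finset.mem_univ, true_and, not_not] at hr
      simp only [T, Finset.mem_filter, Finset.mem_univ, true_and, f0, if_pos hr.1, if_neg hwA,
        if_neg hwB, one_mul, hr.2]
      intro h
      exact hb4 (mul_right_cancel₀ (hf w).ne_zero (h.trans (one_mul _).symm))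

end H41.UDec
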