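import Cfsg.Agent.H41.UDec.FrameTv

/-! The whole root group of a transvection centre. -/

set_option autoImplicit false
set_option linter.unusedSectionVars false

namespace H41.UDec

open Matrix Cfsg Cfsg.Geo H45 H50

variable {F : Type*} [Field F] [Fintype F] {n q : ℕ}
variable {M : Subgroup (GL (Fin n) F)} (O : Over q M)
include O

/-- Diagonal elements with free determinant on vectors vanishing somewhere. -/
theorem Over.exists_diag {y : Fin n → F} {z : Fin n} (hz : y z = 0) {g : Fin n → F}
    (hg : ∀ r, Circ q (g r)) :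
    ∃ D ∈ M, ∀ r, act D y r = g r * y r := by
  classical
  let P := ∏ r ∈ Finset.univ.erase z, g r
  let f : Fin n → F := fun r => if r = z then P⁻¹ else g r
  have hf : ∀ r, Circ q (f r) := fun r => by
    simp only [f]; split_ifs; exacts [(Circ.prod fun a _ => hg a).inv, hg r]
  have hfp : ∏ r, f r = 1 := by
    rw [← Finset.mul_prod_erase _ _ (Finset.mem_univ z),
      Finset.prod_congr rfl (fun r hr => by simp [f, (Finset.mem_erase.mp hr).1] :
        ∀ r ∈ Finset.univ.erase z, f r = g r)]
    simp only [f, if_pos rfl]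
    exact inv_mul_cancel₀ (Circ.prod fun a _ => hg a).ne_zero
  refine ⟨_, O.diag_mem hf hfp, fun r => ?_⟩
  rw [act_dg]
  by_cases hr : r = z
  · subst hr; rw [hz, mul_zero, mul_zero]
  · simp [f, hr]

theorem Over.h_diag {y : Fin n → F} {g : Fin n → F} {D : GL (Fin n) F}
    (hD : ∀ r, act D y r = g r * y r) :
    hermForm n F q (act D y) y = ∑ r ∈ supp y, g r * nc q y r := by
  rw [hermForm, ← Finset.sum_subset (Finset.subset_univ (supp y))]
  · exact Finset.sum_congr rfl fun r _ => by rw [hD, nc]; ring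
  · intro r _ hr
    rw [hD, notMem_supp.mp hr, mul_zero, zero_mul]

/-- The twisted vector, for a rotation not needing compensation. -/
theorem Over.one_twist_free {y : Fin n → F} {z : Fin n} (hz : y z = 0) {c : F} (h : One q M y c)
    {g : Fin n → F} (hg : ∀ r, Circ q (g r)) :
    One q M (fun r => (g r + c * ∑ i ∈ supp y, g i * nc q y i) * y r) c := by
  obtain ⟨hy, hc, hm⟩ := h
  obtain ⟨D, hD, hDy⟩ := O.exists_diag hz hg
  have h1 := O.one_act hm (O.one_act hD ⟨hy, hc, hm⟩)
  convert h1 using 1
  funext r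
  rw [act_utv, Pi.add_apply, Pi.smul_apply, smul_eq_mul, O.h_diag hDy, hDy]
  ring

/-- From one parameter to the whole root group. -/
theorem Over.ctr_of_one {y : Fin n → F} {z j : Fin n} (hz : y z = 0) {c : F} (h : One q M y c)
    (hc0 : c ≠ 0) (hj : y j ≠ 0) (hcj : c * nc q y j ≠ 1) : Ctr q M y := by
  classical
  obtain ⟨hy, hc, hm⟩ := h
  have hF := O.card
  have hq := q_ne_zero hF
  -- the parameters
  let A : Set F := {d | d + d ^ q = 0 ∧ utv y hy d ∈ M}
  have hA0 : (0 : F) ∈ A := by
    refine ⟨by simp [hq], ?_⟩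
    have : utv (q := q) y hy 0 = 1 := gl_ext fun v => by
      rw [act_utv, act_one, zero_mul, zero_smul, add_zero]
    rw [this]; exact one_mem M
  have hadd : ∀ d ∈ A, ∀ d' ∈ A, d + d' ∈ A := by
    rintro d ⟨hd, hdm⟩ d' ⟨hd', hdm'⟩
    refine ⟨by rw [H50.add_pow_q hF]; linear_combination hd + hd', ?_⟩
    have : utv y hy (d + d') = utv y hy d * utv y hy d' := gl_ext fun v => by
      rw [act_mul, act_utv, act_utv, act_utv, h_add_left, h_smul_left, hy, mul_zero, add_zero,
        add_assoc, ← add_smul]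
      ring_nf
    rw [this]; exact mul_mem hdm hdm'
  have hneg : ∀ d ∈ A, -d ∈ A := by
    rintro d ⟨hd, hdm⟩
    refine ⟨by rw [H50.neg_pow_q hF]; linear_combination -hd, ?_⟩
    have : utv y hy (-d) = (utv y hy d)⁻¹ := eq_inv_of_mul_eq_one_left (gl_ext fun v => by
      rw [act_mul, act_utv, act_utv, h_add_left, h_smul_left, hy, mul_zero, add_zero, act_one,
        add_assoc, ← add_smul, neg_mul, add_neg_cancel, zero_smul, add_zero])
    rw [this]; exact inv_mem hdm
  let K : AddSubgroup F :=
    { carrier := {r | r ^ q = r ∧ ∀ d ∈ A, r * d ∈ A}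
      zero_mem' := ⟨zero_pow hq, fun d _ => by rw [zero_mul]; exact hA0⟩
      add_mem' := fun {a b} ha hb => ⟨by rw [H50.add_pow_q hF, ha.1, hb.1],
        fun d hd => by rw [add_mul]; exact hadd _ (ha.2 d hd) _ (hb.2 d hd)⟩
      neg_mem' := fun {a} ha => ⟨by rw [H50.neg_pow_q hF, ha.1],
        fun d hd => by rw [neg_mul]; exact hneg _ (ha.2 d hd)⟩ }
  let a := nc q y j
  have ha : a ≠ 0 := by rw [ne_eq, nc_eq_zero hF]; exact hj
  have hb : c * a ≠ 0 := mul_ne_zero hc0 ha
  have hba : 1 - c * a ≠ 0 := sub_ne_zero.mpr (Ne.symm hcj)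
  -- every norm of `(1 - c a) + l (c a)` multiplies `A`
  have hrng : ∀ v ∈ rng q (1 - c * a) (c * a), v ∈ K := by
    intro v hv
    refine ⟨mem_reals.mp (rng_subset_reals hF _ _ hv), ?_⟩
    rw [mem_rng] at hv
    obtain ⟨l, hl, hlv⟩ := hv
    let g : Fin n → F := fun r => if r = j then l else 1
    have hg : ∀ r, Circ q (g r) := fun r => by simp only [g]; split_ifs; exacts [hl, Circ.one]
    have hsum : ∑ i ∈ supp y, g i * nc q y i = (l - 1) * a := by
      rw [← Finset.add_sum_erase _ _ (mem_supp.mpr hj),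
        Finset.sum_congr rfl (fun r hr => by simp [g, (Finset.mem_erase.mp hr).1] :
          ∀ r ∈ (supp y).erase j, g r * nc q y r = nc q y r)]
      have := sum_nc_supp hF y
      rw [hy, ← Finset.add_sum_erase _ _ (mem_supp.mpr hj)] at this
      simp only [g, if_true, a]
      linear_combination this
    obtain ⟨D, hD, hDy⟩ := O.exists_diag hz hg
    set k := c * ((l - 1) * a)
    set y' := act (utv y hy c) (act D y) with hy'
    have hy'r : ∀ r, y' r = (g r + k) * y r := fun r => by
      rw [hy', act_utv, Pi.add_apply, Pi.smul_apply, smul_eq_mul, O.h_diag hDy, hsum, hDy]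
      ring
    have hρ : 1 + k = (1 - c * a) + l * (c * a) := by simp only [k]; ring
    have hNl : (l + k) * (l + k) ^ q = (1 + k) * (1 + k) ^ q := by
      have ha' : a ^ q = a := nc_fixed hF y j
      simp only [k]
      simp only [H50.add_pow_q hF, mul_pow, H50.sub_pow_q hF, one_pow, ha']
      have hl' : l * l ^ q = 1 := hl
      linear_combination hl' + ((l - 1) * a * (l ^ q - 1)) * hc
    by_cases hρ0 : 1 + k = 0
    · -- then the whole vector vanishes
      exfalso
      have hlk : l + k = 0 := by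
        rw [hρ0, zero_mul, mul_eq_zero, pow_q_eq_zero hF, or_self] at hNl
        exact hNl
      have h0 : y' = 0 := funext fun r => by
        rw [hy'r, Pi.zero_apply]
        simp only [g]
        split_ifs
        · rw [hlk, zero_mul]
        · rw [hρ0, zero_mul]
      rw [hy', ← act_zero (utv y hy c)] at h0
      have h1 := act_injective _ h0
      rw [← act_zero D] at h1
      exact hj (congrFun (act_injective D h1) j)
    have hm0 : Circ q ((l + k) / (1 + k)) := circ_div_of_norm hρ0 hNl
    let g' : Fin n → F := fun r => if r = j then (l + k) / (1 + k) else 1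
    have hg' : ∀ r, Circ q (g' r) := fun r => by simp only [g']; split_ifs; exacts [hm0, Circ.one]
    obtain ⟨D', hD', hD'y⟩ := O.exists_diag hz hg'
    have hpar : y' = (1 + k) • act D' y := funext fun r => by
      rw [hy'r, Pi.smul_apply, smul_eq_mul, hD'y]
      simp only [g, g']
      split_ifs
      · field_simp
      · rw [one_mul]
    intro d hd
    -- conjugate the element with parameter `d` into `y'`, then back to `y`
    have h1 := O.one_act hm (O.one_act hD ⟨hy, hd.1, hd.2⟩)
    rw [← hy', hpar] at h1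
    obtain ⟨hiso, -, hmem⟩ := h1
    have hiso' : hermForm n F q (act D' y) (act D' y) = 0 := by rw [O.inj D' hD', hy]
    have e : utv ((1 + k) • act D' y) hiso d =
        utv (act D' y) hiso' (v * d) := gl_ext fun u => by
      rw [act_utv, act_utv, h_smul_right hF, smul_smul]
      congr 2
      rw [← hlv, ← hρ]
      ring
    rw [e] at hmem
    have hvd : v * d + (v * d) ^ q = 0 := by
      rw [mul_pow, mem_reals.mp (rng_subset_reals hF _ _ (mem_rng.mpr ⟨l, hl, hlv⟩))]
      linear_combination v * hd.1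
    have h2 := O.one_act (inv_mem hD') (⟨hiso', hvd, hmem⟩ : One q M (act D' y) (v * d))
    rw [act_inv_act] at h2
    exact ⟨hvd, h2.2.2⟩
  -- `K` is everything
  have hK : ∀ r : F, r ^ q = r → r ∈ K := by
    let R : AddSubgroup F :=
      { carrier := {r | r ^ q = r}
        zero_mem' := zero_pow hq
        add_mem' := fun {a b} (ha : a ^ q = a) (hb : b ^ q = b) => show (a + b) ^ q = a + b by
          rw [H50.add_pow_q hF, ha, hb]
        neg_mem' := fun {a} (ha : a ^ q = a) => show (-a) ^ q = -a by rw [H50.neg_pow_q hF, ha] }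
    have hR : Nat.card R = q := H50.card_fixed hF
    have hKR : K ≤ R := fun r hr => hr.1
    have hdvd := AddSubgroup.card_dvd_of_le hKR
    rw [hR] at hdvd
    have hbig : q + 1 ≤ 2 * ((rng q (1 - c * a) (c * a)).erase 0).card + 2 := by
      have := card_rng hF hba hb
      have := Finset.pred_card_le_card_erase (s := rng q (1 - c * a) (c * a)) (a := (0 : F))
      omega
    have hle : ((rng q (1 - c * a) (c * a)).erase 0).card + 1 ≤ Nat.card K := by
      rw [← Finset.card_insert_of_notMem (Finset.notMem_erase 0 _), Nat.card_eq_fintype_card]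
      rw [← Fintype.card_coe]
      refine Fintype.card_le_of_injective (fun x => ⟨x.1, ?_⟩) (fun x x' h => by
        exact Subtype.ext (congrArg (fun t : K => (t : F)) h))
      rcases Finset.mem_insert.mp x.2 with h | h
      · rw [h]; exact K.zero_mem
      · exact hrng _ (Finset.mem_of_mem_erase h)
    have hKq : Nat.card K = q := by
      obtain ⟨m, hm'⟩ := hdvd
      rcases m with _ | _ | m
      · rw [mul_zero] at hm'; exact absurd hm' hq
      · rw [zero_add, mul_one] at hm'; exact hm'.symm
      · exfalso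
        have : Nat.card K * 2 ≤ q := by
          rw [hm']; exact Nat.mul_le_mul_left _ (by omega)
        omega
    intro r hr
    rw [AddSubgroup.eq_of_le_of_card_ge hKR (by rw [hR, hKq])]
    exact hr
  refine ⟨hy, fun d hd => ?_⟩
  have hcA : c ∈ A := ⟨hc, hm⟩
  have hr : (d / c) ^ q = d / c := by
    rw [div_pow, eq_neg_of_add_eq_zero_right hd, eq_neg_of_add_eq_zero_right hc, neg_div_neg_eq]
  have := (hK _ hr).2 c hcA
  rw [div_mul_cancel₀ d hc0] at this
  exact this.2

/-- Some vector with a full root group, vanishing somewhere. -/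
theorem Over.exists_ctr_odd (hA : HasAxis M) (h2 : (2 : F) ≠ 0) :
    ∃ y z, Ctr q M y ∧ y ≠ 0 ∧ y z = 0 := by
  obtain ⟨y, z, c, h, hc, hy, hz⟩ := O.exists_tv hA
  obtain ⟨j, hj⟩ : ∃ j, y j ≠ 0 := by
    by_contra hcon; push Not at hcon; exact hy (funext hcon)
  refine ⟨y, z, O.ctr_of_one hz h hc hj fun e' => ?_, hy, hz⟩
  -- `c` is skew and the coordinate norm is real
  have h1 : (c * nc q y j) ^ q = 1 := by rw [e', one_pow]
  rw [mul_pow, nc_fixed O.card, eq_neg_of_add_eq_zero_right h.2.1] at h1
  exact h2 (by linear_combination -h1 - e')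

theorem Over.exists_ctr_even (h2 : (2 : F) = 0) (hq3 : 3 ≤ q) {y : Fin n → F} {z : Fin n}
    (h : One q M y 1) (h3 : 3 ≤ (supp y).card) (hz : y z = 0) :
    ∃ y z, Ctr q M y ∧ y ≠ 0 ∧ y z = 0 := by
  classical
  have hF := O.card
  have h11 : (1 : F) + 1 = 0 := by rw [← h2]; norm_num
  by_cases hex : ∃ j, y j ≠ 0 ∧ nc q y j ≠ 1
  · obtain ⟨j, hj, hj1⟩ := hex
    exact ⟨y, z, O.ctr_of_one hz h one_ne_zero hj (by rwa [one_mul]), fun e' => hj (by simp [e']), hz⟩
  push Not at hex
  obtain ⟨κ, hκ, hord⟩ := exists_circ_gen hF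
  obtain ⟨i, hi⟩ := Finset.card_pos.mp (show 0 < (supp y).card by omega)
  obtain ⟨i', hi', hii⟩ := Finset.exists_mem_ne (s := supp y) (by omega) i
  obtain ⟨o, ho, ho'⟩ := Finset.exists_mem_notMem_of_card_lt_card (s := ({i, i'} : Finset (Fin n)))
    (t := supp y) (lt_of_le_of_lt Finset.card_le_two (by omega))
  simp only [Finset.mem_insert, Finset.mem_singleton, not_or] at ho'
  let g : Fin n → F := fun r => if r = i then κ else if r = i' then κ⁻¹ else 1
  have hg : ∀ r, Circ q (g r) := fun r => by
    simp only [g]; split_ifs; exacts [hκ, hκ.inv, Circ.one]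
  have h1 := O.one_twist_free hz h hg
  have hS : ∀ r ∈ supp y, nc q y r = 1 := fun r hr => hex r (mem_supp.mp hr)
  have hhv : ∑ r ∈ supp y, g r * nc q y r = κ + κ⁻¹ := by
    have hsum : ∑ r ∈ supp y, g r * nc q y r - ∑ r ∈ supp y, nc q y r = (κ - 1) + (κ⁻¹ - 1) := by
      rw [← Finset.sum_sub_distrib, ← Finset.add_sum_erase _ _ hi,
        ← Finset.add_sum_erase ((supp y).erase i) _ (Finset.mem_erase.mpr ⟨hii, hi'⟩),
        Finset.sum_eq_zero (fun r hr => by
          rw [Finset.mem_erase, Finset.mem_erase] at hr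
          simp [g, hr.1, hr.2.1])]
      simp [g, hS i hi, hS i' hi', hii]
    rw [sum_nc_supp hF, h.1, sub_zero] at hsum
    linear_combination hsum - h11
  rw [hhv, one_mul] at h1
  set t := κ + κ⁻¹ with ht
  have hk : κ * κ⁻¹ = 1 := mul_inv_cancel₀ hκ.ne_zero
  have htq : t ^ q = t := by
    rw [ht, H50.add_pow_q hF, hκ.pow_q, inv_pow, hκ.pow_q, inv_inv, add_comm]
  have ht0 : t ≠ 0 := fun h0 => by
    have : κ ^ 2 = 1 := by linear_combination κ * h0 - hk - h11
    have := Nat.le_of_dvd (by norm_num) (hord 2 this)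
    omega
  have ht1 : 1 + t ≠ 0 := fun h0 => by
    have : κ ^ 3 = 1 := by
      linear_combination (κ * κ - κ) * h0 - (κ - 1) * hk + (κ * κ - κ) * h11 * 0
    have := Nat.le_of_dvd (by norm_num) (hord 3 this)
    omega
  set y' : Fin n → F := fun r => (g r + t) * y r with hy'
  have hyo : y' o ≠ 0 := by
    simp only [hy', g, if_neg ho'.1, if_neg ho'.2]
    exact mul_ne_zero ht1 (mem_supp.mp ho)
  refine ⟨y', z, O.ctr_of_one (z := z) (j := o) ?_ h1 one_ne_zero hyo ?_, fun e' => hyo (by simp [e']), ?_⟩
  · simp [hy', hz]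
  · rw [one_mul]
    intro e1
    have e2 : nc q y' o = (1 + t) * (1 + t) := by
      simp only [nc, hy', g, if_neg ho'.1, if_neg ho'.2, mul_pow, H50.add_pow_q hF, one_pow, htq]
      have := hS o ho
      rw [nc] at this
      linear_combination ((1 + t) * (1 + t)) * this
    rw [e2] at e1
    have : t * t = 0 := by linear_combination e1 - t * h11
    exact ht0 (mul_self_eq_zero.mp this)
  · simp [hy', hz]

end H41.UDec
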