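import Cfsg.Agent.H41.UDec.FrameRoot

/-! The monomial group in small dimension: an element fixing a coordinate line. -/

set_option autoImplicit false
set_option linter.unusedSectionVars false

namespace H41.UDec

open Matrix Cfsg Cfsg.Geo H45 H50

variable {F : Type*} [Field F] [Fintype F] {n q : ℕ}

theorem not_mono_inv {g : GL (Fin n) F} (hgm : ¬ Mono g) : ¬ Mono g⁻¹ := by
  intro hm
  refine hgm fun c => ?_
  choose p hp using hm
  have hinj : Function.Injective p := fun i j h => by
    by_contra hne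
    exact mono_rows_ne hne (hp i) (hp j) h
  obtain ⟨r, rfl⟩ := (Finite.injective_iff_surjective.mp hinj) c
  refine ⟨r, fun s hs' => ?_⟩
  have h1 := congrArg (act g) (eq_smul_e (hp r))
  rw [act_act_inv, act_smul] at h1
  have h2 := congrFun h1 s
  rw [e_apply, if_neg hs', Pi.smul_apply, smul_eq_mul] at h2
  refine (mul_eq_zero.mp h2.symm).resolve_left fun h0 => ?_
  have := congrFun h1 r
  rw [e_apply, if_pos rfl, Pi.smul_apply, h0, zero_smul] at this
  exact one_ne_zero this

/-- A column with at most one non-zero entry is an axis. -/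
theorem exists_axis_of_card {v : Fin n → F} (a : Fin n) (h : (supp v).card ≤ 1) :
    ∃ p, ∀ r, r ≠ p → v r = 0 := by
  rcases (supp v).eq_empty_or_nonempty with he | ⟨p, hp⟩
  · exact ⟨a, fun r _ => notMem_supp.mp (by rw [he]; simp)⟩
  · exact ⟨p, fun r hr => notMem_supp.mp fun hr' => hr (Finset.card_le_one.mp h r hr' p hp)⟩

/-- Three orthonormal vectors do not fit into two coordinates. -/
theorem three_in_two (hF : Fintype.card F = q ^ 2) (hn : 2 ≤ n) {w₁ w₂ w₃ : Fin n → F}
    {S : Finset (Fin n)} (hS : S.card ≤ 2) (s₁ : supp w₁ ⊆ S) (s₂ : supp w₂ ⊆ S)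
    (s₃ : supp w₃ ⊆ S) (h₁ : hermForm n F q w₁ w₁ = 1) (h₂ : hermForm n F q w₂ w₂ = 1)
    (h₃ : hermForm n F q w₃ w₃ = 1) (h₁₂ : hermForm n F q w₁ w₂ = 0)
    (h₁₃ : hermForm n F q w₁ w₃ = 0) (h₂₃ : hermForm n F q w₂ w₃ = 0) : False := by
  classical
  obtain ⟨T, hST, -, hT⟩ := Finset.exists_subsuperset_card_eq (Finset.subset_univ S) hS
    (by rw [Finset.card_univ, Fintype.card_fin]; exact hn)
  obtain ⟨i, j, hij, rfl⟩ := Finset.card_eq_two.mp hT
  have hh : ∀ v w : Fin n → F, supp v ⊆ S →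
      hermForm n F q v w = v i * w i ^ q + v j * w j ^ q := fun v w hv => by
    rw [hermForm, ← Finset.sum_subset (Finset.subset_univ ({i, j} : Finset (Fin n))) (fun r _ hr => by
      rw [notMem_supp.mp (fun h => hr (hST (hv h))), zero_mul]), Finset.sum_pair hij]
  have c₂ := (h_eq_zero_comm hF).1 h₁₂
  have c₃ := (h_eq_zero_comm hF).1 h₁₃
  rw [hh _ _ s₂] at c₂ h₂ h₂₃
  rw [hh _ _ s₃] at c₃ h₃
  rw [hh _ _ s₁] at h₁
  have hdet : w₂ i * w₃ j = w₂ j * w₃ i := by
    by_cases hi : w₁ i = 0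
    · have hj : w₁ j ^ q ≠ 0 := pow_ne_zero _ fun hj => by
        rw [hi, hj, zero_mul, add_zero] at h₁; exact zero_ne_one h₁
      rw [hi, zero_pow (q_ne_zero hF), mul_zero, zero_add] at c₂ c₃
      rw [(mul_eq_zero.mp c₂).resolve_right hj, (mul_eq_zero.mp c₃).resolve_right hj]
      ring
    · refine mul_right_cancel₀ (pow_ne_zero q hi) ?_
      linear_combination (w₃ j) * c₂ - (w₂ j) * c₃
  have hj2 : w₂ j = 0 := by
    linear_combination (w₃ j) * h₂₃ - (w₂ j) * h₃ - (w₃ i ^ q) * hdet
  have hi2 : w₂ i = 0 := by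
    linear_combination (w₃ i) * h₂₃ - (w₂ i) * h₃ + (w₃ j ^ q) * hdet
  simp only [hi2, hj2, zero_mul, add_zero] at h₂
  exact zero_ne_one h₂

/-- Some pair element on a centre with three non-zero coordinates is not monomial. -/
theorem pair_not_mono (hF : Fintype.card F = q ^ 2) (hq3 : 3 ≤ q) {x y : Fin n → F}
    (hxy : hermForm n F q x y = 0) (h3 : 3 ≤ (supp x).card)
    (hm : ∀ κ, Circ q κ → κ ≠ 1 → ∀ h h', Mono (rf2 hF x y (κ - 1) (κ⁻¹ - 1) h h'))
    (hx : hermForm n F q x x = 1) (hy : hermForm n F q y y = 1) : False := by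
  classical
  obtain ⟨c, r₁, r₂, hc, hr₁, hr₂, hc₁, hc₂, h12⟩ := Finset.two_lt_card_iff.mp h3
  let K := (circles q F).erase 1
  have hK : q ≤ K.card := by
    rw [Finset.card_erase_of_mem (mem_circles.mpr Circ.one), card_circles hF]; omega
  have hK' : ∀ κ : K, Circ q (κ : F) ∧ (κ : F) ≠ 1 := fun κ =>
    ⟨mem_circles.mp (Finset.mem_erase.mp κ.2).2, (Finset.mem_erase.mp κ.2).1⟩
  choose p hp using fun κ : K => hm κ (hK' κ).1 (hK' κ).2
    (refl_cond hF hx (hK' κ).1) (refl_cond hF hy (hK' κ).1.inv) c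
  have key : ∀ r ∈ supp x, r ≠ c → ∀ κ μ : K, κ ≠ μ → p κ ≠ r → p μ ≠ r → False := by
    intro r hr hrc κ μ hne h1 h2
    have e1 := hp κ r (Ne.symm h1)
    have e2 := hp μ r (Ne.symm h2)
    rw [act_rf2_e hF hxy, if_neg hrc, zero_add] at e1 e2
    set X := x c ^ q * x r with hX
    set Y := y c ^ q * y r
    have k1 : ((κ : F) - 1) * ((κ : F) * X - Y) = 0 := by
      have hk : (κ : F) * (κ : F)⁻¹ = 1 := mul_inv_cancel₀ (hK' κ).1.ne_zero
      simp only [X, Y]
      linear_combination (κ : F) * e1 - (y c ^ q * y r) * hk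
    have k2 : ((μ : F) - 1) * ((μ : F) * X - Y) = 0 := by
      have hk : (μ : F) * (μ : F)⁻¹ = 1 := mul_inv_cancel₀ (hK' μ).1.ne_zero
      simp only [X, Y]
      linear_combination (μ : F) * e2 - (y c ^ q * y r) * hk
    have k3 := (mul_eq_zero.mp k1).resolve_left (sub_ne_zero.mpr (hK' κ).2)
    have k4 := (mul_eq_zero.mp k2).resolve_left (sub_ne_zero.mpr (hK' μ).2)
    have : ((κ : F) - μ) * X = 0 := by linear_combination k3 - k4
    rcases mul_eq_zero.mp this with h | h
    · exact hne (Subtype.ext (sub_eq_zero.mp h))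
    · rw [hX] at h
      exact mul_ne_zero (pow_ne_zero _ (mem_supp.mp hc)) (mem_supp.mp hr) h
  have hA := Finset.card_filter_add_card_filter_not (s := (Finset.univ : Finset K))
    (fun κ => p κ = r₁)
  rw [Finset.card_univ, Fintype.card_coe] at hA
  by_cases h : 2 ≤ ((Finset.univ : Finset K).filter fun κ => p κ = r₁).card
  · obtain ⟨κ, hκ, μ, hμ, hne⟩ := Finset.one_lt_card.mp h
    rw [Finset.mem_filter] at hκ hμ
    exact key r₂ hr₂ hc₂.symm κ μ hne (hκ.2 ▸ h12) (hμ.2 ▸ h12)
  · obtain ⟨κ, hκ, μ, hμ, hne⟩ := Finset.one_lt_card.mp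
      (show 1 < ((Finset.univ : Finset K).filter fun κ => ¬ p κ = r₁).card by omega)
    rw [Finset.mem_filter] at hκ hμ
    exact key r₁ hr₁ hc₁.symm κ μ hne hκ.2 hμ.2

variable {M : Subgroup (GL (Fin n) F)} (O : Over q M)
include O

theorem Over.inv_col {g : GL (Fin n) F} (hg : g ∈ M) (r a : Fin n) :
    act g⁻¹ (e r) a = act g (e a) r ^ q := by
  rw [← h_e_right O.card (act g⁻¹ (e r)) a, ← O.inj g hg, act_act_inv, h_e_left O.card]

/-- Two columns vanishing in the same row. -/
theorem Over.axis_of_pair (hq3 : 3 ≤ q) {g : GL (Fin n) F} (hg : g ∈ M) {a b z : Fin n}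
    (hab : a ≠ b) (ha : act g (e a) z = 0) (hb : act g (e b) z = 0)
    (h : 3 ≤ (supp (act g (e a))).card ∨
      ((supp (act g (e a))).card = 2 ∧ ∀ r ∈ supp (act g (e a)), act g (e b) r = 0)) :
    HasAxis M := by
  classical
  by_contra hno
  have hF := O.card
  have hq := q_ne_zero hF
  have hxy : hermForm n F q (act g (e a)) (act g (e b)) = 0 := by rw [O.h_cols hg, if_neg hab]
  have hall : ∀ κ, Circ q κ → ∀ h h',
      Mono (rf2 hF (act g (e a)) (act g (e b)) (κ - 1) (κ⁻¹ - 1) h h') := by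
    intro κ hκ h h'
    by_contra hm
    obtain ⟨h1, h2, hmem⟩ := O.conj_pair_mem hg hκ hab
    refine hno ⟨_, hmem, hm, z, 1, ?_⟩
    rw [act_rf2 hF hxy, h_e_left hF, h_e_left hF, ha, hb,
      zero_pow hq, mul_zero, mul_zero, zero_smul, zero_smul, add_zero, add_zero, one_smul]
  rcases h with h3 | ⟨h2, hdis⟩
  · exact pair_not_mono hF hq3 hxy h3 (fun κ hκ _ => hall κ hκ)
      (by rw [O.h_cols hg, if_pos rfl]) (by rw [O.h_cols hg, if_pos rfl])
  · obtain ⟨κ, hκ, hκ1, hκ2⟩ := exists_circ_sq_ne_one hF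
    obtain ⟨i, j, hij, hS⟩ := Finset.card_eq_two.mp h2
    obtain ⟨p, hp⟩ := hall κ hκ (refl_cond hF (by rw [O.h_cols hg, if_pos rfl]) hκ)
      (refl_cond hF (by rw [O.h_cols hg, if_pos rfl]) hκ.inv) i
    have hi : act g (e a) i ≠ 0 := mem_supp.mp (by rw [hS]; simp)
    have hj : act g (e a) j ≠ 0 := mem_supp.mp (by rw [hS]; simp)
    have hyi : act g (e b) i = 0 := hdis i (by rw [hS]; simp)
    have hα : κ - 1 ≠ 0 := sub_ne_zero.mpr hκ1
    by_cases hpi : p = i
    · have := hp j (by rw [hpi]; exact Ne.symm hij)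
      rw [act_rf2_e hF hxy, if_neg (Ne.symm hij), hyi, zero_pow hq, mul_zero, zero_mul, zero_add,
        add_zero] at this
      exact mul_ne_zero (mul_ne_zero hα (pow_ne_zero _ hi)) hj this
    · have := hp i (Ne.symm hpi)
      rw [act_rf2_e hF hxy, if_pos rfl, hyi, mul_zero, add_zero] at this
      -- `κ - 1` would be real
      have hnc : nc q (act g (e a)) i ≠ 0 := by rw [ne_eq, nc_eq_zero hF]; exact hi
      have e1 : (κ - 1) * nc q (act g (e a)) i = -1 := by rw [nc]; linear_combination this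
      have e2 := congrArg (· ^ q) e1
      simp only [mul_pow, nc_fixed hF, H50.sub_pow_q hF, one_pow, H50.neg_pow_q hF] at e2
      have h1 : κ ^ q = κ := by
        linear_combination mul_right_cancel₀ hnc (e2.trans e1.symm)
      exact hκ2 (by have h' : κ * κ ^ q = 1 := hκ; rwa [h1] at h')

/-- Columns of a non-monomial element with two non-zero entries. -/
theorem Over.axis_of_two (hq3 : 3 ≤ q) {g : GL (Fin n) F} (hg : g ∈ M) (hgm : ¬ Mono g) {a : Fin n}
    (h2 : (supp (act g (e a))).card = 2) : HasAxis M := by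
  classical
  by_contra hno
  have hF := O.card
  have hdim := O.dim
  let Z := Finset.univ \ supp (act g (e a))
  have hZ : 3 ≤ Z.card := by
    rw [Finset.card_univ_sdiff, Fintype.card_fin, h2]; omega
  have hz : ∀ r ∈ Z, act g⁻¹ (e r) a = 0 := fun r hr => by
    rw [O.inv_col hg, notMem_supp.mp (Finset.mem_sdiff.mp hr).2, zero_pow (q_ne_zero hF)]
  have hg' := inv_mem hg
  have h2' : ∀ r ∈ Z, (supp (act g⁻¹ (e r))).card = 2 := by
    intro r hr
    rcases Nat.lt_trichotomy (supp (act g⁻¹ (e r))).card 2 with h | h | h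
    · obtain ⟨p, hp⟩ := exists_axis_of_card a (Nat.le_of_lt_succ h)
      exact absurd (O.hasAxis_of_axis hg' (not_mono_inv hgm) hp) hno
    · exact h
    · obtain ⟨r', hr', hne⟩ := Finset.exists_mem_ne (s := Z) (by omega) r
      exact absurd (O.axis_of_pair hq3 hg' hne.symm (hz r hr) (hz r' hr') (Or.inl h)) hno
  obtain ⟨r₁, r₂, r₃, m₁, m₂, m₃, n12, n13, n23⟩ := Finset.two_lt_card_iff.mp hZ
  have hsame : ∀ r ∈ Z, ∀ s ∈ Z, r ≠ s → supp (act g⁻¹ (e s)) ⊆ supp (act g⁻¹ (e r)) := by
    intro r hr s hs hrs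
    set x := act g⁻¹ (e r) with hx
    set y := act g⁻¹ (e s) with hy
    have hxy : hermForm n F q x y = 0 := by rw [hx, hy, O.h_cols hg', if_neg hrs]
    by_cases hdis : ∀ t ∈ supp x, y t = 0
    · exact absurd (O.axis_of_pair hq3 hg' hrs (hz r hr) (hz s hs) (Or.inr ⟨h2' r hr, hdis⟩)) hno
    push Not at hdis
    obtain ⟨t, htx, hty⟩ := hdis
    -- otherwise `t` is the only common coordinate
    intro t' ht'
    by_contra hcon
    have hty' : supp y = {t, t'} := by
      have hne : t ≠ t' := fun h => hcon (h ▸ htx)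
      refine (Finset.eq_of_subset_of_card_le (fun u hu => ?_) ?_).symm
      · rw [Finset.mem_insert, Finset.mem_singleton] at hu
        rcases hu with rfl | rfl
        exacts [mem_supp.mpr hty, ht']
      · rw [Finset.card_pair hne, h2' s hs]
    have : hermForm n F q x y = x t * y t ^ q := by
      rw [hermForm]
      refine Finset.sum_eq_single t (fun u _ hu => ?_) (by simp)
      by_cases hy0 : y u = 0
      · rw [hy0, zero_pow (q_ne_zero hF), mul_zero]
      · have h' := mem_supp.mpr hy0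
        rw [hty', Finset.mem_insert, Finset.mem_singleton] at h'
        rw [h'.resolve_left hu, notMem_supp.mp hcon, zero_mul]
    rw [this] at hxy
    exact mul_ne_zero (mem_supp.mp htx) (pow_ne_zero _ hty) hxy
  exact three_in_two hF (by omega) (h2' r₁ m₁).le subset_rfl (hsame r₁ m₁ r₂ m₂ n12)
    (hsame r₁ m₁ r₃ m₃ n13) (by rw [O.h_cols hg', if_pos rfl]) (by rw [O.h_cols hg', if_pos rfl])
    (by rw [O.h_cols hg', if_pos rfl]) (by rw [O.h_cols hg', if_neg n12])
    (by rw [O.h_cols hg', if_neg n13]) (by rw [O.h_cols hg', if_neg n23])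

/-- Columns with at most four non-zero entries. -/
theorem Over.axis_of_small (hq3 : 3 ≤ q) {g : GL (Fin n) F} (hg : g ∈ M) (hgm : ¬ Mono g)
    {a : Fin n} (hs : (supp (act g (e a))).card ≤ 4) : HasAxis M := by
  classical
  have hdim := O.dim
  obtain ⟨r, hr, r', hr', hne⟩ := Finset.one_lt_card.mp
    (show 1 < (Finset.univ \ supp (act g (e a))).card by
      rw [Finset.card_univ_sdiff, Fintype.card_fin]; omega)
  have hz : ∀ s ∈ Finset.univ \ supp (act g (e a)), act g⁻¹ (e s) a = 0 := fun s hs => by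
    rw [O.inv_col hg, notMem_supp.mp (Finset.mem_sdiff.mp hs).2, zero_pow (q_ne_zero O.card)]
  rcases Nat.lt_trichotomy (supp (act g⁻¹ (e r))).card 2 with h | h | h
  · obtain ⟨p, hp⟩ := exists_axis_of_card a (Nat.le_of_lt_succ h)
    exact O.hasAxis_of_axis (inv_mem hg) (not_mono_inv hgm) hp
  · exact O.axis_of_two hq3 (inv_mem hg) (not_mono_inv hgm) h
  · exact O.axis_of_pair hq3 (inv_mem hg) hne (hz r hr) (hz r' hr') (Or.inl h)

/-- An entry zero gives an axis. -/
theorem Over.axis_of_zero (hq3 : 3 ≤ q) (hor : (2 : F) ≠ 0 ∨ ¬ q + 1 ∣ n) {g : GL (Fin n) F}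
    (hg : g ∈ M) (hgm : ¬ Mono g) {z a : Fin n} (h0 : act g (e a) z = 0) : HasAxis M := by
  classical
  have hq := q_ne_zero O.card
  have hdim := O.dim
  by_cases hs : (supp (act g (e a))).card ≤ 4
  · exact O.axis_of_small hq3 hg hgm hs
  by_cases htwo : ∃ b, b ≠ a ∧ act g (e b) z = 0
  · obtain ⟨b, hba, hb0⟩ := htwo
    exact O.axis_of_pair hq3 hg (Ne.symm hba) h0 hb0 (Or.inl (by omega))
  push Not at htwo
  by_cases hqn : q + 1 ∣ n
  swap
  · -- a scalar with one changed coordinate
    obtain ⟨ν, hν, hord⟩ := exists_circ_gen O.card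
    let τ := (ν ^ n)⁻¹
    have hτ : Circ q τ := (hν.pow n).inv
    have hτ1 : τ ≠ 1 := fun h => hqn (hord n (inv_eq_one.mp h))
    let f : Fin n → F := fun i => if i = a then τ * ν else ν
    have hf : ∀ i, Circ q (f i) := fun i => by simp only [f]; split_ifs; exacts [hτ.mul hν, hν]
    have hp : ∏ i, f i = 1 := by
      rw [Finset.prod_ite, Finset.prod_const, Finset.prod_const, Finset.filter_eq', if_pos
        (Finset.mem_univ a), Finset.filter_ne', Finset.card_singleton,
        Finset.card_erase_of_mem (Finset.mem_univ a), Finset.card_univ, Fintype.card_fin, pow_one,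
        mul_assoc, ← pow_succ', Nat.sub_add_cancel (by omega)]
      exact inv_mul_cancel₀ (pow_ne_zero _ hν.ne_zero)
    have hd : dg O.card f hf ∈ M := O.mono _ (dg_mem O.card f hf hp) (dg_mono O.card f hf)
    have hK : ∀ u, act (g * dg O.card f hf * g⁻¹) u = ν • u +
        ((τ - 1) * ν * hermForm n F q u (act g (e a))) • act g (e a) := by
      intro u
      obtain ⟨u', rfl⟩ : ∃ u', act g u' = u := ⟨act g⁻¹ u, act_act_inv g u⟩
      rw [act_mul, act_mul, act_inv_act, O.inj g hg, h_e_right O.card, ← act_smul, ← act_smul,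
        ← act_add]
      congr 1
      funext r
      rw [act_dg, Pi.add_apply, Pi.smul_apply, Pi.smul_apply, e_apply, smul_eq_mul, smul_eq_mul]
      simp only [f]
      split_ifs with h
      · subst h; ring
      · ring
    refine ⟨_, mul_mem (mul_mem hg hd) (inv_mem hg), fun hm => ?_, z, ν, ?_⟩
    · obtain ⟨c, hc⟩ := Finset.card_pos.mp (show 0 < (supp (act g (e a))).card by omega)
      obtain ⟨p, hp'⟩ := hm c
      obtain ⟨r, hr, hr'⟩ := Finset.exists_mem_notMem_of_card_lt_card (s := ({c, p} : Finset (Fin n)))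
        (t := supp (act g (e a))) (lt_of_le_of_lt Finset.card_le_two (by omega))
      rw [Finset.mem_insert, Finset.mem_singleton, not_or] at hr'
      have := hp' r hr'.2
      rw [hK, h_e_left O.card, Pi.add_apply, Pi.smul_apply, Pi.smul_apply, e_apply, if_neg hr'.1,
        smul_zero, zero_add, smul_eq_mul] at this
      exact mul_ne_zero (mul_ne_zero (mul_ne_zero (sub_ne_zero.mpr hτ1) hν.ne_zero)
        (pow_ne_zero _ (mem_supp.mp hc))) (mem_supp.mp hr) this
    · rw [hK, h_e_left O.card, h0, zero_pow hq, mul_zero, zero_smul, add_zero]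
  -- two equal norms in the row
  have hodd : (2 : F) ≠ 0 := hor.resolve_right (not_not.mpr hqn)
  have hqle := Nat.le_of_dvd (by omega) hqn
  obtain ⟨i, hi, j, hj, hij, hn'⟩ := Finset.exists_ne_map_eq_of_card_lt_of_maps_to
    (s := Finset.univ.erase a) (t := (reals q F).erase 0)
    (f := fun i => act g (e i) z * act g (e i) z ^ q) (by
      rw [Finset.card_erase_of_mem (Finset.mem_univ _), Finset.card_univ, Fintype.card_fin,
        Finset.card_erase_of_mem (mem_reals.mpr (zero_pow hq)), card_reals O.card]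
      omega) (fun i hi => by
      rw [Finset.mem_coe, Finset.mem_erase] at hi
      rw [Finset.mem_coe, Finset.mem_erase, mem_reals, mul_pow, pow_q_pow_q O.card, mul_comm]
      exact ⟨mul_ne_zero (htwo i hi.1) (pow_ne_zero _ (htwo i hi.1)), rfl⟩)
  rw [Finset.mem_erase] at hi hj
  set c := act g (e i) z / act g (e j) z with hc
  have hcc : Circ q c := circ_div_of_norm (htwo j hj.1) hn'
  let u : Fin n → F := e i - c • e j
  have hu : hermForm n F q u u = 2 := by
    simp only [u]
    rw [h_sub_left, h_sub_right O.card, h_sub_right O.card, h_smul_left, h_smul_left,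
      h_smul_right O.card, h_smul_right O.card]
    simp only [h_e_e O.card, if_pos, if_neg hij, if_neg (Ne.symm hij)]
    have := hcc
    unfold Circ at this
    linear_combination this
  have hue : hermForm n F q u (e a) = 0 := by
    simp only [u, h_sub_left, h_smul_left, h_e_e O.card, if_neg hi.1, if_neg hj.1, mul_zero, sub_zero]
  have c1 : (-1 : F) + (-1) ^ q + (-1) * (-1) ^ q * hermForm n F q u u = 0 := by
    rw [hu, H50.neg_pow_q O.card, one_pow]; ring
  have c2 : (-2 : F) + (-2) ^ q + (-2) * (-2) ^ q * hermForm n F q (e a) (e a) = 0 := by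
    rw [h_e_e O.card, if_pos rfl, show (-2 : F) = -1 + -1 by ring, H50.add_pow_q O.card,
      H50.neg_pow_q O.card, one_pow]
    ring
  have hδ : rf2 O.card u (e a) (-1) (-2) c1 c2 ∈ M := by
    refine O.mono _ (rf2_mem_SUGL O.card c1 c2 ?_) fun x => ?_
    · rw [hu, h_e_e O.card, if_pos rfl]; ring
    · refine ⟨Equiv.swap i j x, fun r hr => ?_⟩
      rw [act_rf2_e O.card hue]
      have hcc' := hcc
      unfold Circ at hcc'
      simp only [u, Pi.sub_apply, Pi.smul_apply, smul_eq_mul, e_apply]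
      by_cases hxi : x = i
      · subst hxi
        rw [Equiv.swap_apply_left] at hr
        by_cases hra : r = x
        · subst hra; simp [hij, hi.1]
        · simp [hra, hr, hi.1, hq, zero_pow]
      · by_cases hxj : x = j
        · subst hxj
          rw [Equiv.swap_apply_right] at hr
          by_cases hra : r = x
          · subst hra; simp [Ne.symm hij, hj.1, H50.neg_pow_q O.card]; linear_combination -hcc'
          · simp [hra, hr, hj.1, hq, zero_pow]
        · rw [Equiv.swap_apply_of_ne_of_ne hxi hxj] at hr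
          by_cases hxa : x = a
          · subst hxa; simp [hr, hxi, hxj, hq, zero_pow]
          · simp [hr, hxi, hxj, hxa, hq, zero_pow]
  have hK := mul_mem (mul_mem hg hδ) (inv_mem hg)
  rw [conj_rf2 O.card (O.le hg).1] at hK
  have hxa : hermForm n F q (act g u) (act g (e a)) = 0 := by rw [O.inj g hg, hue]
  refine ⟨_, hK, fun hm => ?_, z, 1, ?_⟩
  · exact hs (card_supp_le_four O.card hxa (by rw [O.h_cols hg, if_pos rfl]; exact one_ne_zero)
      (neg_ne_zero.mpr one_ne_zero) (neg_ne_zero.mpr hodd) hm)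
  rw [act_rf2 O.card hxa, h_e_left O.card, h_e_left O.card, h0, zero_pow hq, mul_zero, zero_smul,
    add_zero, one_smul]
  have : act g u z = 0 := by
    simp only [u, act_sub, act_smul, Pi.sub_apply, Pi.smul_apply, smul_eq_mul, hc]
    rw [div_mul_cancel₀ _ (htwo j hj.1), sub_self]
  rw [this, zero_pow hq, mul_zero, zero_smul, add_zero]

omit O in
/-- Two conics of norms meet away from zero. -/
theorem exists_pair_sums (hF : Fintype.card F = q ^ 2) {b c : F} (hb : b ≠ 0) (hc : c ≠ 0) :
    ∃ l m : F, Circ q l ∧ Circ q m ∧ b * (1 + l) ≠ 0 ∧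
      b * (1 + l) * (b * (1 + l)) ^ q = c * (1 + m) * (c * (1 + m)) ^ q := by
  classical
  have hcard := card_rng_real hF (a := (1 : F)) (b := 1) one_ne_zero one_ne_zero (by simp)
  have hsub : ∀ a : F, a ≠ 0 → ((rng q (1 : F) 1).image fun v => a * a ^ q * v) ⊆ reals q F :=
    fun a _ v hv => by
      obtain ⟨v', hv', rfl⟩ := Finset.mem_image.mp hv
      rw [mem_reals, mul_pow, mul_pow, H50.pow_q_pow_q hF,
        mem_reals.mp (rng_subset_reals hF _ _ hv')]
      ring
  have hci : ∀ a : F, a ≠ 0 → ((rng q (1 : F) 1).image fun v => a * a ^ q * v).card =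
      (rng q (1 : F) 1).card := fun a ha => Finset.card_image_of_injective _
        fun v w h => mul_left_cancel₀ (mul_ne_zero ha (pow_ne_zero _ ha)) h
  set B := (rng q (1 : F) 1).image fun v => b * b ^ q * v with hB
  set C := (rng q (1 : F) 1).image fun v => c * c ^ q * v with hC
  have hu : (B ∪ C).card ≤ q :=
    (Finset.card_le_card (Finset.union_subset (hsub b hb) (hsub c hc))).trans (card_reals hF).le
  have := Finset.card_union_add_card_inter B C
  rw [hB, hC, hci b hb, hci c hc] at this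
  rw [hB, hC] at hu
  obtain ⟨v, hv, hv0⟩ := Finset.exists_mem_ne (s := B ∩ C) (by rw [hB, hC]; omega) 0
  rw [Finset.mem_inter] at hv
  obtain ⟨v₁, hv₁, e₁⟩ := Finset.mem_image.mp hv.1
  obtain ⟨v₂, hv₂, e₂⟩ := Finset.mem_image.mp hv.2
  rw [mem_rng] at hv₁ hv₂
  obtain ⟨l, hl, hl'⟩ := hv₁
  obtain ⟨m, hm, hm'⟩ := hv₂
  refine ⟨l, m, hl, hm, fun h => hv0 ?_, ?_⟩
  · rw [← e₁, ← hl', mul_one, mul_mul_mul_comm, h, zero_mul]
  · rw [mul_one] at hl' hm'
    rw [mul_pow, mul_pow]
    linear_combination e₁ - e₂ + (b * b ^ q) * hl' - (c * c ^ q) * hm'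

omit O in
/-- Two of any three non-zero elements differ by a square. -/
theorem exists_square_ratio {ι : Type*} (u : ι → F) (hu : ∀ i, u i ≠ 0) {x y z : ι} (hxy : x ≠ y)
    (hxz : x ≠ z) (hyz : y ≠ z) : ∃ a b : ι, a ≠ b ∧ ∃ w, u b / u a = w * w := by
  classical
  have key : ∀ a b : ι, quadraticChar F (u a) = quadraticChar F (u b) → ∃ w, u b / u a = w * w := by
    intro a b h
    refine (quadraticChar_one_iff_isSquare (div_ne_zero (hu b) (hu a))).mp ?_
    have e : quadraticChar F (u b / u a) * quadraticChar F (u a) = quadraticChar F (u b) := by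
      rw [← map_mul, div_mul_cancel₀ _ (hu a)]
    rcases quadraticChar_dichotomy (hu a) with h' | h' <;> rw [← h, h'] at e <;> linarith
  rcases quadraticChar_dichotomy (hu x) with h1 | h1 <;>
    rcases quadraticChar_dichotomy (hu y) with h2 | h2 <;>
      rcases quadraticChar_dichotomy (hu z) with h3 | h3
  all_goals first
    | exact ⟨x, y, hxy, key x y (h1.trans h2.symm)⟩
    | exact ⟨x, z, hxz, key x z (h1.trans h3.symm)⟩
    | exact ⟨y, z, hyz, key y z (h2.trans h3.symm)⟩

/-- An element with a zero entry in dimension six. -/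
theorem Over.hasAxis_six (hn : n = 6) (hq3 : 3 ≤ q) : HasAxis M := by
  classical
  obtain ⟨g, hg, hgm⟩ := O.big
  have hF := O.card
  have hq := q_ne_zero hF
  have hor : (2 : F) ≠ 0 ∨ ¬ q + 1 ∣ n := by
    by_contra hcon
    push Not at hcon
    obtain ⟨h2, hd⟩ := hcon
    subst hn
    have hle := Nat.le_of_dvd (by norm_num) hd
    obtain rfl : q = 5 := by
      rcases (show q = 3 ∨ q = 4 ∨ q = 5 by omega) with rfl | rfl | rfl
      · norm_num at hd
      · norm_num at hd
      · rfl
    have h25 := FiniteField.cast_card_eq_zero F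
    rw [hF] at h25
    norm_num at h25
    exact one_ne_zero (α := F) (by linear_combination h25 - 12 * h2)
  by_cases hz : ∃ a z, act g (e a) z = 0
  · obtain ⟨a, z, h⟩ := hz
    exact O.axis_of_zero hq3 hor hg hgm h
  push Not at hz
  subst hn
  let z : Fin 6 := 0
  let u : Fin 6 → F := act g⁻¹ (e z)
  have hu : ∀ i, u i ≠ 0 := fun i => by
    show act g⁻¹ (e z) i ≠ 0
    rw [O.inv_col hg]; exact pow_ne_zero _ (hz i z)
  obtain ⟨i5, i6, h56, w₀, hw₀⟩ := exists_square_ratio u hu (x := (0 : Fin 6)) (y := 1) (z := 2)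
    (by decide) (by decide) (by decide)
  -- the other four
  have hR : (Finset.univ \ ({i5, i6} : Finset (Fin 6))).card = 4 := by
    rw [Finset.card_univ_sdiff, Fintype.card_fin, Finset.card_pair h56]
  obtain ⟨i1, hi1⟩ := Finset.card_pos.mp (show 0 < (Finset.univ \ ({i5, i6} : Finset (Fin 6))).card by omega)
  obtain ⟨i2, i3, i4, h23, h24, h34, h234⟩ := Finset.card_eq_three.mp
    (show ((Finset.univ \ ({i5, i6} : Finset (Fin 6))).erase i1).card = 3 by
      rw [Finset.card_erase_of_mem hi1]; omega)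
  have hmem : ∀ i ∈ ({i2, i3, i4} : Finset (Fin 6)), i ≠ i1 ∧ i ≠ i5 ∧ i ≠ i6 := fun i hi => by
    rw [← h234] at hi
    simpa [Finset.mem_erase, Finset.mem_sdiff] using hi
  obtain ⟨h21, h25, h26⟩ := hmem i2 (by simp)
  obtain ⟨h31, h35, h36⟩ := hmem i3 (by simp)
  obtain ⟨h41, h45, h46⟩ := hmem i4 (by simp)
  obtain ⟨h15, h16⟩ : i1 ≠ i5 ∧ i1 ≠ i6 := by simpa [Finset.mem_sdiff] using hi1
  have huniv : (Finset.univ : Finset (Fin 6)) = {i1, i2, i3, i4, i5, i6} := by
    refine (Finset.eq_univ_of_card _ ?_).symm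
    rw [Finset.card_insert_of_notMem (by simp [h21.symm, h31.symm, h41.symm, h15, h16]),
      Finset.card_insert_of_notMem (by simp [h23, h24, h25, h26]),
      Finset.card_insert_of_notMem (by simp [h34, h35, h36]),
      Finset.card_insert_of_notMem (by simp [h45, h46]), Finset.card_pair h56, Fintype.card_fin]
  have hsum6 : ∀ φ : Fin 6 → F, ∑ r, φ r = φ i1 + φ i2 + φ i3 + φ i4 + φ i5 + φ i6 := fun φ => by
    rw [huniv, Finset.sum_insert (by simp [h21.symm, h31.symm, h41.symm, h15, h16]),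
      Finset.sum_insert (by simp [h23, h24, h25, h26]),
      Finset.sum_insert (by simp [h34, h35, h36]),
      Finset.sum_insert (by simp [h45, h46]), Finset.sum_pair h56]
    ring
  have hprod6 : ∀ φ : Fin 6 → F, ∏ r, φ r = φ i1 * φ i2 * φ i3 * φ i4 * φ i5 * φ i6 := fun φ => by
    rw [huniv, Finset.prod_insert (by simp [h21.symm, h31.symm, h41.symm, h15, h16]),
      Finset.prod_insert (by simp [h23, h24, h25, h26]),
      Finset.prod_insert (by simp [h34, h35, h36]),
      Finset.prod_insert (by simp [h45, h46]), Finset.prod_pair h56]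
    ring
  -- the permutation and the coefficients
  let π : Equiv.Perm (Fin 6) := Equiv.swap i1 i2 * Equiv.swap i3 i4 * Equiv.swap i5 i6
  have p1 : π i1 = i2 := by simp [π, Equiv.swap_apply_of_ne_of_ne, h31.symm, h41.symm, h15, h16]
  have p2 : π i2 = i1 := by simp [π, Equiv.swap_apply_of_ne_of_ne, h23, h24, h25, h26]
  have p3 : π i3 = i4 := by
    simp [π, Equiv.swap_apply_of_ne_of_ne, h35, h36, h41, h24.symm]
  have p4 : π i4 = i3 := by
    simp [π, Equiv.swap_apply_of_ne_of_ne, h45, h46, h31, h23.symm]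
  have p5 : π i5 = i6 := by
    simp [π, Equiv.swap_apply_of_ne_of_ne, h36.symm, h46.symm, h16.symm, h26.symm]
  have p6 : π i6 = i5 := by
    simp [π, Equiv.swap_apply_of_ne_of_ne, h35.symm, h45.symm, h15.symm, h25.symm]
  have hsign : ((Equiv.Perm.sign π : ℤ) : F) = -1 := by
    simp [π, Equiv.Perm.sign_swap h21.symm, Equiv.Perm.sign_swap h34, Equiv.Perm.sign_swap h56]
  let B : Fin 6 → F := fun r => u (π r) * u r ^ q
  have hB0 : ∀ r, B r ≠ 0 := fun r => mul_ne_zero (hu _) (pow_ne_zero _ (hu _))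
  have hNB : ∀ r r', π r = r' → π r' = r → B r * B r ^ q = B r' * B r' ^ q := fun r r' h h' => by
    simp only [B, h, h', mul_pow, pow_q_pow_q hF]; ring
  obtain ⟨l, m, hl, hm, hw, hN⟩ := exists_pair_sums hF (hB0 i1) (hB0 i3)
  set w := B i1 * (1 + l) with hwdef
  set w' := B i3 * (1 + m) with hwdef'
  have hw' : w' ≠ 0 := fun h => by
    rw [h, zero_mul] at hN
    exact mul_ne_zero hw (pow_ne_zero _ hw) hN
  set ν := -1 * (w / w') with hνdef
  have hν : Circ q ν := (circ_neg_one hF).mul (circ_div_of_norm hw' hN)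
  have hw0 : w₀ ≠ 0 := fun h => by
    rw [h, zero_mul] at hw₀; exact div_ne_zero (hu i6) (hu i5) hw₀
  set γ := w₀ / w₀ ^ q with hγdef
  have hγ : Circ q γ := circ_div_of_norm (pow_ne_zero _ hw0) (by rw [pow_q_pow_q hF]; ring)
  set W := w / w ^ q with hWdef
  have hW : Circ q W := circ_div_of_norm (pow_ne_zero _ hw) (by rw [pow_q_pow_q hF]; ring)
  set l5 := (γ * W)⁻¹ with hl5def
  have hl5 : Circ q l5 := (hγ.mul hW).inv
  let f : Fin 6 → F := fun r => if r = i1 then 1 else if r = i2 then l * (B i1 / B i2)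
    else if r = i3 then ν else if r = i4 then ν * m * (B i3 / B i4)
    else if r = i5 then l5 else -1 * l5 * (B i5 / B i6)
  have hf : ∀ r, Circ q (f r) := fun r => by
    simp only [f]
    split_ifs
    exacts [Circ.one, hl.mul (circ_div_of_norm (hB0 _) (hNB i1 i2 p1 p2)), hν,
      (hν.mul hm).mul (circ_div_of_norm (hB0 _) (hNB i3 i4 p3 p4)), hl5,
      ((circ_neg_one hF).mul hl5).mul (circ_div_of_norm (hB0 _) (hNB i5 i6 p5 p6))]
  have f1 : f i1 = 1 := if_pos rfl
  have f2 : f i2 = l * (B i1 / B i2) := by simp [f, h21]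
  have f3 : f i3 = ν := by simp [f, h31, h23.symm]
  have f4 : f i4 = ν * m * (B i3 / B i4) := by simp [f, h41, h24.symm, h34.symm]
  have f5 : f i5 = l5 := by simp [f, h15.symm, h25.symm, h35.symm, h45.symm]
  have f6 : f i6 = -1 * l5 * (B i5 / B i6) := by
    simp [f, h16.symm, h26.symm, h36.symm, h46.symm, h56.symm]
  have hνw : ν * w' = -w := by
    rw [hνdef, mul_assoc, div_mul_cancel₀ _ hw', neg_one_mul]
  have e2 : f i2 * B i2 = l * B i1 := by rw [f2, mul_assoc, div_mul_cancel₀ _ (hB0 _)]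
  have e4 : f i4 * B i4 = ν * m * B i3 := by rw [f4, mul_assoc, div_mul_cancel₀ _ (hB0 _)]
  have e6 : f i6 * B i6 = -1 * l5 * B i5 := by rw [f6, mul_assoc, div_mul_cancel₀ _ (hB0 _)]
  have hsum : f i1 * B i1 + f i2 * B i2 + f i3 * B i3 + f i4 * B i4 = 0 ∧
      f i5 * B i5 + f i6 * B i6 = 0 := by
    rw [e2, e4, e6, f1, f3, f5]
    exact ⟨by simp only [hwdef, hwdef'] at hνw; linear_combination hνw, by ring⟩
  -- the determinant
  have hlB : ∀ (r r' : Fin 6) (x : F), π r = r' → π r' = r → Circ q x → B r * (1 + x) ≠ 0 →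
      x * (B r / B r') = B r * (1 + x) / (B r * (1 + x)) ^ q := fun r r' x h h' hx hne => by
    have hBq : B r ^ q = B r' := by simp only [B, h, h', mul_pow, pow_q_pow_q hF]; ring
    have hx' : x * x ^ q = 1 := hx
    rw [← mul_div_assoc, div_eq_div_iff (hB0 r') (pow_ne_zero _ hne)]
    rw [mul_pow, hBq, H50.add_pow_q hF, one_pow]
    linear_combination (B r * B r') * hx'
  have g2 : f i2 = W := by rw [f2, hlB i1 i2 l p1 p2 hl hw]
  have g4 : f i3 * f i4 = W := by
    rw [f3, f4, show ν * (ν * m * (B i3 / B i4)) = ν * ν * (m * (B i3 / B i4)) by ring,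
      hlB i3 i4 m p3 p4 hm hw', ← hwdef', hWdef, show w = -(ν * w') by rw [hνw, neg_neg],
      H50.neg_pow_q hF, neg_div_neg_eq, mul_pow ν w' q, hν.pow_q]
    field_simp [hν.ne_zero, pow_ne_zero q hw']
  have g6 : B i5 / B i6 = γ * γ := by
    have h6 : u i6 = w₀ * w₀ * u i5 := by rw [← hw₀, div_mul_cancel₀ _ (hu i5)]
    rw [hγdef]
    simp only [B, p5, p6, h6, mul_pow]
    field_simp [hu i5]
  have hfp : ∏ r, f r = -1 := by
    rw [hprod6, f1, g2, mul_assoc (1 * W) (f i3), g4, f5, f6, g6]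
    have h1 : l5 * (γ * W) = 1 := inv_mul_cancel₀ (mul_ne_zero hγ.ne_zero hW.ne_zero)
    linear_combination (-(l5 * (γ * W) + 1)) * h1
  -- a second solution differing by a two-valued diagonal element
  obtain ⟨κ, hκ, hord⟩ := exists_circ_gen hF
  let ε : Fin 6 → F := fun r => if r = i5 ∨ r = i6 then κ ^ 2 else κ⁻¹
  have hε : ∀ r, Circ q (ε r) := fun r => by simp only [ε]; split_ifs; exacts [hκ.pow 2, hκ.inv]
  have hεv : ε i1 = κ⁻¹ ∧ ε i2 = κ⁻¹ ∧ ε i3 = κ⁻¹ ∧ ε i4 = κ⁻¹ ∧ ε i5 = κ ^ 2 ∧ ε i6 = κ ^ 2 := by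
    simp [ε, h15, h16, h25, h26, h35, h36, h45, h46]
  have hεp : ∏ r, ε r = 1 := by
    rw [hprod6, hεv.1, hεv.2.1, hεv.2.2.1, hεv.2.2.2.1, hεv.2.2.2.2.1, hεv.2.2.2.2.2]
    field_simp [hκ.ne_zero]
  have hPM : ∀ f' : Fin 6 → F, ∀ hf' : ∀ r, Circ q (f' r), ∏ r, f' r = -1 →
      dg hF f' hf' * prm hF π ∈ M := fun f' hf' hp => by
    refine O.mono _ (mem_SUGL.mpr ⟨fun x y => ?_, ?_⟩)
      (Mono.mul (dg_mono hF _ _) fun c => ⟨π.symm c, fun r hr => ?_⟩)
    · exact (Subgroup.mul_mem _ (gl_mem hF _ _) (gl_mem hF _ _) :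
        dg hF f' hf' * prm hF π ∈ GU 6 F q) x y
    · change ((Matrix.diagonal f') * π.permMatrix F).det = 1
      rw [Matrix.det_mul, Matrix.det_diagonal, Matrix.det_permutation, hp]
      simp [hsign]
    · rw [act_prm, e_apply, if_neg fun h => hr (π.eq_symm_apply.mpr h)]
  have hzero : ∀ f' : Fin 6 → F, ∀ hf' : ∀ r, Circ q (f' r), (∑ r, f' r * B r = 0) →
      act (g * (dg hF f' hf' * prm hF π) * g⁻¹) (e z) z = 0 := fun f' hf' hs => by
    rw [← h_e_right hF (act _ _) z, act_mul, act_mul]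
    conv_lhs => arg 5; rw [← act_act_inv g (e z)]
    rw [O.inj g hg, hermForm, ← hs]
    refine Finset.sum_congr rfl fun r _ => ?_
    rw [act_mul, act_dg, act_prm]
    simp only [B, u]
    ring
  have hf' : ∀ r, Circ q (ε r * f r) := fun r => (hε r).mul (hf r)
  have z1 := hzero f hf (by rw [hsum6]; linear_combination hsum.1 + hsum.2)
  have z2 := hzero (fun r => ε r * f r) hf' (by
    rw [hsum6, hεv.1, hεv.2.1, hεv.2.2.1, hεv.2.2.2.1, hεv.2.2.2.2.1, hεv.2.2.2.2.2]
    linear_combination κ⁻¹ * hsum.1 + κ ^ 2 * hsum.2)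
  have m1 := mul_mem (mul_mem hg (hPM f hf hfp)) (inv_mem hg)
  have m2 := mul_mem (mul_mem hg (hPM _ hf' (by rw [Finset.prod_mul_distrib, hεp, hfp, one_mul])))
    (inv_mem hg)
  by_contra hno
  have n1 : Mono (g * (dg hF f hf * prm hF π) * g⁻¹) := by
    by_contra h; exact hno (O.axis_of_zero hq3 hor m1 h z1)
  have n2 : Mono (g * (dg hF (fun r => ε r * f r) hf' * prm hF π) * g⁻¹) := by
    by_contra h; exact hno (O.axis_of_zero hq3 hor m2 h z2)
  have n1' : Mono (g * (dg hF f hf * prm hF π) * g⁻¹)⁻¹ := by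
    by_contra h
    exact not_mono_inv h (by rwa [inv_inv])
  have hE : Mono (g * dg hF ε hε * g⁻¹) := by
    have hmul : dg hF ε hε * dg hF f hf = dg hF (fun r => ε r * f r) hf' :=
      gl_ext fun v => by funext i; rw [act_mul, act_dg, act_dg, act_dg, mul_assoc]
    have : g * dg hF ε hε * g⁻¹ = g * (dg hF (fun r => ε r * f r) hf' * prm hF π) * g⁻¹ *
        (g * (dg hF f hf * prm hF π) * g⁻¹)⁻¹ := by
      rw [← hmul]; group
    rw [this]
    exact n2.mul n1'
  -- but it is a scalar times a product of two reflections with full centres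
  set x := act g (e i5)
  set y := act g (e i6)
  have hxx : hermForm 6 F q x x = 1 := by simp only [x]; rw [O.h_cols hg, if_pos rfl]
  have hyy : hermForm 6 F q y y = 1 := by simp only [y]; rw [O.h_cols hg, if_pos rfl]
  have hxy : hermForm 6 F q x y = 0 := by simp only [x, y]; rw [O.h_cols hg, if_neg h56]
  have h3 : κ ^ 3 - 1 ≠ 0 := sub_ne_zero.mpr fun h => by
    have := Nat.le_of_dvd (by norm_num) (hord 3 h); omega
  have hrel : ∀ v, act (g * dg hF ε hε * g⁻¹) v = κ⁻¹ • act (rf2 hF x y (κ ^ 3 - 1) (κ ^ 3 - 1)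
      (refl_cond hF hxx (hκ.pow 3)) (refl_cond hF hyy (hκ.pow 3))) v := fun v => by
    rw [act_rf2 hF hxy]
    obtain ⟨v', rfl⟩ : ∃ v', act g v' = v := ⟨act g⁻¹ v, act_act_inv g v⟩
    simp only [x, y]
    rw [act_mul, act_mul, act_inv_act, O.inj g hg, O.inj g hg, h_e_right hF, h_e_right hF,
      ← act_smul, ← act_smul, ← act_add, ← act_add, ← act_smul]
    congr 1
    funext r
    have hk : κ⁻¹ * κ = 1 := inv_mul_cancel₀ hκ.ne_zero
    simp only [act_dg, Pi.smul_apply, Pi.add_apply, smul_eq_mul, e_apply, ε]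
    by_cases h5 : r = i5
    · subst h5; simp only [true_or, if_pos, if_neg h56]; linear_combination -(κ ^ 2 * v' r) * hk
    · by_cases h6 : r = i6
      · subst h6; simp only [or_true, if_pos, if_neg h56.symm]
        linear_combination -(κ ^ 2 * v' r) * hk
      · simp only [h5, h6, or_self, if_false]; ring
  have := card_supp_le_four hF hxy (by rw [hyy]; exact one_ne_zero) h3 h3 (fun c => by
    obtain ⟨p, hp⟩ := hE c
    refine ⟨p, fun r hr => ?_⟩
    have h' := hp r hr
    rw [hrel, Pi.smul_apply, smul_eq_mul] at h'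
    exact (mul_eq_zero.mp h').resolve_left (inv_ne_zero hκ.ne_zero))
  have hfull : supp y = Finset.univ := Finset.eq_univ_iff_forall.mpr fun r => mem_supp.mpr (hz i6 r)
  rw [hfull, Finset.card_univ, Fintype.card_fin] at this
  omega

/-- In characteristic two, an element fixing a coordinate line gives a transvection. -/
theorem Over.exists_root_axis (h2 : (2 : F) = 0) (hq3 : 3 ≤ q) (hA : HasAxis M) :
    ∃ y z, One q M y 1 ∧ 3 ≤ (supp y).card ∧ y z = 0 := by
  classical
  obtain ⟨K, hK, hKm, z, s, hzs⟩ := hA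
  have hF := O.card
  have hq := q_ne_zero hF
  have hdim := O.dim
  have h11 : (1 : F) + 1 = 0 := by rw [← h2]; norm_num
  have hroot : ∀ a b : Fin n, a ≠ b → ∀ l : F, Circ q l → One q M (e a + l • e b) 1 := by
    intro a b hab l hl
    have hl' : l * l ^ q = 1 := hl
    have hv : hermForm n F q (e a + l • e b) (e a + l • e b) = 0 := by
      rw [h_add_left, h_add_right hF, h_add_right hF, h_smul_left, h_smul_left,
        h_smul_right hF, h_smul_right hF]
      simp only [h_e_e hF, if_pos, if_neg hab, if_neg (Ne.symm hab)]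
      linear_combination hl' + h11
    have hc : (1 : F) + 1 ^ q = 0 := by rw [one_pow]; exact h11
    refine ⟨hv, hc, O.mono _ (utv_mem hF _ hv hc) fun x => ⟨Equiv.swap a b x, fun r hr => ?_⟩⟩
    rw [act_utv, one_mul, h_e_left hF]
    simp only [Pi.add_apply, Pi.smul_apply, smul_eq_mul, e_apply]
    by_cases hxa : x = a
    · subst hxa
      rw [Equiv.swap_apply_left] at hr
      by_cases hra : r = x
      · subst hra; simp [hab, h11]
      · simp [hra, hr, hab]
    · by_cases hxb : x = b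
      · subst hxb
        rw [Equiv.swap_apply_right] at hr
        by_cases hra : r = x
        · subst hra; simp [Ne.symm hab]; linear_combination hl' + h11
        · simp [hra, hr, Ne.symm hab]
      · rw [Equiv.swap_apply_of_ne_of_ne hxa hxb] at hr
        simp [hr, hxa, hxb, hq, zero_pow]
  obtain ⟨c, hc⟩ : ∃ c, 2 ≤ (supp (act K (e c))).card := by
    by_contra hcon
    push Not at hcon
    exact hKm fun c => exists_axis_of_card c (Nat.le_of_lt_succ (hcon c))
  have hs0 : s ≠ 0 := fun h => by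
    rw [h, zero_smul, ← act_zero K] at hzs
    have := congrFun (act_injective K hzs) z
    simp [e_apply] at this
  have hcol : ∀ d, d ≠ z → act K (e d) z = 0 := fun d hd => by
    have := O.h_cols hK d z
    rw [if_neg hd, hzs, h_smul_right hF, h_e_right hF, mul_eq_zero] at this
    exact this.resolve_left (pow_ne_zero _ hs0)
  have hcz : c ≠ z := fun e' => by
    rw [e', hzs] at hc
    have : supp (s • (e z : Fin n → F)) ⊆ {z} := fun r hr => by
      rw [mem_supp] at hr
      rw [Finset.mem_singleton]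
      by_contra hne
      exact hr (by simp [e_apply, hne])
    have := Finset.card_le_card this
    rw [Finset.card_singleton] at this
    omega
  set x := act K (e c) with hx
  obtain ⟨b, hbz, hbc, hU⟩ : ∃ b, b ≠ z ∧ b ≠ c ∧ 3 ≤ (supp x ∪ supp (act K (e b))).card := by
    by_contra hcon
    push Not at hcon
    obtain ⟨b₁, hb₁, b₂, hb₂, hne⟩ := Finset.one_lt_card.mp
      (show 1 < ((Finset.univ.erase z).erase c).card by
        rw [Finset.card_erase_of_mem (Finset.mem_erase.mpr ⟨hcz, Finset.mem_univ _⟩),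
          Finset.card_erase_of_mem (Finset.mem_univ _), Finset.card_univ, Fintype.card_fin]
        omega)
    simp only [Finset.mem_erase, Finset.mem_univ, and_true] at hb₁ hb₂
    have hsub : ∀ b, b ≠ z → b ≠ c →
        (supp x).card ≤ 2 ∧ supp (act K (e b)) ⊆ supp x := fun b h1 h2' => by
      have h := Nat.le_of_lt_succ (hcon b h1 h2')
      refine ⟨(Finset.card_le_card Finset.subset_union_left).trans h, ?_⟩
      rw [Finset.eq_of_subset_of_card_le (Finset.subset_union_left :
        supp x ⊆ supp x ∪ supp (act K (e b))) (h.trans hc)]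
      exact Finset.subset_union_right
    refine three_in_two hF (by omega) (hsub b₁ hb₁.2 hb₁.1).1 subset_rfl
      (hsub b₁ hb₁.2 hb₁.1).2 (hsub b₂ hb₂.2 hb₂.1).2 (by rw [hx, O.h_cols hK, if_pos rfl])
      (by rw [O.h_cols hK, if_pos rfl]) (by rw [O.h_cols hK, if_pos rfl])
      (by rw [hx, O.h_cols hK, if_neg (Ne.symm hb₁.1)])
      (by rw [hx, O.h_cols hK, if_neg (Ne.symm hb₂.1)]) (by rw [O.h_cols hK, if_neg hne])
  set w := act K (e b) with hw
  suffices ∃ l, Circ q l ∧ 3 ≤ (supp (x + l • w)).card by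
    obtain ⟨l, hl, h3⟩ := this
    refine ⟨_, z, O.one_act hK (hroot c b (Ne.symm hbc) l hl), ?_, ?_⟩
    · rwa [act_add, act_smul]
    · rw [act_add, act_smul, Pi.add_apply, Pi.smul_apply, hcol c hcz, hcol b hbz, smul_zero, add_zero]
  by_contra hcon
  push Not at hcon
  set U := supp x ∪ supp w
  have hle : ∀ l ∈ circles q F, U.card ≤ 2 + (U.filter fun r => x r + l * w r = 0).card := by
    intro l hl
    have h := Finset.card_filter_add_card_filter_not (s := U) (fun r => x r + l * w r = 0)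
    have h' := Finset.card_le_card (s := U.filter fun r => ¬ x r + l * w r = 0)
      (t := supp (x + l • w)) fun r hr => mem_supp.mpr (by simpa using (Finset.mem_filter.mp hr).2)
    have := hcon l (mem_circles.mp hl)
    omega
  have hd : ∑ l ∈ circles q F, (U.filter fun r => x r + l * w r = 0).card ≤ U.card := by
    rw [← Finset.card_biUnion]
    · exact Finset.card_le_card fun r hr => by
        rw [Finset.mem_biUnion] at hr
        obtain ⟨l, -, hr⟩ := hr
        exact (Finset.mem_filter.mp hr).1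
    · intro l hl m hm hlm
      refine Finset.disjoint_left.mpr fun r hr hr' => hlm ?_
      simp only [Finset.mem_filter, U, Finset.mem_union, mem_supp] at hr hr'
      have hwr : w r ≠ 0 := fun h0 => by
        have := hr.2
        rw [h0, mul_zero, add_zero] at this
        exact hr.1.elim (fun h => h this) fun h => h h0
      exact mul_right_cancel₀ hwr (by linear_combination hr.2 - hr'.2)
  have hsum := Finset.sum_le_sum hle
  rw [Finset.sum_const, Finset.sum_add_distrib, Finset.sum_const, card_circles hF, smul_eq_mul,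
    smul_eq_mul] at hsum
  nlinarith [hsum, hd, hU, hq3]

end H41.UDec
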