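import Cfsg.Agent.H41.UDec.FrameRoot

/-! Odd characteristic: from an element fixing a coordinate line to a transvection. -/

set_option autoImplicit false
set_option linter.unusedSectionVars false

namespace H41.UDec

open Matrix Cfsg Cfsg.Geo H45 H50

variable {F : Type*} [Field F] [Fintype F] {n q : ℕ}

/-- The reflection with centre `x`, compensated at `e z`, lies in `M`. -/
def IsRef (q : ℕ) (hF : Fintype.card F = q ^ 2) (M : Subgroup (GL (Fin n) F)) (z : Fin n) (κ : F)
    (x : Fin n → F) : Prop :=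
  hermForm n F q x x = 1 ∧ x z = 0 ∧
    ∃ h h', rf2 hF x (e z) (κ - 1) (κ⁻¹ - 1) h h' ∈ M

theorem rf2_scale {hF : Fintype.card F = q ^ 2} {x y : Fin n → F} {α β s : F} {h h'}
    (hs : Circ q s) (g) : rf2 hF x (s • y) α β h g = rf2 hF x y α β h h' := by
  unfold rf2
  congr 1
  refine gl_ext fun v => ?_
  rw [act_rf, act_rf, h_smul_right hF, smul_smul]
  congr 2
  have hs' : s * s ^ q = 1 := hs
  linear_combination (β * hermForm n F q v y) * hs'

variable {M : Subgroup (GL (Fin n) F)} (O : Over q M)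
include O

/-- A reflection with at least three non-zero coordinates. -/
theorem Over.exists_ref (h : HasAxis M) {κ : F} (hκ : Circ q κ) (hκ2 : κ * κ ≠ 1) :
    ∃ z x, IsRef q O.card M z κ x ∧ 3 ≤ (supp x).card := by
  classical
  obtain ⟨K, hK, hKm, z, s, hz⟩ := h
  have hdim := O.dim
  have hs : Circ q s := by
    have := O.h_cols hK z z
    rw [if_pos rfl, hz, h_smul_left, h_smul_right O.card, h_e_e O.card, if_pos rfl, mul_one] at this
    exact this
  obtain ⟨c, hc⟩ : ∃ c, 2 ≤ (supp (act K (e c))).card := by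
    by_contra hcon
    push Not at hcon
    refine hKm fun c => ?_
    rcases (supp (act K (e c))).eq_empty_or_nonempty with he | ⟨p, hp⟩
    · exact ⟨c, fun r _ => notMem_supp.mp (by rw [he]; simp)⟩
    · refine ⟨p, fun r hr => notMem_supp.mp fun hr' => ?_⟩
      have := Finset.one_lt_card.mpr ⟨r, hr', p, hp, hr⟩
      have := hcon c
      omega
  have hcz : c ≠ z := fun e' => by
    rw [e', hz] at hc
    have : supp (s • (e z : Fin n → F)) ⊆ {z} := fun r hr => by
      rw [mem_supp] at hr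
      rw [Finset.mem_singleton]
      by_contra hne
      exact hr (by simp [e_apply, hne])
    have := Finset.card_le_card this
    rw [Finset.card_singleton] at this
    omega
  have hxz : act K (e c) z = 0 := by
    have := O.h_cols hK c z
    rw [if_neg hcz, hz, h_smul_right O.card, h_e_right O.card, mul_eq_zero] at this
    exact this.resolve_left (pow_ne_zero _ hs.ne_zero)
  set x := act K (e c) with hx
  have hxx : hermForm n F q x x = 1 := by rw [hx, O.h_cols hK, if_pos rfl]
  have hR : IsRef q O.card M z κ x := by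
    obtain ⟨h1, h2, hmem⟩ := O.conj_pair_mem hK hκ hcz
    refine ⟨hxx, hxz, h1, refl_cond O.card (by rw [h_e_e O.card, if_pos rfl]) hκ.inv, ?_⟩
    simp only [hz] at hmem
    rwa [rf2_scale hs] at hmem
  by_cases h3 : 3 ≤ (supp x).card
  · exact ⟨z, x, hR, h3⟩
  obtain ⟨i, j, hij, hS⟩ := Finset.card_eq_two.mp (show (supp x).card = 2 by omega)
  have hxi : x i ≠ 0 := by rw [← mem_supp, hS]; simp
  have hxj : x j ≠ 0 := by rw [← mem_supp, hS]; simp
  have hoff : ∀ r, r ≠ i → r ≠ j → x r = 0 := fun r h1 h2 => by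
    rw [← notMem_supp, hS]; simp [h1, h2]
  have hiz : i ≠ z := fun e' => hxi (e' ▸ hxz)
  have hjz : j ≠ z := fun e' => hxj (e' ▸ hxz)
  obtain ⟨l, -, hl⟩ := Finset.exists_mem_notMem_of_card_lt_card (s := ({i, j, z} : Finset (Fin n)))
    (t := (Finset.univ : Finset (Fin n)))
    (lt_of_le_of_lt Finset.card_le_three (by rw [Finset.card_univ, Fintype.card_fin]; omega))
  obtain ⟨w, -, hw⟩ := Finset.exists_mem_notMem_of_card_lt_card (s := ({i, j, l, z} : Finset (Fin n)))
    (t := (Finset.univ : Finset (Fin n)))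
    (lt_of_le_of_lt Finset.card_le_four (by rw [Finset.card_univ, Fintype.card_fin]; omega))
  simp only [Finset.mem_insert, Finset.mem_singleton, not_or] at hl hw
  let π : Equiv.Perm (Fin n) := Equiv.swap i j * Equiv.swap j l
  have hπl : π l = i := by simp [π]
  have hπj : π j = l := by
    simp only [π, Equiv.Perm.mul_apply, Equiv.swap_apply_left]
    exact Equiv.swap_apply_of_ne_of_ne hl.1 hl.2.1
  have hπi : π i = j := by
    simp [π, Equiv.swap_apply_of_ne_of_ne hij (Ne.symm hl.1)]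
  have hπo : ∀ r, r ≠ i → r ≠ j → r ≠ l → π r = r := fun r h1 h2 h3 => by
    simp [π, Equiv.swap_apply_of_ne_of_ne h2 h3, Equiv.swap_apply_of_ne_of_ne h1 h2]
  set P := sprm O.card π w with hP
  have hPM : P ∈ M := O.mono _ (sprm_mem O.card _ _) (sprm_mono O.card _ _)
  have hPe : act P (e z) = e z := by
    funext r
    rw [hP, act_sprm, e_apply, e_apply]
    by_cases hr : r = z
    · subst hr
      rw [hπo r (Ne.symm hiz) (Ne.symm hjz) (Ne.symm hl.2.2), if_pos rfl, mul_one,
        if_neg (Ne.symm hw.2.2.2)]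
    · rw [if_neg hr, if_neg (c := π r = z), mul_zero]
      intro h
      exact hr (π.injective (h.trans (hπo z (Ne.symm hiz) (Ne.symm hjz) (Ne.symm hl.2.2)).symm))
  obtain ⟨-, -, hc1, hc2, hmem⟩ := hR
  have hx' : act P x z = 0 := by
    rw [hP, act_sprm, hπo z (Ne.symm hiz) (Ne.symm hjz) (Ne.symm hl.2.2), hxz, mul_zero]
  have hmem' : ∃ a b, rf2 O.card (act P x) (e z) (κ - 1) (κ⁻¹ - 1) a b ∈ M := by
    have := mul_mem (mul_mem hPM hmem) (inv_mem hPM)
    rw [conj_rf2 O.card (O.le hPM).1] at this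
    simp only [hPe] at this
    exact ⟨_, _, this⟩
  obtain ⟨a1, b1, hmem'⟩ := hmem'
  set R := rf2 O.card x (e z) (κ - 1) (κ⁻¹ - 1) hc1 hc2 with hRdef
  have hxe : hermForm n F q x (e z) = 0 := by rw [h_e_right O.card, hxz]
  have hRz : act R (e z) = κ⁻¹ • (e z : Fin n → F) := by
    rw [hRdef, act_rf2 O.card hxe, h_e_left O.card, hxz, zero_pow (q_ne_zero O.card), mul_zero,
      zero_smul, add_zero, h_e_e O.card, if_pos rfl, mul_one, sub_smul, one_smul, add_sub_cancel]
  set y := act R (act P x) with hy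
  have hyf : y = act P x + ((κ - 1) * hermForm n F q (act P x) x) • x := by
    rw [hy, hRdef, act_rf2 O.card hxe, h_e_right O.card, hx', mul_zero, zero_smul, add_zero]
  have hyR : IsRef q O.card M z κ y := by
    refine ⟨by rw [hy, O.inj R hmem, O.inj P hPM, hxx], ?_, ?_⟩
    · rw [hyf, Pi.add_apply, Pi.smul_apply, hx', hxz, smul_zero, add_zero]
    · have := mul_mem (mul_mem hmem hmem') (inv_mem hmem)
      rw [conj_rf2 O.card (O.le hmem).1] at this
      simp only [hRz] at this
      rw [rf2_scale hκ.inv] at this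
      · exact ⟨_, _, this⟩
      · exact refl_cond O.card (by rw [h_e_e O.card, if_pos rfl]) hκ.inv
  refine ⟨z, y, hyR, ?_⟩
  have hv : ∀ r, r ≠ w → act P x r = x (π r) := fun r hr => by rw [hP, act_sprm, if_neg hr, one_mul]
  have hh : hermForm n F q (act P x) x = x j * x i ^ q := by
    rw [hermForm, Finset.sum_eq_single i]
    · rw [hv i (Ne.symm hw.1), hπi]
    · intro r _ hr
      by_cases hrj : r = j
      · rw [hrj, hv j (Ne.symm hw.2.1), hπj, hoff l hl.1 hl.2.1, zero_mul]
      · rw [hoff r hr hrj, zero_pow (q_ne_zero O.card), mul_zero]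
    · simp
  have hα : κ - 1 ≠ 0 := sub_ne_zero.mpr fun e' => hκ2 (by rw [e', mul_one])
  refine le_trans (le_of_eq ?_) (Finset.card_le_card (s := ({i, j, l} : Finset (Fin n))) fun r hr => ?_)
  · rw [Finset.card_insert_of_notMem, Finset.card_pair (Ne.symm hl.2.1)]
    simp [hij, Ne.symm hl.1]
  rw [mem_supp, hyf, Pi.add_apply, Pi.smul_apply, smul_eq_mul, hh]
  rw [Finset.mem_insert, Finset.mem_insert, Finset.mem_singleton] at hr
  rcases hr with rfl | rfl | rfl
  · rw [hv r (Ne.symm hw.1), hπi]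
    have e1 : x j + (κ - 1) * (x j * x r ^ q) * x r = x j * (1 + (κ - 1) * nc q x r) := by
      rw [nc]; ring
    rw [e1]
    refine mul_ne_zero hxj fun h0 => ?_
    -- a real solution forces `κ * κ = 1`
    have hnc : nc q x r ≠ 0 := by rw [ne_eq, nc_eq_zero O.card]; exact hxi
    have hfix : ((κ - 1) * nc q x r) ^ q = (κ - 1) * nc q x r := by
      rw [show (κ - 1) * nc q x r = -1 by linear_combination h0, H50.neg_pow_q O.card, one_pow]
    rw [mul_pow, nc_fixed O.card, H50.sub_pow_q O.card, one_pow] at hfix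
    have h1 : κ ^ q = κ := by
      linear_combination mul_right_cancel₀ hnc hfix
    exact hκ2 (by have h' : κ * κ ^ q = 1 := hκ; rwa [h1] at h')
  · rw [hv r (Ne.symm hw.2.1), hπj, hoff l hl.1 hl.2.1, zero_add]
    exact mul_ne_zero (mul_ne_zero hα (mul_ne_zero hxj (pow_ne_zero _ hxi))) hxj
  · rw [hv r (Ne.symm hw.2.2.1), hπl, hoff r hl.1 hl.2.1, mul_zero, add_zero]
    exact hxi

omit O in
/-- The action of the product of two reflections whose centres span a degenerate plane. -/
theorem siegel_act (hF : Fintype.card F = q ^ 2) {x x' : Fin n → F} {κ : F} (hκ : Circ q κ)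
    (hh : hermForm n F q x x' = 1) (h h') (v : Fin n → F) :
    act (rf hF x' (κ - 1) h * rf hF x (κ⁻¹ - 1) h') v =
      v + (-((κ⁻¹ - 1) * hermForm n F q v x) + (κ - 1) * hermForm n F q v (x' - x)) • (x' - x) +
        ((κ - 1) * hermForm n F q v (x' - x)) • x := by
  rw [act_mul, act_rf, act_rf, h_add_left, h_smul_left, hh, h_sub_right hF]
  funext r
  simp only [Pi.add_apply, Pi.smul_apply, Pi.sub_apply, smul_eq_mul]
  have h1 : κ * κ⁻¹ = 1 := mul_inv_cancel₀ hκ.ne_zero
  linear_combination (hermForm n F q v x * x' r) * h1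

/-- A transvection in `M`. -/
theorem Over.exists_tv (h : HasAxis M) :
    ∃ y z c, One q M y c ∧ c ≠ 0 ∧ y ≠ 0 ∧ y z = 0 := by
  classical
  obtain ⟨κ, hκ, hκ1, hκ2⟩ := exists_circ_sq_ne_one O.card
  obtain ⟨z, x, ⟨hxx, hxz, hc1, hc2, hmem⟩, h3⟩ := O.exists_ref h hκ hκ2
  have hF := O.card
  have hq := q_ne_zero hF
  obtain ⟨i, hi⟩ := Finset.card_pos.mp (show 0 < (supp x).card by omega)
  obtain ⟨j, hj, hji⟩ := Finset.exists_mem_ne (s := supp x) (by omega) i
  have hsum := sum_nc_supp hF x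
  rw [hxx, ← Finset.add_sum_erase _ _ hi, ← Finset.add_sum_erase ((supp x).erase i) _
    (Finset.mem_erase.mpr ⟨hji, hj⟩), ← add_assoc] at hsum
  obtain ⟨l1, l2, l3, h1, h2, h3c, hl, hne⟩ := exists_norm_sum hF (nc_fixed hF x i) (nc_fixed hF x j)
    (by rw [ne_eq, nc_eq_zero hF]; exact mem_supp.mp hi)
    (by rw [ne_eq, nc_eq_zero hF]; exact mem_supp.mp hj) hsum
  let g : Fin n → F := fun r => if r = i then l1 else if r = j then l2 else l3
  have hg : ∀ r, Circ q (g r) := fun r => by simp only [g]; split_ifs; exacts [h1, h2, h3c]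
  let P := ∏ r ∈ Finset.univ.erase z, g r
  let f : Fin n → F := fun r => if r = z then P⁻¹ else g r
  have hf : ∀ r, Circ q (f r) := fun r => by
    simp only [f]; split_ifs; exacts [(Circ.prod fun a _ => hg a).inv, hg r]
  have hfp : ∏ r, f r = 1 := by
    rw [← Finset.mul_prod_erase _ _ (Finset.mem_univ z),
      Finset.prod_congr rfl (fun r hr => by simp [f, (Finset.mem_erase.mp hr).1] :
        ∀ r ∈ Finset.univ.erase z, f r = g r)]
    simp only [f, if_pos rfl]
    exact inv_mul_cancel₀ (Circ.prod fun a _ => hg a).ne_zero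
  set D := dg hF f hf
  have hDM : D ∈ M := O.diag_mem hf hfp
  set x' := act D x with hx'
  have hiz : i ≠ z := fun e' => mem_supp.mp hi (e' ▸ hxz)
  have hjz : j ≠ z := fun e' => mem_supp.mp hj (e' ▸ hxz)
  have hx'x' : hermForm n F q x' x' = 1 := by rw [hx', O.inj D hDM, hxx]
  have hx'x : hermForm n F q x' x = 1 := by
    have e1 : hermForm n F q x' x = ∑ r ∈ supp x, f r * nc q x r := by
      rw [hermForm, ← Finset.sum_subset (Finset.subset_univ (supp x))]
      · exact Finset.sum_congr rfl fun r _ => by rw [hx', act_dg, nc]; ring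
      · intro r _ hr
        rw [hx', act_dg, notMem_supp.mp hr, mul_zero, zero_mul]
    rw [e1, ← Finset.add_sum_erase _ _ hi, ← Finset.add_sum_erase ((supp x).erase i) _
      (Finset.mem_erase.mpr ⟨hji, hj⟩), ← add_assoc]
    rw [Finset.sum_congr rfl (fun r hr => ?_ :
      ∀ r ∈ ((supp x).erase i).erase j, f r * nc q x r = l3 * nc q x r), ← Finset.mul_sum]
    · simp only [f, g, if_neg hiz, if_neg hjz, if_pos, if_neg hji]
      exact hl
    · rw [Finset.mem_erase, Finset.mem_erase] at hr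
      have hrz : r ≠ z := fun e' => mem_supp.mp hr.2.2 (e' ▸ hxz)
      simp [f, g, hrz, hr.1, hr.2.1]
  have hxx' : hermForm n F q x x' = 1 := by rw [h_symm hF, hx'x, one_pow]
  set y := x' - x with hy
  have hyy : hermForm n F q y y = 0 := by
    rw [hy, h_sub_left, h_sub_right hF, h_sub_right hF, hx'x', hx'x, hxx', hxx]; ring
  have hyx : hermForm n F q y x = 0 := by rw [hy, h_sub_left, hx'x, hxx, sub_self]
  have hxy : hermForm n F q x y = 0 := (h_eq_zero_comm hF).1 hyx
  have hy0 : y ≠ 0 := by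
    intro h0
    have hr : ∀ r ∈ supp x, f r = 1 := fun r hr => by
      have := congrFun h0 r
      rw [hy, Pi.sub_apply, hx', act_dg, Pi.zero_apply] at this
      have : (f r - 1) * x r = 0 := by linear_combination this
      exact sub_eq_zero.mp ((mul_eq_zero.mp this).resolve_right (mem_supp.mp hr))
    have e1 := hr i hi
    have e2 := hr j hj
    simp only [f, g, if_neg hiz, if_neg hjz, if_pos, if_neg hji] at e1 e2
    rcases hne with hne | ⟨-, hne⟩
    · exact hne (e1.trans e2.symm)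
    · obtain ⟨r, hr1, hr2⟩ := Finset.exists_mem_notMem_of_card_lt_card
        (s := ({i, j} : Finset (Fin n))) (t := supp x) (lt_of_le_of_lt Finset.card_le_two (by omega))
      simp only [Finset.mem_insert, Finset.mem_singleton, not_or] at hr2
      have e3 := hr r hr1
      have hrz : r ≠ z := fun e' => mem_supp.mp hr1 (e' ▸ hxz)
      simp only [f, g, if_neg hrz, if_neg hr2.1, if_neg hr2.2] at e3
      exact hne (e3.trans e1.symm)
  have hyz : y z = 0 := by rw [hy, Pi.sub_apply, hx', act_dg, hxz, mul_zero, sub_zero]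
  have hxe : hermForm n F q x (e z) = 0 := by rw [h_e_right hF, hxz]
  have hxe' : hermForm n F q x' (e z) = 0 := by rw [h_e_right hF, hx', act_dg, hxz, mul_zero]
  have cx : ∀ {v : Fin n → F}, hermForm n F q v v = 1 → ∀ {l : F}, Circ q l →
      (l - 1) + (l - 1) ^ q + (l - 1) * (l - 1) ^ q * hermForm n F q v v = 0 :=
    fun hv _ hl => refl_cond hF hv hl
  have hee : hermForm n F q (e z : Fin n → F) (e z) = 1 := by rw [h_e_e hF, if_pos rfl]
  -- conjugation by a reflection with the same parameter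
  have hA' : rf2 hF x' (e z) (κ - 1) (κ⁻¹ - 1) (cx hx'x' hκ) (cx hee hκ.inv) ∈ M := by
    have := mul_mem (mul_mem hDM hmem) (inv_mem hDM)
    rw [conj_rf2 hF (O.le hDM).1] at this
    have hDe : act D (e z) = P⁻¹ • (e z : Fin n → F) := by
      rw [act_dg_e]; simp [f]
    simp only [hDe] at this
    rwa [rf2_scale (Circ.prod fun a _ => hg a).inv] at this
  have key : ∀ k : ℕ, rf2 hF x' (e z) (κ - 1) (κ⁻¹ - 1) (cx hx'x' hκ) (cx hee hκ.inv) ^ k *
      (rf2 hF x (e z) (κ - 1) (κ⁻¹ - 1) hc1 hc2)⁻¹ ^ k ∈ M := fun k =>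
    mul_mem (pow_mem hA' k) (pow_mem (inv_mem hmem) k)
  have hPk : ∀ {l : F} (hl : Circ q l),
      (∃ k : ℕ, l = κ ^ k) → rf hF x' (l - 1) (cx hx'x' hl) * rf hF x (l⁻¹ - 1) (cx hxx hl.inv) ∈ M := by
    rintro l hl ⟨k, rfl⟩
    have hpow : ∀ (u : Fin n → F) (huu : hermForm n F q u u = 1) (hue : hermForm n F q u (e z) = 0)
        (h h'), ∀ k : ℕ, rf2 hF u (e z) (κ - 1) (κ⁻¹ - 1) h h' ^ k =
          rf2 hF u (e z) (κ ^ k - 1) ((κ ^ k)⁻¹ - 1) (cx huu (hκ.pow k)) (cx hee (hκ.pow k).inv) := by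
      intro u huu hue h h' k
      induction k with
      | zero =>
        refine gl_ext fun v => ?_
        rw [pow_zero, act_one, act_rf2 hF hue]; simp
      | succ k ih =>
        refine gl_ext fun v => ?_
        rw [pow_succ, ih, act_mul, act_rf2 hF hue, act_rf2 hF hue, act_rf2 hF hue]
        have hue' := (h_eq_zero_comm hF).1 hue
        simp only [h_add_left, h_smul_left, huu, hee, hue, hue', mul_zero, add_zero, mul_one]
        funext r
        simp only [Pi.add_apply, Pi.smul_apply, smul_eq_mul, mul_inv, pow_succ]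
        ring
    have hin : (rf2 hF x (e z) (κ - 1) (κ⁻¹ - 1) hc1 hc2)⁻¹ ^ k =
        rf2 hF x (e z) ((κ ^ k)⁻¹ - 1) (κ ^ k - 1) (cx hxx (hκ.pow k).inv) (cx hee (hκ.pow k)) := by
      rw [inv_pow, inv_eq_iff_mul_eq_one, hpow x hxx hxe hc1 hc2 k]
      refine gl_ext fun v => ?_
      rw [act_mul, act_rf2 hF hxe, act_rf2 hF hxe, act_one]
      have hue' := (h_eq_zero_comm hF).1 hxe
      simp only [h_add_left, h_smul_left, hxx, hee, hxe, hue', mul_zero, add_zero, mul_one]
      funext r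
      simp only [Pi.add_apply, Pi.smul_apply, smul_eq_mul]
      have h1 : κ ^ k * (κ ^ k)⁻¹ = 1 := mul_inv_cancel₀ (pow_ne_zero _ hκ.ne_zero)
      linear_combination (hermForm n F q v x * x r + hermForm n F q v (e z) * (e z : Fin n → F) r) * h1
    have := key k
    rw [hpow x' hx'x' hxe' _ _ k, hin] at this
    convert this using 1
    refine gl_ext fun v => ?_
    rw [act_mul, act_mul, act_rf2 hF hxe, act_rf2 hF hxe', act_rf, act_rf]
    have hue' := (h_eq_zero_comm hF).1 hxe'
    simp only [h_add_left, h_smul_left, hee, hxe, hue', hxx', mul_zero, add_zero, mul_one]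
    funext r
    simp only [Pi.add_apply, Pi.smul_apply, smul_eq_mul]
    have h1 : κ ^ k * (κ ^ k)⁻¹ = 1 := mul_inv_cancel₀ (pow_ne_zero _ hκ.ne_zero)
    linear_combination -(hermForm n F q v (e z) * (e z : Fin n → F) r) * h1
  let t := κ - 1
  let s := κ * κ - 1
  let t' := κ⁻¹ - 1
  let s' := (κ * κ)⁻¹ - 1
  have hts : t ^ q = t' := by simp only [t, t']; rw [H50.sub_pow_q hF, one_pow, hκ.pow_q]
  have hss : s ^ q = s' := by simp only [s, s']; rw [H50.sub_pow_q hF, one_pow, (hκ.mul hκ).pow_q]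
  let c := t' * s - t * s'
  have hc : c + c ^ q = 0 := by
    simp only [c]
    rw [H50.sub_pow_q hF, mul_pow, mul_pow, ← hss, ← hts, pow_q_pow_q hF, pow_q_pow_q hF]
    ring
  have hc0 : c ≠ 0 := by
    intro h0
    have h1 : κ * κ⁻¹ = 1 := mul_inv_cancel₀ hκ.ne_zero
    have e1 : (κ - 1) * ((κ * κ)⁻¹ - 1) - (κ⁻¹ - 1) * (κ * κ - 1) = 0 := by
      simp only [c, t, t', s, s'] at h0
      linear_combination -h0
    rw [mul_inv] at e1
    have e2 : (κ - 1) * (κ - 1) * (κ * κ - 1) = 0 := by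
      linear_combination (κ * κ) * e1 + (-κ ^ 2 * κ⁻¹ - κ + κ * κ⁻¹ + 1 + κ ^ 3 - κ) * h1
    rcases mul_eq_zero.mp e2 with h | h
    · exact hκ1 (sub_eq_zero.mp (mul_self_eq_zero.mp h))
    · exact hκ2 (sub_eq_zero.mp h)
  have m1 := hPk hκ ⟨1, (pow_one κ).symm⟩
  have m2 := hPk (hκ.mul hκ) ⟨2, (pow_two κ).symm⟩
  set P1 := rf hF x' (κ - 1) (cx hx'x' hκ) * rf hF x (κ⁻¹ - 1) (cx hxx hκ.inv)
  set P2 := rf hF x' (κ * κ - 1) (cx hx'x' (hκ.mul hκ)) *
    rf hF x ((κ * κ)⁻¹ - 1) (cx hxx (hκ.mul hκ).inv)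
  refine ⟨y, z, c, ⟨hyy, hc, ?_⟩, hc0, hy0, hyz⟩
  have e : utv y hyy c * (P1 * P2) = P2 * P1 := by
    refine gl_ext fun v => ?_
    simp only [P1, P2, act_mul (utv y hyy c), act_mul (rf hF x' (κ - 1) _ * rf hF x (κ⁻¹ - 1) _),
      act_mul (rf hF x' (κ * κ - 1) _ * rf hF x ((κ * κ)⁻¹ - 1) _), siegel_act hF hκ hxx',
      siegel_act hF (hκ.mul hκ) hxx', ← hy, act_utv, h_add_left, h_smul_left, hyx, hxy, hyy, hxx]
    funext r
    simp only [Pi.add_apply, Pi.smul_apply, smul_eq_mul, c, t, t', s, s']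
    ring
  rw [eq_mul_inv_of_mul_eq e]
  exact mul_mem (mul_mem m2 m1) (inv_mem (mul_mem m1 m2))

end H41.UDec
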