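import Cfsg.Agent.H41.UDec.FrameFinish
import Cfsg.Agent.H41.UDec.FrameSix

/-! The field with four elements, and the conclusion for monomial groups. -/

set_option autoImplicit false
set_option linter.unusedSectionVars false

namespace H41.UDec

open Matrix Cfsg Cfsg.Geo H45 H50

variable {F : Type*} [Field F] [Fintype F] {n q : ℕ}
variable {M : Subgroup (GL (Fin n) F)} (O : Over q M)
include O

theorem Over.two_eq_zero (hq : q = 2) : (2 : F) = 0 := by
  have h := FiniteField.cast_card_eq_zero F
  rw [O.card, hq] at h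
  exact eq_zero_of_pow_eq_zero (n := 2) (by exact_mod_cast h)

theorem Over.circ_of_ne_zero (hq : q = 2) {x : F} (hx : x ≠ 0) : Circ q x := by
  have := FiniteField.pow_card_sub_one_eq_one x hx
  rw [O.card, hq] at this
  subst hq
  unfold Circ
  rw [← pow_succ']
  exact this

theorem Over.nc_one (hq : q = 2) {v : Fin n → F} {r : Fin n} (hr : r ∈ supp v) : nc q v r = 1 :=
  O.circ_of_ne_zero hq (mem_supp.mp hr)

/-- The cube root of unity. -/
theorem Over.exists_omega (hq : q = 2) :
    ∃ ω : F, Circ q ω ∧ ω ≠ 1 ∧ ω * ω + ω + 1 = 0 := by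
  obtain ⟨ω, hω, hω1⟩ := exists_circ_ne_one O.card
  refine ⟨ω, hω, hω1, ?_⟩
  subst hq
  unfold Circ at hω
  exact (mul_eq_zero.mp (show (ω - 1) * (ω * ω + ω + 1) = 0 by linear_combination hω)).resolve_left
    (sub_ne_zero.mpr hω1)

/-- Supports are even. -/
theorem Over.even_supp (hq : q = 2) {v : Fin n → F} (hv : hermForm n F q v v = 0) :
    Even (supp v).card := by
  rcases Nat.even_or_odd (supp v).card with h | ⟨m, hm⟩
  · exact h
  exfalso
  have := sum_nc_supp O.card v
  rw [hv, Finset.sum_congr rfl fun r hr => O.nc_one hq hr, Finset.sum_const, nsmul_one, hm] at this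
  push_cast at this
  exact one_ne_zero (α := F) (by linear_combination this - (m : F) * O.two_eq_zero hq)

theorem Over.skew_two (hq : q = 2) {c : F} (hc : c + c ^ q = 0) : c = 0 ∨ c = 1 := by
  subst hq
  rcases mul_eq_zero.mp (show c * (c + 1) = 0 by linear_combination hc) with h | h
  · exact Or.inl h
  · exact Or.inr (by linear_combination h - O.two_eq_zero rfl)

theorem Over.one_skew (hq : q = 2) : (1 : F) + 1 ^ q = 0 := by
  rw [one_pow, ← O.two_eq_zero hq]; norm_num

/-- Transvections on two coordinates are monomial. -/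
theorem Over.ctr_two_q (hq : q = 2) {v : Fin n → F} (hv : hermForm n F q v v = 0)
    (h2 : (supp v).card = 2) : Ctr q M v := by
  classical
  refine ⟨hv, fun c hc => ?_⟩
  rcases O.skew_two hq hc with rfl | rfl
  · have : utv (q := q) v hv 0 = 1 := gl_ext fun x => by
      rw [act_utv, act_one, zero_mul, zero_smul, add_zero]
    rw [this]; exact one_mem M
  refine O.mono _ (mem_SUGL.mpr ⟨fun x y => ?_, ?_⟩) fun a => ?_
  · have := rf_mem O.card v 1 (by rw [hv, mul_zero, add_zero]; exact hc)
    rw [rf_transvection O.card hv hc] at this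
    exact mem_GU.mp this x y
  · rw [← rf_transvection O.card hv hc, det_rf, hv, mul_zero, add_zero]
  obtain ⟨i, j, hij, heq⟩ := Finset.card_eq_two.mp h2
  have hoff : ∀ r, r ≠ i → r ≠ j → v r = 0 := fun r hri hrj =>
    notMem_supp.mp (by simp [heq, hri, hrj])
  by_cases ha : a ∈ supp v
  · refine ⟨if a = i then j else i, fun r hr => ?_⟩
    rw [act_utv, Pi.add_apply, Pi.smul_apply, h_e_left O.card, e_apply, one_mul, smul_eq_mul]
    by_cases hra : r = a
    · subst hra
      rw [if_pos rfl, mul_comm, show v r * v r ^ q = 1 from O.nc_one hq ha, ← O.two_eq_zero hq]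
      norm_num
    · rw [if_neg hra, hoff r ?_ ?_, mul_zero, add_zero]
      · rintro rfl
        split_ifs at hr with h'
        · exact hra h'.symm
        · exact hr rfl
      · rintro rfl
        rw [heq, Finset.mem_insert, Finset.mem_singleton] at ha
        split_ifs at hr with h'
        · exact hr rfl
        · exact hra (ha.resolve_left h').symm
  · refine ⟨a, fun r hr => ?_⟩
    rw [act_utv, Pi.add_apply, Pi.smul_apply, h_e_left O.card, e_apply, if_neg hr,
      notMem_supp.mp ha, zero_pow (q_ne_zero O.card), mul_zero, zero_smul, zero_add]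

/-- A centre on four coordinates. -/
theorem Over.exists_ctr_four (h10 : 10 ≤ n) (hq : q = 2) : ∃ v, Ctr q M v ∧ (supp v).card = 4 := by
  classical
  obtain ⟨y, z, ⟨hy, hc1, hm⟩, h3, hz⟩ := O.exists_root h10 (O.two_eq_zero hq)
  have hF := O.card
  have hY : Ctr q M y := ⟨hy, fun c hc => by
    rcases O.skew_two hq hc with rfl | rfl
    · have : utv (q := q) y hy 0 = 1 := gl_ext fun x => by
        rw [act_utv, act_one, zero_mul, zero_smul, add_zero]
      rw [this]; exact one_mem M
    · exact hm⟩
  obtain ⟨m, hm2⟩ := O.even_supp hq hy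
  obtain ⟨T, hT, hT4⟩ := Finset.exists_subset_card_eq (show 4 ≤ (supp y).card by omega)
  obtain ⟨l, hl⟩ := Finset.card_pos.mp (show 0 < T.card by omega)
  obtain ⟨ω, hω, hω1, hw⟩ := O.exists_omega hq
  let g : Fin n → F := fun r => if r ∈ T then (if r = l then ω * ω else ω) else 1
  have hg : ∀ r, Circ q (g r) := fun r => by
    simp only [g]; split_ifs; exacts [hω.mul hω, hω, Circ.one]
  obtain ⟨D, hD, hDy⟩ := O.exists_diag hz hg
  have h20 := O.two_eq_zero hq
  have hsum : ∑ r ∈ supp y, g r * nc q y r = 1 := by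
    rw [Finset.sum_congr rfl (fun r hr => by rw [O.nc_one hq hr, mul_one] :
        ∀ r ∈ supp y, g r * nc q y r = g r),
      ← Finset.sum_sdiff hT, ← Finset.add_sum_erase T g hl,
      Finset.sum_congr rfl (fun r hr => by simp [g, (Finset.mem_sdiff.mp hr).2] :
        ∀ r ∈ supp y \ T, g r = 1),
      Finset.sum_congr rfl (fun r hr => by
        simp [g, (Finset.mem_erase.mp hr).1, (Finset.mem_erase.mp hr).2] :
        ∀ r ∈ T.erase l, g r = ω),
      Finset.sum_const, Finset.sum_const, Finset.card_erase_of_mem hl, hT4,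
      Finset.card_sdiff_of_subset hT, hT4, hm2]
    simp only [g, if_pos hl, if_pos, nsmul_eq_mul, mul_one]
    rw [Nat.cast_sub (by omega)]
    push_cast
    linear_combination hw + ((m : F) - 2 + ω - 1) * h20
  have hstep := ctr_step hF O.le hY (ctr_act hF O.le hD hY) (c := 1) (O.one_skew hq)
  rw [O.h_diag hDy, hsum, one_mul, one_smul] at hstep
  refine ⟨_, hstep, ?_⟩
  rw [show supp (act D y + y) = T from ?_, hT4]
  ext r
  rw [mem_supp, Pi.add_apply, hDy, show g r * y r + y r = (g r + 1) * y r by ring, mul_ne_zero_iff]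
  constructor
  · rintro ⟨h, -⟩
    by_contra hr
    simp only [g, if_neg hr] at h
    exact h (by linear_combination h20)
  · intro hr
    refine ⟨fun h => ?_, mem_supp.mp (hT hr)⟩
    simp only [g, if_pos hr] at h
    split_ifs at h
    · exact hω.ne_zero (by linear_combination hw - h)
    · exact hω1 (by linear_combination h - h20)

theorem Over.ctr_all_two (h10 : 10 ≤ n) (hq : q = 2) : ∀ v, hermForm n F q v v = 0 → Ctr q M v := by
  classical
  have hF := O.card
  obtain ⟨v₄, h₄, h₄c⟩ := O.exists_ctr_four h10 hq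
  have hfour : ∀ v, hermForm n F q v v = 0 → (supp v).card = 4 → Ctr q M v := fun v hv h4 => by
    obtain ⟨v₁, h₁, hs⟩ := O.exists_ctr_supp h₄ (h4.trans h₄c.symm)
    obtain ⟨z, hz⟩ := O.exists_notMem (T := supp v) (by omega)
    refine O.ctr_of_ratio h₁ (z := z) (notMem_supp.mp (hs ▸ hz)) hs.symm fun r hr => ?_
    rw [O.nc_one hq hr, O.nc_one hq (hs ▸ hr)]
  suffices ∀ (s : ℕ) (v : Fin n → F), (supp v).card = s → hermForm n F q v v = 0 → Ctr q M v from
    fun v => this _ v rfl
  intro s
  induction s using Nat.strong_induction_on with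
  | _ s ih =>
    intro v hs hv
    by_cases h0 : v = 0
    · subst h0; exact ctr_zero M
    have h2 := two_le_card_supp hF hv h0
    obtain ⟨m, hm⟩ := O.even_supp hq hv
    by_cases hs2 : (supp v).card = 2
    · exact O.ctr_two_q hq hv hs2
    by_cases hs4 : (supp v).card = 4
    · exact hfour v hv hs4
    obtain ⟨T, hT, hT4⟩ := Finset.exists_subset_card_eq (show 4 ≤ (supp v).card by omega)
    obtain ⟨ω, hω, hω1, hw⟩ := O.exists_omega hq
    obtain ⟨i, hi⟩ := Finset.card_pos.mp (show 0 < T.card by omega)
    obtain ⟨j, hj, hji⟩ := Finset.exists_mem_ne (s := T) (by omega) i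
    obtain ⟨k, hk⟩ := Finset.card_pos.mp (show 0 < ((T.erase i).erase j).card by
      rw [Finset.card_erase_of_mem (Finset.mem_erase.mpr ⟨hji, hj⟩), Finset.card_erase_of_mem hi]
      omega)
    simp only [Finset.mem_erase] at hk
    let δ : Fin n → F := fun r =>
      if r = i ∨ r = j then 1 else if r = k then ω else ω * ω
    let w : Fin n → F := fun r => if r ∈ T then δ r * v r else 0
    have hδ : ∀ r, Circ q (δ r) := fun r => by
      simp only [δ]; split_ifs; exacts [Circ.one, hω, hω.mul hω]
    have hws : supp w = T := by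
      ext r
      rw [mem_supp]
      simp only [w]
      split_ifs with h
      · exact iff_of_true (mul_ne_zero (hδ r).ne_zero (mem_supp.mp (hT h))) h
      · exact iff_of_false (fun h' => h' rfl) h
    have hncw : ∀ r ∈ T, nc q w r = 1 := fun r hr => O.nc_one hq (hws.symm ▸ hr)
    have h20 := O.two_eq_zero hq
    have hwiso : hermForm n F q w w = 0 := by
      rw [← sum_nc_supp hF, hws, Finset.sum_congr rfl hncw, Finset.sum_const, hT4, nsmul_one]
      push_cast
      linear_combination (2 : F) * h20
    have hlast : ((((T.erase i).erase j).erase k).card : F) = 1 := by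
      rw [Finset.card_erase_of_mem (by simp [Finset.mem_erase, hk.1, hk.2.1, hk.2.2]),
        Finset.card_erase_of_mem (Finset.mem_erase.mpr ⟨hji, hj⟩), Finset.card_erase_of_mem hi, hT4]
      norm_num
    have hk'' : k ∈ (T.erase i).erase j :=
      Finset.mem_erase.mpr ⟨hk.1, Finset.mem_erase.mpr hk.2⟩
    have hωq : ω ^ q = ω * ω := by rw [hq, pow_two]
    have hvw : hermForm n F q v w = 1 := by
      rw [hermForm, ← Finset.sum_subset (Finset.subset_univ T) (fun r _ hr => by
        simp only [w, if_neg hr, zero_pow (q_ne_zero hF), mul_zero])]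
      rw [Finset.sum_congr rfl (fun r hr => ?_ : ∀ r ∈ T, v r * w r ^ q = δ r ^ q)]
      · rw [← Finset.add_sum_erase T _ hi,
          ← Finset.add_sum_erase (T.erase i) _ (Finset.mem_erase.mpr ⟨hji, hj⟩),
          ← Finset.add_sum_erase ((T.erase i).erase j) _ hk'',
          Finset.sum_congr rfl (fun r hr => by
            simp only [Finset.mem_erase] at hr
            simp only [δ, hr.2.1, hr.2.2.1, or_self, if_false, hr.1] :
            ∀ r ∈ ((T.erase i).erase j).erase k, δ r ^ q = (ω * ω) ^ q),
          Finset.sum_const, nsmul_eq_mul, hlast]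
        simp only [δ, true_or, or_true, if_true, hk.1, hk.2.1, or_self, if_false, one_pow, one_mul]
        rw [mul_pow, hωq]
        linear_combination (ω * ω - ω + 1) * hw
      · simp only [w, if_pos hr]
        rw [mul_pow, mul_left_comm, show v r * v r ^ q = 1 from O.nc_one hq (hT hr), mul_one]
    have hdown : (supp (v + (1 * hermForm n F q v w) • w)).card < s := by
      rw [← hs, hvw, one_mul, one_smul]
      refine lt_of_le_of_lt (Finset.card_le_card fun r hr => ?_)
        (Finset.card_erase_lt_of_mem (hT hi))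
      rw [mem_supp, Pi.add_apply] at hr
      rw [Finset.mem_erase, mem_supp]
      by_cases hrT : r ∈ T
      · refine ⟨fun hri => hr ?_, mem_supp.mp (hT hrT)⟩
        subst hri
        simp only [w, δ, if_pos hrT, true_or, if_true, one_mul]
        linear_combination v r * h20
      · simp only [w, if_neg hrT, add_zero] at hr
        exact ⟨fun h => hrT (h ▸ hi), hr⟩
    have hiso' : hermForm n F q (v + (1 * hermForm n F q v w) • w)
        (v + (1 * hermForm n F q v w) • w) = 0 := by
      rw [hvw, one_mul, one_smul, h_add_left, h_add_right hF, h_add_right hF, hv, hwiso, hvw,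
        h_symm hF v w, hvw, one_pow]
      linear_combination h20
    exact ctr_back hF O.le (hfour w hwiso (by rw [hws, hT4])) (O.one_skew hq)
      (ih _ hdown _ rfl hiso')

/-- The monomial group is maximal. -/
theorem Over.eq_SUGL (hd : 10 ≤ n ∨ (n = 6 ∧ 3 ≤ q)) : M = SUGL n F q := by
  refine eq_of_ctr O.card (le_trans (by norm_num) O.dim) O.le ?_
  by_cases hq : q = 2
  · exact O.ctr_all_two (hd.resolve_right (by omega)) hq
  have hq3 : 3 ≤ q := by have := H50.two_le O.card; omega
  obtain ⟨y, z, hy, hy0, hz⟩ : ∃ y z, Ctr q M y ∧ y ≠ 0 ∧ y z = 0 := by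
    rcases hd with h10 | ⟨h6, -⟩
    · by_cases h2 : (2 : F) = 0
      · obtain ⟨y, z, h, h3, hz⟩ := O.exists_root h10 h2
        exact O.exists_ctr_even h2 hq3 h h3 hz
      · exact O.exists_ctr_odd (O.hasAxis h10 h2) h2
    · by_cases h2 : (2 : F) = 0
      · obtain ⟨y, z, h, h3, hz⟩ := O.exists_root_axis h2 hq3 (O.hasAxis_six h6 hq3)
        exact O.exists_ctr_even h2 hq3 h h3 hz
      · exact O.exists_ctr_odd (O.hasAxis_six h6 hq3) h2
  obtain ⟨v₀, h₀, h₀2⟩ := O.exists_ctr_two hq3 y z hy hy0 hz
  exact O.ctr_all hq3 fun v hv h2 => O.ctr_two h₀ h₀2 hv h2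

end H41.UDec
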