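import Cfsg.Agent.H41.UDec.FrameTwo
import Cfsg.Agent.H41.UDec.BlockFinish

/-! Transfer to an arbitrary orthogonal decomposition. -/

set_option autoImplicit false
set_option linter.unusedSectionVars false

namespace H41.UDec

open Matrix Cfsg Cfsg.Geo H45 H50

variable {F : Type*} [Field F] [Fintype F] {n q t k : ℕ}

theorem eq_sum_e_blk (β : Fin t × Fin k ≃ Fin n) (v : Fin n → F) :
    v = ∑ x : Fin t × Fin k, v (β x) • (e (β x) : Fin n → F) :=
  (eq_sum_e v).trans (Equiv.sum_comp β fun r => v r • (e r : Fin n → F)).symm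

/-- Monomial elements preserve one-element blocks. -/
theorem mono_iff_pres (β : Fin t × Fin 1 ≃ Fin n) (g : GL (Fin n) F) : Mono g ↔ Pres β g := by
  constructor
  · intro hg
    choose p hp using hg
    have hinj : Function.Injective p := fun c c' h => by
      by_contra hne
      exact mono_rows_ne hne (hp c) (hp c') h
    let τ : Fin t → Fin t := fun i => (β.symm (p (blk β i 0))).1
    have hτ : Function.Injective τ := fun i i' h => by
      have h2 : β.symm (p (blk β i 0)) = β.symm (p (blk β i' 0)) := Prod.ext h (Subsingleton.elim _ _)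
      exact (Prod.ext_iff.mp (β.injective (hinj (β.symm.injective h2)))).1
    refine ⟨Equiv.ofBijective τ (Finite.injective_iff_bijective.mp hτ), fun i a l hl => ?_⟩
    funext b
    obtain rfl : a = 0 := Subsingleton.elim _ _
    refine hp _ _ fun h => hl ?_
    show l = τ i
    simp only [τ]
    rw [← h, blk, Equiv.symm_apply_apply]
  · rintro ⟨σ, hσ⟩ c
    refine ⟨blk β (σ (β.symm c).1) 0, fun r hr => ?_⟩
    have hc : blk β (β.symm c).1 0 = c := by
      show β ((β.symm c).1, 0) = c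
      rw [show ((β.symm c).1, (0 : Fin 1)) = β.symm c from Prod.ext rfl (Subsingleton.elim _ _),
        Equiv.apply_symm_apply]
    have hr' : blk β (β.symm r).1 0 = r := by
      show β ((β.symm r).1, 0) = r
      rw [show ((β.symm r).1, (0 : Fin 1)) = β.symm r from Prod.ext rfl (Subsingleton.elim _ _),
        Equiv.apply_symm_apply]
    have := congrFun (hσ (β.symm c).1 0 (β.symm r).1 (fun h => hr (by rw [← hr', h]))) 0
    rw [hc] at this
    rw [← hr']
    exact this

/-- The standard partition gives a maximal subgroup. -/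
theorem eq_SUGL_of_blocks (hF : Fintype.card F = q ^ 2) (hn : 6 ≤ n) (hn1 : 2 ≤ k ∨ 10 ≤ n ∨ (n = 6 ∧ 3 ≤ q)) (hk : 0 < k)
    (hex : ¬ (k = 2 ∧ q = 2)) (β : Fin t × Fin k ≃ Fin n) (M : Subgroup (GL (Fin n) F))
    (hle : M ≤ SUGL n F q) (hstab : ∀ g ∈ SUGL n F q, Pres β g → g ∈ M)
    (hbig : ∃ g ∈ M, ¬ Pres β g) : M = SUGL n F q := by
  rcases Nat.lt_or_ge k 2 with hk2 | hk2
  · obtain rfl : k = 1 := by omega
    refine Over.eq_SUGL ⟨hF, hle, fun g hg hm => hstab g hg ((mono_iff_pres β g).mp hm), ?_, hn⟩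
      (hn1.resolve_left (by omega))
    obtain ⟨g, hg, hgP⟩ := hbig
    exact ⟨g, hg, fun h => hgP ((mono_iff_pres β g).mp h)⟩
  · exact BOver.eq_SUGL ⟨hF, hle, hstab, hbig, hn, hk2, hex⟩

/-- Some element of `SU` does not preserve the partition. -/
theorem exists_not_pres (hF : Fintype.card F = q ^ 2) (hn : 6 ≤ n) (ht : 2 ≤ t) (hk : 0 < k)
    (β : Fin t × Fin k ≃ Fin n) : ∃ g ∈ SUGL n F q, ¬ Pres β g := by
  classical
  let i : Fin t := ⟨0, by omega⟩
  let j : Fin t := ⟨1, by omega⟩
  let a : Fin k := ⟨0, hk⟩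
  have hij : i ≠ j := by simp [i, j, Fin.ext_iff]
  set r₂ := blk β i a with hr₂
  set r₃ := blk β j a with hr₃
  have h23 : r₂ ≠ r₃ := blk_ne β hij a a
  obtain ⟨r₁, -, h1⟩ := Finset.exists_mem_notMem_of_card_lt_card (s := ({r₂, r₃} : Finset (Fin n)))
    (t := Finset.univ) (lt_of_le_of_lt Finset.card_le_two (by simp; omega))
  obtain ⟨r₄, -, h4⟩ := Finset.exists_mem_notMem_of_card_lt_card
    (s := ({r₁, r₂, r₃} : Finset (Fin n))) (t := Finset.univ)
    (lt_of_le_of_lt Finset.card_le_three (by simp; omega))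
  simp only [Finset.mem_insert, Finset.mem_singleton, not_or] at h1 h4
  obtain ⟨ξ, hξ⟩ := H50.exists_norm_eq hF (c := (-1 : F)) (by rw [H50.neg_pow_q hF, one_pow])
  have hξ0 : ξ ≠ 0 := fun h => by
    rw [h, zero_pow (by omega), eq_comm, neg_eq_zero] at hξ; exact one_ne_zero hξ
  rw [pow_succ] at hξ
  let v : Fin n → F := e r₁ + ξ • e r₂ + e r₃ + ξ • e r₄
  have hv : hermForm n F q v v = 0 := by
    simp only [v, h_add_left, h_add_right hF, h_smul_left, h_smul_right hF, h_e_e hF, if_pos,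
      if_neg h23, if_neg h23.symm, if_neg h1.1, if_neg (Ne.symm h1.1), if_neg h1.2,
      if_neg (Ne.symm h1.2), if_neg h4.1, if_neg (Ne.symm h4.1), if_neg h4.2.1,
      if_neg (Ne.symm h4.2.1), if_neg h4.2.2, if_neg (Ne.symm h4.2.2)]
    linear_combination (2 : F) * hξ
  obtain ⟨c, hc, hc0⟩ := exists_skew hF
  refine ⟨utv v hv c, mem_SUGL.mpr ⟨fun x y => ?_, ?_⟩, ?_⟩
  · have := rf_mem hF v c (by rw [hv, mul_zero, add_zero]; exact hc)
    rw [rf_transvection hF hv hc] at this
    exact mem_GU.mp this x y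
  · rw [← rf_transvection hF hv hc, det_rf, hv, mul_zero, add_zero]
  rintro ⟨σ, hσ⟩
  have hev : hermForm n F q (e r₁) v = 1 := by
    rw [h_e_left hF]
    simp [v, e_apply, h1.1, h1.2, Ne.symm h4.1]
  set i₁ := (β.symm r₁).1
  have hr₁ : blk β i₁ (β.symm r₁).2 = r₁ := by simp [blk, i₁]
  have key : ∀ l b, l ≠ σ i₁ → act (utv v hv c) (e r₁) (blk β l b) = 0 := fun l b hl => by
    have := congrFun (hσ i₁ (β.symm r₁).2 l hl) b
    rwa [hr₁] at this
  by_cases hi : i = σ i₁
  · have := key j a (fun h => hij (hi.trans h.symm))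
    rw [act_utv, Pi.add_apply, Pi.smul_apply, hev, ← hr₃] at this
    simp [v, e_apply, h1.2, Ne.symm h1.2, h23.symm, Ne.symm h4.2.2, hc0] at this
  · have := key i a hi
    rw [act_utv, Pi.add_apply, Pi.smul_apply, hev, ← hr₂] at this
    simp [v, e_apply, h1.1, Ne.symm h1.1, h23, Ne.symm h4.2.1, hc0, hξ0] at this

/-- The stabiliser of an orthogonal decomposition is maximal in `SU`. -/
theorem isMaximalIn_decomposition_gen (hF : Fintype.card F = q ^ 2) (hn : 6 ≤ n)
    (hn1 : 2 ≤ k ∨ 10 ≤ n ∨ (n = 6 ∧ 3 ≤ q))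
    (D : Fin t → Submodule F (Fin n → F))
    (hD : IsNondegenerateMDecomposition (hermForm n F q) k D) (hex : ¬ (k = 2 ∧ q = 2)) :
    IsMaximalIn (SUGL n F q) (decompositionStabilizer D ⊓ SUGL n F q) := by
  classical
  have hnd : ∀ i, IsNondeg q (D i) := fun i u hu h => by
    by_contra h0
    obtain ⟨-, x, hx, hxu⟩ := hD.nondegenerate i u hu h0
    exact hxu (h x hx)
  choose b hb hbD hbs using fun i => exists_ON_basis hF (hnd i) (hD.decomp.finrank_eq i)
  let B : Fin t × Fin k → Fin n → F := fun x => b x.1 x.2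
  have hB : IsON q B := fun x y => by
    by_cases h : x.1 = y.1
    · show hermForm n F q (b x.1 x.2) (b y.1 y.2) = _
      rw [← h, hb]
      simp [Prod.ext_iff, h]
    · show hermForm n F q (b x.1 x.2) (b y.1 y.2) = _
      rw [hD.orthogonal _ _ h _ (hbD _ _) _ (hbD _ _), if_neg (fun e' => h (congrArg Prod.fst e'))]
  have hBs : Submodule.span F (Set.range B) = ⊤ := by
    rw [eq_top_iff, ← hD.decomp.iSup_eq_top, iSup_le_iff]
    intro i
    rw [← hbs i]
    exact Submodule.span_mono (Set.range_subset_iff.mpr fun a => ⟨(i, a), rfl⟩)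
  have hcard : Fintype.card (Fin t × Fin k) = n := by
    have := finrank_span_eq_card (IsON.linearIndependent hF hB)
    rw [hBs, finrank_top, Module.finrank_fin_fun] at this
    exact this.symm
  let β : Fin t × Fin k ≃ Fin n := Fintype.equivFinOfCardEq hcard
  have hE : IsON q (fun x => (e (β x) : Fin n → F)) := fun x y => by
    rw [h_e_e hF]; simp [β.injective.eq_iff]
  obtain ⟨N, hN, hNB⟩ := exists_iso_of_basis hF hcard (IsON.linearIndependent hF hE) (b' := B)
    (fun x y => by rw [hE x y, hB x y])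
  let P := gl hF N hN
  have hPe : ∀ i a, act P (e (blk β i a)) = b i a := fun i a => hNB (i, a)
  have hP : P ∈ GU n F q := gl_mem hF N hN
  -- members in the new coordinates
  have hmem : ∀ i v, v ∈ D i ↔ ∀ l, l ≠ i → res (blk β l) (act P⁻¹ v) = 0 := by
    intro i v
    constructor
    · intro hv l hl
      funext a
      show act P⁻¹ v (blk β l a) = 0
      rw [← h_e_right hF (act P⁻¹ v), ← mem_GU.mp hP]
      change hermForm n F q (act P (act P⁻¹ v)) (act P (e (blk β l a))) = 0
      rw [act_act_inv, hPe]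
      exact hD.orthogonal i l (Ne.symm hl) v hv _ (hbD l a)
    · intro h
      rw [← act_act_inv P v, eq_sum_e_blk β (act P⁻¹ v), act_sum]
      refine Submodule.sum_mem _ fun x _ => ?_
      rw [act_smul]
      by_cases hx : x.1 = i
      · rw [show β x = blk β x.1 x.2 from rfl, hPe, hx]
        exact Submodule.smul_mem _ _ (hbD i x.2)
      · have : act P⁻¹ v (β x) = 0 := congrFun (h x.1 hx) x.2
        rw [this, zero_smul]; exact zero_mem _
  have hstab : ∀ g : GL (Fin n) F, g ∈ decompositionStabilizer D ↔ Pres β (P⁻¹ * g * P) := by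
    intro g
    constructor
    · intro hg
      obtain ⟨σ, hσ⟩ := apply_mem_of_mem_decompositionStabilizer hg
      refine ⟨σ, fun i a l hl => ?_⟩
      rw [act_mul, act_mul, hPe]
      exact (hmem (σ i) _).mp (hσ i _ (hbD i a)) l hl
    · rintro ⟨σ, hσ⟩
      refine mem_decompositionStabilizer_of_maps_into hD.decomp.finrank_eq σ fun i x hx => ?_
      refine (hmem (σ i) _).mpr fun l hl => ?_
      have hx' := (hmem i x).mp hx
      have e1 : act P⁻¹ (act g x) = act (P⁻¹ * g * P) (act P⁻¹ x) := by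
        rw [act_mul, act_mul, act_act_inv]
      rw [e1, eq_sum_e_blk β (act P⁻¹ x), act_sum]
      funext c
      show (∑ y, act (P⁻¹ * g * P) _) (blk β l c) = 0
      rw [Finset.sum_apply]
      refine Finset.sum_eq_zero fun y _ => ?_
      rw [act_smul, Pi.smul_apply, smul_eq_mul]
      by_cases hy : y.1 = i
      · rw [show act (P⁻¹ * g * P) (e (β y)) (blk β l c) = 0 from
          congrFun (hσ y.1 y.2 l (hy.symm ▸ hl)) c, mul_zero]
      · rw [show act P⁻¹ x (β y) = 0 from congrFun (hx' y.1 hy) y.2, zero_mul]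
  have hconj : ∀ g : GL (Fin n) F, P * g * P⁻¹ ∈ SUGL n F q ↔ g ∈ SUGL n F q := fun g => by
    constructor
    · intro h
      obtain ⟨h1, h2⟩ := Subgroup.mem_inf.mp h
      refine Subgroup.mem_inf.mpr ⟨?_, ?_⟩
      · have : g = P⁻¹ * (P * g * P⁻¹) * P := by group
        rw [this]; exact mul_mem (mul_mem (inv_mem hP) h1) hP
      · rw [specialLinear, MonoidHom.mem_ker, map_mul, map_mul, map_inv, mul_inv_cancel_comm] at h2
        exact MonoidHom.mem_ker.mpr h2
    · intro h
      obtain ⟨h1, h2⟩ := Subgroup.mem_inf.mp h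
      refine Subgroup.mem_inf.mpr ⟨mul_mem (mul_mem hP h1) (inv_mem hP), ?_⟩
      rw [specialLinear, MonoidHom.mem_ker, map_mul, map_mul, map_inv, mul_inv_cancel_comm]
      exact MonoidHom.mem_ker.mp h2
  have hback : ∀ g, P * (P⁻¹ * g * P) * P⁻¹ = g := fun g => by group
  have hfwd : ∀ g, P⁻¹ * (P * g * P⁻¹) * P = g := fun g => by group
  refine ⟨lt_of_le_of_ne inf_le_right ?_, fun M hHM hMK => ?_⟩
  · intro heq
    obtain ⟨g, hg, hgP⟩ := exists_not_pres (q := q) hF hn hD.decomp.two_le hD.decomp.pos β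
    have h : P * g * P⁻¹ ∈ decompositionStabilizer D ⊓ SUGL n F q := by
      rw [heq]; exact (hconj g).mpr hg
    have h1 := (hstab _).mp h.1
    rw [hfwd] at h1
    exact hgP h1
  by_cases hle : M ≤ decompositionStabilizer D
  · exact Or.inl (le_antisymm (le_inf hle hMK) hHM)
  obtain ⟨g, hgM, hgD⟩ := SetLike.not_le_iff_exists.mp hle
  refine Or.inr (le_antisymm hMK fun h hh => ?_)
  have hK := eq_SUGL_of_blocks (q := q) hF hn hn1 hD.decomp.pos hex β
    (M.comap (MulAut.conj P).toMonoidHom) (fun x hx => (hconj x).mp (hMK hx))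
    (fun x hx hxP => hHM ⟨(hstab _).mpr (by
      show Pres β (P⁻¹ * (P * x * P⁻¹) * P)
      rw [hfwd]; exact hxP), (hconj x).mpr hx⟩)
    ⟨P⁻¹ * g * P, by
      show P * (P⁻¹ * g * P) * P⁻¹ ∈ M
      rw [hback]; exact hgM, fun hp => hgD ((hstab g).mpr hp)⟩
  have h' : P⁻¹ * h * P ∈ M.comap (MulAut.conj P).toMonoidHom := by
    rw [hK, ← hconj, hback]; exact hh
  have h'' : P * (P⁻¹ * h * P) * P⁻¹ ∈ M := h'
  rwa [hback] at h''

/-- The stabiliser of an orthogonal decomposition is maximal in `SU`. -/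
theorem isMaximalIn_decomposition_six (hF : Fintype.card F = q ^ 2) (hn : 6 ≤ n)
    (hn1 : 2 ≤ k ∨ 10 ≤ n) (D : Fin t → Submodule F (Fin n → F))
    (hD : IsNondegenerateMDecomposition (hermForm n F q) k D) (hex : ¬ (k = 2 ∧ q = 2)) :
    IsMaximalIn (SUGL n F q) (decompositionStabilizer D ⊓ SUGL n F q) :=
  isMaximalIn_decomposition_gen hF hn (hn1.imp_right Or.inl) D hD hex

/-- The orthogonal frame stabiliser is maximal in `SU_6` for `q ≥ 3`. -/
theorem isMaximalIn_frame_six (hF : Fintype.card F = q ^ 2) (hq : 3 ≤ q)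
    (D : Fin 6 → Submodule F (Fin 6 → F))
    (hD : IsNondegenerateMDecomposition (hermForm 6 F q) 1 D) :
    IsMaximalIn (SUGL 6 F q) (decompositionStabilizer D ⊓ SUGL 6 F q) :=
  isMaximalIn_decomposition_gen hF le_rfl (Or.inr (Or.inr ⟨rfl, hq⟩)) D hD (by omega)

/-- The stabiliser of an orthogonal decomposition is maximal in `SU` for `n ≥ 10`. -/
theorem isMaximalIn_decomposition (hF : Fintype.card F = q ^ 2) (hn : 10 ≤ n)
    (D : Fin t → Submodule F (Fin n → F))
    (hD : IsNondegenerateMDecomposition (hermForm n F q) k D) (hex : ¬ (k = 2 ∧ q = 2)) :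
    IsMaximalIn (SUGL n F q) (decompositionStabilizer D ⊓ SUGL n F q) :=
  isMaximalIn_decomposition_six hF (le_trans (by norm_num) hn) (Or.inr hn) D hD hex

end H41.UDec
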