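import Cfsg.Agent.H41.UDec.Centres

/-! When products of one or two pseudo-reflections are monomial. -/

set_option autoImplicit false
set_option linter.unusedSectionVars false

namespace H41.UDec

open Matrix Cfsg Cfsg.Geo H45 H50

variable {F : Type*} [Field F] [Fintype F] {n q : ℕ} (hF : Fintype.card F = q ^ 2)
include hF

theorem act_rf2_e {x y : Fin n → F} {α β : F} {h h'} (hxy : hermForm n F q x y = 0) (c r : Fin n) :
    act (rf2 hF x y α β h h') (e c) r =
      (if r = c then 1 else 0) + α * x c ^ q * x r + β * y c ^ q * y r := by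
  rw [act_rf2 hF hxy, h_e_left hF, h_e_left hF]
  simp [e_apply]

omit hF in
/-- Two columns of a monomial element point to different rows. -/
theorem mono_rows_ne {g : GL (Fin n) F} {c c' p p' : Fin n} (hcc : c ≠ c')
    (hp : ∀ r, r ≠ p → act g (e c) r = 0) (hp' : ∀ r, r ≠ p' → act g (e c') r = 0) : p ≠ p' := by
  rintro rfl
  have e1 : act g (e c) = act g (e c) p • e p := funext fun r => by
    by_cases h : r = p
    · subst h; simp [e_apply]
    · simp [e_apply, h, hp r h]
  have e2 : act g (e c') = act g (e c') p • e p := funext fun r => by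
    by_cases h : r = p
    · subst h; simp [e_apply]
    · simp [e_apply, h, hp' r h]
  have h0 : act g (act g (e c') p • e c - act g (e c) p • e c') = act g 0 := by
    rw [act_sub, act_smul, act_smul, act_zero, e1, e2, smul_smul, smul_smul]
    simp [e_apply, mul_comm]
  have h1 := congrFun (act_injective g h0) c
  simp [e_apply, hcc] at h1
  rw [h1] at e2
  rw [zero_smul, ← act_zero g] at e2
  have := congrFun (act_injective g e2) c'
  simp [e_apply] at this

/-- The second centre of a monomial product of two reflections has small support. -/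
theorem card_supp_le_four {x y : Fin n → F} {α β : F} {h h'} (hxy : hermForm n F q x y = 0)
    (hyy : hermForm n F q y y ≠ 0) (hα : α ≠ 0) (hβ : β ≠ 0)
    (hm : Mono (rf2 hF x y α β h h')) : (supp y).card ≤ 4 := by
  classical
  by_contra hlt
  choose p hp using hm
  have hE : ∀ c r, r ≠ c → r ≠ p c → α * x c ^ q * x r + β * y c ^ q * y r = 0 := fun c r h1 h2 => by
    have := hp c r h2
    rw [act_rf2_e hF hxy, if_neg h1, zero_add] at this
    exact this
  have hpi : ∀ c c', c ≠ c' → p c ≠ p c' := fun c c' h => mono_rows_ne h (hp c) (hp c')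
  have hy0 : ∀ {c}, c ∈ supp y → β * y c ^ q ≠ 0 := fun {c} hc =>
    mul_ne_zero hβ (pow_ne_zero _ (mem_supp.mp hc))
  have hx0 : ∀ c ∈ supp y, x c ≠ 0 := by
    intro c hc hxc
    obtain ⟨r, hr, hr'⟩ := Finset.exists_mem_notMem_of_card_lt_card (s := ({c, p c} : Finset (Fin n)))
      (t := supp y) (lt_of_le_of_lt Finset.card_le_two (by omega))
    rw [Finset.mem_insert, Finset.mem_singleton, not_or] at hr'
    have := hE c r hr'.1 hr'.2
    rw [hxc, zero_pow (q_ne_zero hF), mul_zero, zero_mul, zero_add] at this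
    exact mem_supp.mp hr ((mul_eq_zero.mp this).resolve_left (hy0 hc))
  obtain ⟨c₁, hc₁, c₂, hc₂, h12⟩ := Finset.one_lt_card.mp (show 1 < (supp y).card by omega)
  have hout : ∀ r, y r = 0 → x r = 0 := by
    intro r hr
    obtain ⟨c, hc, hrc⟩ : ∃ c ∈ supp y, r ≠ p c := by
      by_cases h : r = p c₁
      · exact ⟨c₂, hc₂, h ▸ hpi _ _ h12⟩
      · exact ⟨c₁, hc₁, h⟩
    have := hE c r (fun h => mem_supp.mp hc (h ▸ hr)) hrc
    rw [hr, mul_zero, add_zero] at this
    exact (mul_eq_zero.mp this).resolve_left (mul_ne_zero hα (pow_ne_zero _ (hx0 c hc)))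
  let θ : Fin n → F := fun c => -(β * y c ^ q) / (α * x c ^ q)
  have hθ : ∀ c ∈ supp y, ∀ r, r ≠ c → r ≠ p c → x r = θ c * y r := fun c hc r h1 h2 => by
    have := hE c r h1 h2
    simp only [θ]
    rw [div_mul_eq_mul_div, eq_div_iff (mul_ne_zero hα (pow_ne_zero _ (hx0 c hc)))]
    linear_combination this
  have hθeq : ∀ c ∈ supp y, θ c = θ c₁ := by
    intro c hc
    obtain ⟨r, hr, hr'⟩ := Finset.exists_mem_notMem_of_card_lt_card
      (s := ({c, p c} : Finset (Fin n)) ∪ {c₁, p c₁}) (t := supp y)
      (lt_of_le_of_lt ((Finset.card_union_le _ _).trans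
        (Nat.add_le_add Finset.card_le_two Finset.card_le_two)) (by omega))
    simp only [Finset.mem_union, Finset.mem_insert, Finset.mem_singleton, not_or] at hr'
    exact mul_right_cancel₀ (mem_supp.mp hr)
      ((hθ c hc r hr'.1.1 hr'.1.2).symm.trans (hθ c₁ hc₁ r hr'.2.1 hr'.2.2))
  have hxy' : x = θ c₁ • y := by
    funext r
    rw [Pi.smul_apply, smul_eq_mul]
    by_cases hr : y r = 0
    · rw [hr, hout r hr, mul_zero]
    · obtain ⟨c, hc, hcr⟩ : ∃ c ∈ supp y, c ∉ ({r} : Finset (Fin n)) ∧ r ≠ p c := by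
        obtain ⟨a, ha, b, hb, hab⟩ := Finset.one_lt_card.mp
          (show 1 < ((supp y).erase r).card by
            have := Finset.pred_card_le_card_erase (s := supp y) (a := r); omega)
        rw [Finset.mem_erase] at ha hb
        by_cases h : r = p a
        · exact ⟨b, hb.2, by simpa using hb.1, h ▸ hpi _ _ hab⟩
        · exact ⟨a, ha.2, by simpa using ha.1, h⟩
      rw [Finset.mem_singleton] at hcr
      rw [hθ c hc r (Ne.symm hcr.1) hcr.2, hθeq c hc]
  rw [hxy', h_smul_left, mul_eq_zero] at hxy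
  rcases hxy with h0 | h0
  · apply hx0 c₁ hc₁
    rw [hxy', h0, zero_smul, Pi.zero_apply]
  · exact hyy h0

theorem rf2_comm {x y : Fin n → F} {α β : F} {h h'} (hxy : hermForm n F q x y = 0) :
    rf2 hF x y α β h h' = rf2 hF y x β α h' h := gl_ext fun v => by
  rw [act_rf2 hF hxy, act_rf2 hF ((h_eq_zero_comm hF).1 hxy), add_right_comm]

/-- If a monomial product of reflections has a non-axis centre, the other centre lives in its
support. -/
theorem supp_subset {p y : Fin n → F} {κ : F} {β : F} {h h'} (hκ : κ ≠ 1) (hκ2 : κ * κ ≠ 1)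
    (hpy : hermForm n F q p y = 0) (hpp : hermForm n F q p p = 1) (hβ : β ≠ 0)
    (hp2 : 2 ≤ (supp p).card)
    (hm : Mono (rf2 hF p y (κ - 1) β h h')) : supp y ⊆ supp p := by
  classical
  choose t ht using hm
  have hα : κ - 1 ≠ 0 := sub_ne_zero.mpr hκ
  have hE : ∀ c r, r ≠ t c → (if r = c then (1 : F) else 0) + (κ - 1) * p c ^ q * p r +
      β * y c ^ q * y r = 0 := fun c r h2 => by
    have := ht c r h2
    rwa [act_rf2_e hF hpy] at this
  intro r hr
  by_contra hrS
  rw [notMem_supp] at hrS
  rw [mem_supp] at hr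
  have hyc : ∀ c ∈ supp p, y c ≠ 0 → t c = r := by
    intro c hc hyc
    by_contra hne
    have := hE c r (Ne.symm hne)
    rw [if_neg (fun h : r = c => mem_supp.mp hc (h ▸ hrS)), hrS, mul_zero, zero_add, zero_add] at this
    exact mul_ne_zero (mul_ne_zero hβ (pow_ne_zero _ hyc)) hr this
  obtain ⟨c, hc, hyc0⟩ : ∃ c ∈ supp p, y c = 0 := by
    by_contra hcon
    push Not at hcon
    obtain ⟨a, ha, b, hb, hab⟩ := Finset.one_lt_card.mp hp2
    exact mono_rows_ne hab (ht a) (ht b) ((hyc a ha (hcon a ha)).trans (hyc b hb (hcon b hb)).symm)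
  have hE0 : ∀ c, y c = 0 → ∀ s, s ≠ t c → (if s = c then (1 : F) else 0) + (κ - 1) * p c ^ q * p s = 0 := by
    intro c hc s hs
    have := hE c s hs
    rwa [hc, zero_pow (q_ne_zero hF), mul_zero, zero_mul, add_zero] at this
  have hsub : ∀ s ∈ supp p, s = c ∨ s = t c := by
    intro s hs
    by_contra hne
    push Not at hne
    have := hE0 c hyc0 s hne.2
    rw [if_neg hne.1, zero_add] at this
    exact mul_ne_zero (mul_ne_zero hα (pow_ne_zero _ (mem_supp.mp hc))) (mem_supp.mp hs) this
  obtain ⟨d, hd, hdc⟩ := Finset.exists_mem_ne (s := supp p) (by omega) c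
  have htc : t c = d := ((hsub d hd).resolve_left hdc).symm
  have hS : supp p = {c, d} := by
    ext s
    rw [Finset.mem_insert, Finset.mem_singleton]
    exact ⟨fun hs => (hsub s hs).imp_right (fun h => h.trans htc),
      fun h => h.elim (fun e => e ▸ hc) fun e => e ▸ hd⟩
  have hyd : y d = 0 := by
    have h0 : hermForm n F q p y = p d * y d ^ q := by
      rw [hermForm]
      refine (Finset.sum_eq_single d (fun s _ hs => ?_) (by simp))
      by_cases hsp : p s = 0
      · rw [hsp, zero_mul]
      · have := mem_supp.mpr hsp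
        rw [hS, Finset.mem_insert, Finset.mem_singleton] at this
        rw [this.resolve_right hs, hyc0, zero_pow (q_ne_zero hF), mul_zero]
    rw [h0, mul_eq_zero] at hpy
    exact eq_zero_of_pow_eq_zero (hpy.resolve_left (mem_supp.mp hd))
  have htd : t d = c := by
    by_contra hne
    have := hE0 d hyd c (Ne.symm hne)
    rw [if_neg (Ne.symm hdc), zero_add] at this
    exact mul_ne_zero (mul_ne_zero hα (pow_ne_zero _ (mem_supp.mp hd))) (mem_supp.mp hc) this
  have e1 := hE0 c hyc0 c (by rw [htc]; exact Ne.symm hdc)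
  have e2 := hE0 d hyd d (by rw [htd]; exact hdc)
  rw [if_pos rfl] at e1 e2
  rw [← sum_nc_supp hF, hS, Finset.sum_pair (Ne.symm hdc)] at hpp
  simp only [nc] at hpp
  have hk : κ + 1 = 0 := by linear_combination e1 + e2 - (κ - 1) * hpp
  exact hκ2 (by linear_combination (κ - 1) * hk)

/-- A monomial reflection with non-real parameter has an axis as centre. -/
theorem card_supp_le_two {x : Fin n → F} {α : F} {h} (hα : α ≠ 0)
    (hm : Mono (rf hF x α h)) : (supp x).card ≤ 2 := by
  classical
  by_contra hlt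
  obtain ⟨c, hc⟩ := Finset.card_pos.mp (show 0 < (supp x).card by omega)
  obtain ⟨p, hp⟩ := hm c
  obtain ⟨r, hr, hr'⟩ := Finset.exists_mem_notMem_of_card_lt_card (s := ({c, p} : Finset (Fin n)))
    (t := supp x) (lt_of_le_of_lt Finset.card_le_two (by omega))
  rw [Finset.mem_insert, Finset.mem_singleton, not_or] at hr'
  have := hp r hr'.2
  rw [act_rf, Pi.add_apply, Pi.smul_apply, h_e_left hF, e_apply, if_neg hr'.1, zero_add,
    smul_eq_mul] at this
  exact mul_ne_zero (mul_ne_zero hα (pow_ne_zero _ (mem_supp.mp hc))) (mem_supp.mp hr) this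

end H41.UDec
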