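import Cfsg.Agent.H41.UDec.Circle

/-! Vanishing sums with norm-one coefficients. -/

set_option autoImplicit false
set_option linter.unusedSectionVars false

namespace H41.UDec

open Finset

variable {F : Type*} [Field F] [Fintype F] {q : ℕ} (hF : Fintype.card F = q ^ 2)
include hF

/-- Four non-zero scalars can be rotated to sum to zero. -/
theorem four {a b c d : F} (ha : a ≠ 0) (hb : b ≠ 0) (hc : c ≠ 0) (hd : d ≠ 0) :
    ∃ l1 l2 l3, Circ q l1 ∧ Circ q l2 ∧ Circ q l3 ∧ a + l1 * b + l2 * c + l3 * d = 0 := by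
  classical
  have h1 := card_rng hF ha hb
  have h2 := card_rng hF hc hd
  have hu : (rng q a b ∪ rng q c d).card ≤ q :=
    (Finset.card_le_card (Finset.union_subset (rng_subset_reals hF a b)
      (rng_subset_reals hF c d))).trans (card_reals hF).le
  have := Finset.card_union_add_card_inter (rng q a b) (rng q c d)
  obtain ⟨v, hv⟩ : (rng q a b ∩ rng q c d).Nonempty := Finset.card_pos.mp (by omega)
  rw [Finset.mem_inter, mem_rng, mem_rng] at hv
  obtain ⟨⟨l, hl, hlv⟩, m, hm, hmv⟩ := hv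
  by_cases h0 : c + m * d = 0
  · have hal : a + l * b = 0 := by
      have : (a + l * b) * (a + l * b) ^ q = 0 := by rw [hlv, ← hmv, h0, zero_mul]
      rcases mul_eq_zero.mp this with h | h
      · exact h
      · exact eq_zero_of_pow_eq_zero h
    exact ⟨l, 1, m, hl, Circ.one, hm, by linear_combination hal + h0⟩
  · have hν : Circ q (-1 * ((a + l * b) / (c + m * d))) :=
      (circ_neg_one hF).mul (circ_div_of_norm h0 (hlv.trans hmv.symm))
    refine ⟨l, _, _, hl, hν, hν.mul hm, ?_⟩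
    field_simp
    ring

/-- At least four non-zero scalars can be rotated to sum to zero. -/
theorem solve {ι : Type*} (s : Finset ι) (a : ι → F)
    (hs : 4 ≤ s.card) (ha : ∀ i ∈ s, a i ≠ 0) :
    ∃ f : ι → F, (∀ i, Circ q (f i)) ∧ ∑ i ∈ s, f i * a i = 0 := by
  classical
  obtain ⟨m, hm⟩ : ∃ m, s.card = m + 4 := ⟨s.card - 4, by omega⟩
  induction m generalizing s a with
  | zero =>
    obtain ⟨i, hi⟩ := Finset.card_pos.mp (show 0 < s.card by omega)
    obtain ⟨j, hj⟩ := Finset.card_pos.mp (show 0 < (s.erase i).card by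
      rw [Finset.card_erase_of_mem hi]; omega)
    obtain ⟨k, l, hkl, hkl'⟩ := Finset.card_eq_two.mp (show ((s.erase i).erase j).card = 2 by
      rw [Finset.card_erase_of_mem hj, Finset.card_erase_of_mem hi]; omega)
    have hk : k ∈ (s.erase i).erase j := by rw [hkl']; simp
    have hl : l ∈ (s.erase i).erase j := by rw [hkl']; simp
    simp only [Finset.mem_erase] at hj hk hl
    obtain ⟨l1, l2, l3, h1, h2, h3, hsum⟩ :=
      four hF (ha i hi) (ha j hj.2) (ha k hk.2.2) (ha l hl.2.2)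
    refine ⟨fun x => if x = j then l1 else if x = k then l2 else if x = l then l3 else 1,
      fun x => by
        dsimp only
        split_ifs
        exacts [h1, h2, h3, Circ.one], ?_⟩
    rw [← Finset.add_sum_erase s _ hi, ← Finset.add_sum_erase (s.erase i) _
      (Finset.mem_erase.mpr hj), hkl', Finset.sum_pair hkl]
    simp only [if_neg (Ne.symm hj.1), if_neg (Ne.symm hk.2.1), if_neg (Ne.symm hl.2.1),
      if_neg hk.1, if_neg hl.1, if_neg (Ne.symm hkl), if_true, one_mul]
    linear_combination hsum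
  | succ m ih =>
    obtain ⟨i, hi⟩ := Finset.card_pos.mp (show 0 < s.card by omega)
    obtain ⟨j, hj⟩ := Finset.card_pos.mp (show 0 < (s.erase i).card by
      rw [Finset.card_erase_of_mem hi]; omega)
    rw [Finset.mem_erase] at hj
    obtain ⟨κ, hκ, hκ1⟩ := exists_circ_ne_one hF
    obtain ⟨l, hl, hne⟩ : ∃ l, Circ q l ∧ a i + l * a j ≠ 0 := by
      by_cases h : a i + a j = 0
      · refine ⟨κ, hκ, fun h' => ?_⟩
        have : (κ - 1) * a j = 0 := by linear_combination h' - h
        exact (mul_ne_zero (sub_ne_zero.mpr hκ1) (ha j hj.2)) this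
      · exact ⟨1, Circ.one, by rwa [one_mul]⟩
    obtain ⟨f, hf, hsum⟩ := ih (s.erase j) (Function.update a i (a i + l * a j))
      (by rw [Finset.card_erase_of_mem hj.2]; omega) (fun x hx => by
        rcases eq_or_ne x i with rfl | hxi
        · rwa [Function.update_self]
        · rw [Function.update_of_ne hxi]; exact ha x (Finset.mem_erase.mp hx).2)
      (by rw [Finset.card_erase_of_mem hj.2]; omega)
    refine ⟨Function.update f j (f i * l), fun x => ?_, ?_⟩
    · rcases eq_or_ne x j with rfl | hxj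
      · rw [Function.update_self]; exact (hf i).mul hl
      · rw [Function.update_of_ne hxj]; exact hf x
    · have hi' : i ∈ s.erase j := Finset.mem_erase.mpr ⟨Ne.symm hj.1, hi⟩
      rw [← Finset.add_sum_erase (s.erase j) _ hi', Function.update_self] at hsum
      rw [← Finset.add_sum_erase s _ hj.2, Function.update_self,
        ← Finset.add_sum_erase (s.erase j) _ hi', Function.update_of_ne (Ne.symm hj.1)]
      rw [Finset.sum_congr rfl (fun x hx => ?_ :
        ∀ x ∈ (s.erase j).erase i, Function.update f j (f i * l) x * a x =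
          f x * Function.update a i (a i + l * a j) x)]
      · linear_combination hsum
      · rw [Finset.mem_erase, Finset.mem_erase] at hx
        rw [Function.update_of_ne hx.2.1, Function.update_of_ne hx.1]

/-- `solve`, with one coefficient prescribed to be one. -/
theorem solve_at {ι : Type*} (s : Finset ι) (a : ι → F)
    (hs : 4 ≤ s.card) (ha : ∀ i ∈ s, a i ≠ 0) (i₀ : ι) :
    ∃ f : ι → F, (∀ i, Circ q (f i)) ∧ f i₀ = 1 ∧ ∑ i ∈ s, f i * a i = 0 := by
  obtain ⟨f, hf, hsum⟩ := solve hF s a hs ha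
  refine ⟨fun i => f i / f i₀, fun i => (hf i).div (hf i₀), div_self (hf i₀).ne_zero, ?_⟩
  simp only [div_mul_eq_mul_div, ← Finset.sum_div, hsum, zero_div]

/-- Rotate three blocks to zero sums with a prescribed total product. -/
theorem solve_blocks [DecidableEq F] {ι : Type*} [Fintype ι] [DecidableEq ι] (A B : Finset ι) (a : ι → F)
    (hAB : Disjoint A B) (hcop : Nat.Coprime A.card B.card)
    (hA : 4 ≤ (A.filter fun i => a i ≠ 0).card) (hB : 4 ≤ (B.filter fun i => a i ≠ 0).card)
    (hC : 4 ≤ ((Finset.univ \ (A ∪ B)).filter fun i => a i ≠ 0).card) :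
    ∃ f : ι → F, (∀ i, Circ q (f i)) ∧ ∏ i, f i = 1 ∧ (∑ i ∈ A, f i * a i = 0) ∧
      (∑ i ∈ B, f i * a i = 0) ∧ ∑ i ∈ Finset.univ \ (A ∪ B), f i * a i = 0 := by
  classical
  have key : ∀ P : Finset ι, 4 ≤ (P.filter fun i => a i ≠ 0).card →
      ∃ f : ι → F, (∀ i, Circ q (f i)) ∧ ∑ i ∈ P, f i * a i = 0 := fun P hP => by
    obtain ⟨f, hf, h⟩ := solve hF _ a hP fun i hi => (Finset.mem_filter.mp hi).2
    refine ⟨f, hf, ?_⟩
    rw [Finset.sum_filter] at h
    refine Eq.trans (Finset.sum_congr rfl fun i _ => ?_) h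
    split_ifs with hi
    · rfl
    · push Not at hi; rw [hi, mul_zero]
  obtain ⟨fA, hfA, sA⟩ := key A hA
  obtain ⟨fB, hfB, sB⟩ := key B hB
  obtain ⟨fC, hfC, sC⟩ := key _ hC
  let f : ι → F := fun i => if i ∈ A then fA i else if i ∈ B then fB i else fC i
  have hf : ∀ i, Circ q (f i) := fun i => by simp only [f]; split_ifs; exacts [hfA i, hfB i, hfC i]
  set d := ∏ i, f i with hd
  have hdc : Circ q d := Circ.prod fun i _ => hf i
  obtain ⟨x, y, hxy⟩ : ∃ x y : ℤ, (A.card : ℤ) * x + (B.card : ℤ) * y = 1 := by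
    have := Nat.gcd_eq_gcd_ab A.card B.card
    rw [hcop.gcd_eq_one, Nat.cast_one] at this
    exact ⟨_, _, this.symm⟩
  let νA := d⁻¹ ^ x
  let νB := d⁻¹ ^ y
  let g : ι → F := fun i => (if i ∈ A then νA else if i ∈ B then νB else 1) * f i
  have hdisj : ∀ i ∈ B, i ∉ A := fun i hi hA' => Finset.disjoint_left.mp hAB hA' hi
  refine ⟨g, fun i => ?_, ?_, ?_, ?_, ?_⟩
  · simp only [g]
    refine Circ.mul ?_ (hf i)
    split_ifs
    exacts [(hdc.inv).zpow x, (hdc.inv).zpow y, Circ.one]
  · simp only [g, Finset.prod_mul_distrib, ← hd]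
    rw [Finset.prod_ite, Finset.prod_ite, Finset.prod_const, Finset.prod_const, Finset.prod_const_one]
    have e1 : Finset.univ.filter (fun i => i ∈ A) = A := by ext; simp
    have e2 : ((Finset.univ.filter fun i => i ∉ A).filter fun i => i ∈ B) = B := by
      ext i; simpa using hdisj i
    rw [e1, e2, mul_one, ← zpow_natCast, ← zpow_natCast, ← zpow_mul, ← zpow_mul,
      ← zpow_add₀ (inv_ne_zero hdc.ne_zero), mul_comm x, mul_comm y, hxy, zpow_one,
      inv_mul_cancel₀ hdc.ne_zero]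
  · rw [Finset.sum_congr rfl (fun i hi => ?_ : ∀ i ∈ A, g i * a i = νA * (fA i * a i)),
      ← Finset.mul_sum, sA, mul_zero]
    simp only [g, f, if_pos hi, mul_assoc]
  · rw [Finset.sum_congr rfl (fun i hi => ?_ : ∀ i ∈ B, g i * a i = νB * (fB i * a i)),
      ← Finset.mul_sum, sB, mul_zero]
    simp only [g, f, if_neg (hdisj i hi), if_pos hi, mul_assoc]
  · refine Eq.trans (Finset.sum_congr rfl fun i hi => ?_) sC
    simp only [Finset.mem_sdiff, Finset.mem_union, Finset.mem_univ, true_and, not_or] at hi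
    simp only [g, f, if_neg hi.1, if_neg hi.2, one_mul]

/-- Rotate two complementary blocks to zero sums with total product one. -/
theorem solve_two [DecidableEq F] {ι : Type*} [Fintype ι] [DecidableEq ι] (A : Finset ι) (a : ι → F)
    (hcop : Nat.Coprime (Nat.gcd A.card Aᶜ.card) (q + 1))
    (hA : 4 ≤ (A.filter fun i => a i ≠ 0).card) (hB : 4 ≤ (Aᶜ.filter fun i => a i ≠ 0).card) :
    ∃ f : ι → F, (∀ i, Circ q (f i)) ∧ ∏ i, f i = 1 ∧ (∑ i ∈ A, f i * a i = 0) ∧
      ∑ i ∈ Aᶜ, f i * a i = 0 := by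
  classical
  have key : ∀ P : Finset ι, 4 ≤ (P.filter fun i => a i ≠ 0).card →
      ∃ f : ι → F, (∀ i, Circ q (f i)) ∧ ∑ i ∈ P, f i * a i = 0 := fun P hP => by
    obtain ⟨f, hf, h⟩ := solve hF _ a hP fun i hi => (Finset.mem_filter.mp hi).2
    refine ⟨f, hf, ?_⟩
    rw [Finset.sum_filter] at h
    refine Eq.trans (Finset.sum_congr rfl fun i _ => ?_) h
    split_ifs with hi
    · rfl
    · push Not at hi; rw [hi, mul_zero]
  obtain ⟨fA, hfA, sA⟩ := key A hA
  obtain ⟨fB, hfB, sB⟩ := key _ hB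
  let d : F := (∏ i ∈ A, fA i) * ∏ i ∈ Aᶜ, fB i
  have hdc : Circ q d := (Circ.prod fun i _ => hfA i).mul (Circ.prod fun i _ => hfB i)
  have hd1 : d⁻¹ ^ ((q + 1 : ℕ) : ℤ) = 1 := by
    rw [zpow_natCast, pow_succ']
    exact hdc.inv
  obtain ⟨x, y, hxy⟩ : ∃ x y : ℤ, (A.card : ℤ) * x + (Aᶜ.card : ℤ) * y =
      (Nat.gcd A.card Aᶜ.card : ℕ) := ⟨_, _, (Nat.gcd_eq_gcd_ab _ _).symm⟩
  obtain ⟨u, v, huv⟩ : ∃ u v : ℤ, ((Nat.gcd A.card Aᶜ.card : ℕ) : ℤ) * u + ((q + 1 : ℕ) : ℤ) * v = 1 :=
    ⟨_, _, by rw [← Nat.gcd_eq_gcd_ab, hcop.gcd_eq_one, Nat.cast_one]⟩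
  let νA := d⁻¹ ^ (x * u)
  let νB := d⁻¹ ^ (y * u)
  refine ⟨fun i => if i ∈ A then νA * fA i else νB * fB i, fun i => ?_, ?_, ?_, ?_⟩
  · dsimp only
    split_ifs
    exacts [(hdc.inv.zpow _).mul (hfA i), (hdc.inv.zpow _).mul (hfB i)]
  · rw [← Finset.prod_mul_prod_compl A, Finset.prod_congr rfl (fun i hi => by rw [if_pos hi] :
        ∀ i ∈ A, (if i ∈ A then νA * fA i else νB * fB i) = νA * fA i),
      Finset.prod_congr rfl (fun i hi => by rw [if_neg (Finset.mem_compl.mp hi)] :
        ∀ i ∈ Aᶜ, (if i ∈ A then νA * fA i else νB * fB i) = νB * fB i),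
      Finset.prod_mul_distrib, Finset.prod_mul_distrib, Finset.prod_const, Finset.prod_const,
      mul_mul_mul_comm]
    show νA ^ A.card * νB ^ Aᶜ.card * d = 1
    have hd0 : d⁻¹ ≠ 0 := inv_ne_zero hdc.ne_zero
    have he : νA ^ A.card * νB ^ Aᶜ.card = d⁻¹ := by
      rw [← zpow_natCast, ← zpow_natCast, ← zpow_mul, ← zpow_mul, ← zpow_add₀ hd0,
        show x * u * (A.card : ℤ) + y * u * (Aᶜ.card : ℤ) = 1 - ((q + 1 : ℕ) : ℤ) * v by
          rw [← huv, ← hxy]; ring,
        zpow_sub₀ hd0, zpow_mul, hd1, one_zpow, zpow_one, div_one]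
    rw [he, inv_mul_cancel₀ hdc.ne_zero]
  · rw [Finset.sum_congr rfl (fun i hi => by rw [if_pos hi, mul_assoc] :
      ∀ i ∈ A, (if i ∈ A then νA * fA i else νB * fB i) * a i = νA * (fA i * a i)),
      ← Finset.mul_sum, sA, mul_zero]
  · rw [Finset.sum_congr rfl (fun i hi => by rw [if_neg (Finset.mem_compl.mp hi), mul_assoc] :
      ∀ i ∈ Aᶜ, (if i ∈ A then νA * fA i else νB * fB i) * a i = νB * (fB i * a i)),
      ← Finset.mul_sum, sB, mul_zero]

/-- A non-trivial rotation of two real summands whose total has norm one. -/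
theorem exists_norm_sum {a b r : F} (ha : a ^ q = a) (hb : b ^ q = b) (ha0 : a ≠ 0) (hb0 : b ≠ 0)
    (hr : a + b + r = 1) :
    ∃ l1 l2 l3, Circ q l1 ∧ Circ q l2 ∧ Circ q l3 ∧ l1 * a + l2 * b + l3 * r = 1 ∧
      (l1 ≠ l2 ∨ (r = 0 ∧ l3 ≠ l1)) := by
  classical
  by_cases hr0 : r = 0
  · obtain ⟨κ, hκ, hκ1⟩ := exists_circ_ne_one hF
    exact ⟨1, 1, κ, Circ.one, Circ.one, hκ, by
      rw [hr0] at hr ⊢; linear_combination hr, Or.inr ⟨hr0, hκ1⟩⟩
  have hrq : r ^ q = r := by
    have : r = 1 - a - b := by linear_combination hr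
    rw [this, H50.sub_pow_q hF, H50.sub_pow_q hF, one_pow, ha, hb]
  have h1 := card_rng_real hF ha0 hb0 (by rw [ha, hb])
  have h2 := card_rng_real hF (one_ne_zero (α := F)) (neg_ne_zero.mpr hr0)
    (by rw [one_pow, H50.neg_pow_q hF, hrq])
  have hu : (rng q a b ∪ rng q 1 (-r)).card ≤ q :=
    (Finset.card_le_card (Finset.union_subset (rng_subset_reals hF _ _)
      (rng_subset_reals hF _ _))).trans (card_reals hF).le
  have := Finset.card_union_add_card_inter (rng q a b) (rng q 1 (-r))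
  obtain ⟨v, hv, hvne⟩ := Finset.exists_mem_notMem_of_card_lt_card
    (s := ({(a + b) * (a + b) ^ q} : Finset F)) (t := rng q a b ∩ rng q 1 (-r))
    (by rw [Finset.card_singleton]; omega)
  rw [Finset.mem_inter, mem_rng, mem_rng] at hv
  rw [Finset.mem_singleton] at hvne
  obtain ⟨⟨m, hm, hmv⟩, ν, hν, hνv⟩ := hv
  have hm1 : m ≠ 1 := by
    rintro rfl; exact hvne (by rw [← hmv, one_mul])
  by_cases h0 : a + m * b = 0
  · refine ⟨1, m, ν, Circ.one, hm, hν, ?_, Or.inl (Ne.symm hm1)⟩
    have h0' : 1 + ν * -r = 0 := by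
      have : (1 + ν * -r) * (1 + ν * -r) ^ q = 0 := by rw [hνv, ← hmv, h0, zero_mul]
      rcases mul_eq_zero.mp this with h | h
      · exact h
      · exact eq_zero_of_pow_eq_zero h
    linear_combination h0 - h0'
  · have hρ : Circ q ((1 + ν * -r) / (a + m * b)) := circ_div_of_norm h0 (hνv.trans hmv.symm)
    refine ⟨_, _, ν, hρ, hρ.mul hm, hν, ?_, Or.inl fun h => hm1 ?_⟩
    · field_simp
      ring
    · exact mul_left_cancel₀ hρ.ne_zero (h.symm.trans (mul_one _).symm)

/-- The number of skew scalars. -/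
theorem card_skew [DecidableEq F] :
    ((Finset.univ : Finset F).filter fun x => x + x ^ q = 0).card = q := by
  rw [← Fintype.card_subtype, ← Nat.card_eq_fintype_card]
  refine Eq.trans ?_ (H50.card_trace_ker hF)
  exact Nat.card_congr (Equiv.subtypeEquivRight fun x => Iff.rfl)

theorem exists_skew_ne {t : ℕ} (avoid : Finset F) (h : avoid.card = t) (ht : t + 1 < q) :
    ∃ s : F, s + s ^ q = 0 ∧ s ≠ 0 ∧ s ∉ avoid := by
  classical
  obtain ⟨s, hs, hs'⟩ := Finset.exists_mem_notMem_of_card_lt_card (s := insert 0 avoid)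
    (t := (Finset.univ : Finset F).filter fun x => x + x ^ q = 0)
    (lt_of_le_of_lt (Finset.card_insert_le _ _) (by rw [card_skew hF]; omega))
  rw [Finset.mem_filter] at hs
  rw [Finset.mem_insert, not_or] at hs'
  exact ⟨s, hs.2, hs'.1, hs'.2⟩

theorem exists_skew : ∃ s : F, s + s ^ q = 0 ∧ s ≠ 0 := by
  obtain ⟨s, h1, h2, -⟩ := exists_skew_ne hF (t := 0) ∅ rfl (by have := H50.two_le hF; omega)
  exact ⟨s, h1, h2⟩

/-- Three real summands with total zero, one of which absorbs a skew scalar. -/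
theorem exists_kill_three {a b c : F} (ha : a ^ q = a) (hb : b ^ q = b) (ha0 : a ≠ 0) (hb0 : b ≠ 0)
    (habc : a + b + c = 0) :
    ∃ l1 l2 s, Circ q l1 ∧ Circ q l2 ∧ s + s ^ q = 0 ∧ s ≠ 0 ∧ l1 * a + l2 * b + c = s := by
  classical
  have hc : c ^ q = c := by
    have : c = -a - b := by linear_combination habc
    rw [this, H50.sub_pow_q hF, H50.neg_pow_q hF, ha, hb]
  have h2 := H50.two_le hF
  let S := ((Finset.univ : Finset F).filter fun x => x + x ^ q = 0).erase 0
  let g : F → F := fun s => (s - c) * (s - c) ^ q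
  have hg : ∀ s : F, s + s ^ q = 0 → g s = c * c - s * s := fun s hs => by
    simp only [g, H50.sub_pow_q hF, hc]
    linear_combination (s - c) * hs
  have hS : S.card = q - 1 := by
    rw [Finset.card_erase_of_mem (by simp [H50.q_ne_zero hF, zero_pow]), card_skew hF]
  have hcS : S.card ≤ 2 * (S.image g).card := by
    refine Finset.card_le_mul_card_image _ 2 fun v hv => ?_
    obtain ⟨s₀, hs₀, rfl⟩ := Finset.mem_image.mp hv
    refine (Finset.card_le_card (t := {s₀, -s₀}) fun s hs => ?_).trans Finset.card_le_two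
    simp only [S, Finset.mem_filter, Finset.mem_erase, Finset.mem_univ, true_and] at hs hs₀
    rw [hg s hs.1.2, hg s₀ hs₀.2] at hs
    rw [Finset.mem_insert, Finset.mem_singleton]
    exact (mul_self_eq_mul_self_iff).mp (sub_right_inj.mp hs.2)
  have hR : S.image g ⊆ (reals q F).erase (c * c) := by
    intro v hv
    obtain ⟨s, hs, rfl⟩ := Finset.mem_image.mp hv
    simp only [S, Finset.mem_filter, Finset.mem_erase, Finset.mem_univ, true_and] at hs
    rw [Finset.mem_erase, mem_reals]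
    refine ⟨fun h => ?_, by simp only [g]; rw [mul_pow, H50.pow_q_pow_q hF, mul_comm]⟩
    rw [hg s hs.2, sub_eq_self, mul_self_eq_zero] at h
    exact hs.1 h
  have hA := card_rng_real hF ha0 hb0 (by rw [ha, hb])
  obtain ⟨v, hv⟩ : ((rng q a b).erase (c * c) ∩ S.image g).Nonempty := by
    rw [← Finset.card_pos]
    have hu : ((rng q a b).erase (c * c) ∪ S.image g).card ≤ q - 1 := by
      refine (Finset.card_le_card (Finset.union_subset
        (Finset.erase_subset_erase _ (rng_subset_reals hF a b)) hR)).trans ?_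
      rw [Finset.card_erase_of_mem (mem_reals.mpr (by rw [mul_pow, hc])), card_reals hF]
    have := Finset.card_union_add_card_inter ((rng q a b).erase (c * c)) (S.image g)
    have := Finset.pred_card_le_card_erase (s := rng q a b) (a := c * c)
    omega
  rw [Finset.mem_inter, Finset.mem_erase, mem_rng, Finset.mem_image] at hv
  obtain ⟨⟨hvne, m, hm, hmv⟩, s, hs, hsv⟩ := hv
  simp only [S, Finset.mem_filter, Finset.mem_erase, Finset.mem_univ, true_and] at hs
  have hsv' : (s - c) * (s - c) ^ q = v := hsv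
  by_cases h0 : a + m * b = 0
  · have : s - c = 0 := by
      have : (s - c) * (s - c) ^ q = 0 := by rw [hsv', ← hmv, h0, zero_mul]
      rcases mul_eq_zero.mp this with h | h
      · exact h
      · exact eq_zero_of_pow_eq_zero h
    exact ⟨1, m, s, Circ.one, hm, hs.2, hs.1, by linear_combination h0 - this⟩
  · have hρ : Circ q ((s - c) / (a + m * b)) := circ_div_of_norm h0 (hsv'.trans hmv.symm)
    refine ⟨_, _, s, hρ, hρ.mul hm, hs.2, hs.1, ?_⟩
    field_simp
    ring

end H41.UDec
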